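import Cfsg.Prelude.Def_LieTypeChar
import Cfsg.Agent.TwoFusion.SLTwoFacts
import Cfsg.Agent.S0249
import Cfsg.Agent.S0270
import Cfsg.Agent.S0283
import Cfsg.Agent.S0295
import Cfsg.Agent.S0296
import Cfsg.Agent.S0297
import Cfsg.Agent.S1162
import Cfsg.Agent.S1054
import Cfsg.Agent.S1055
import Cfsg.Agent.S1070
import Cfsg.Agent.S1071
import Cfsg.Agent.S1072
import Cfsg.Agent.S1073

/-!
# The groups of Lie type of characteristic `p` are simple
-/

set_option autoImplicit false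

namespace Cfsg.Agent.H400.LieSimple

/-- **Every group in `IsLieTypeChar p` is simple.** -/
theorem isSimple_of_lie {p : ℕ} {G : Type*} [Group G] (hG : Cfsg.IsLieTypeChar p G) : IsSimpleGroup G := by
  rcases hG with h | h | h | h | h | h | h | h | h | h | h
  · obtain ⟨F, i1, i2, i3, n, hn, h4, ⟨e⟩⟩ := h
    by_cases h2 : n = 2
    · subst h2
      have := Cfsg.Agent.TwoFusion.SLTwoFacts.isSimpleGroup_psl (F := F) (h4 rfl)
      exact e.isSimpleGroup
    · have := Cfsg.Agent.S0249.result (F := F) n (by omega)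
      exact e.isSimpleGroup
  · obtain ⟨F, i1, i2, i3, m, hm, h3, ⟨e⟩⟩ := h
    have := Cfsg.Agent.S0270.result (F := F) m hm h3
    exact e.isSimpleGroup
  · obtain ⟨F, i1, i2, i3, n, q, hF, hn, h3, ⟨e⟩⟩ := h
    have := Cfsg.Agent.S0283.result hF n hn h3
    exact e.isSimpleGroup
  · obtain ⟨F, i1, i2, i3, m, hm, hodd, ⟨e⟩⟩ := h
    have := Cfsg.Agent.S0295.result (F := F) hodd m hm
    exact e.isSimpleGroup
  · obtain ⟨F, i1, i2, i3, m, hm, ⟨e⟩⟩ := h
    have := Cfsg.Agent.S0296.result (F := F) m hm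
    exact e.isSimpleGroup
  · obtain ⟨F, i1, i2, i3, m, a, b, hm, hab, ⟨e⟩⟩ := h
    have := Cfsg.Agent.S0297.result (F := F) m hm a b hab
    exact e.isSimpleGroup
  · obtain ⟨F, i1, i2, i3, h⟩ := h
    rcases h with ⟨h3, ⟨e⟩⟩ | ⟨⟨e⟩⟩ | ⟨⟨e⟩⟩ | ⟨⟨e⟩⟩ | ⟨⟨e⟩⟩
    · have hF : ∃ a : F, a ≠ 0 ∧ a ≠ 1 := by
        classical
        by_contra hcon
        push Not at hcon
        have h1 : (Finset.univ : Finset F) ⊆ {0, 1} := by
          intro x _
          rw [Finset.mem_insert, Finset.mem_singleton]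
          by_cases hx : x = 0
          · exact Or.inl hx
          · exact Or.inr (hcon x hx)
        have h2 := (Finset.card_le_card h1).trans Finset.card_le_two
        rw [Finset.card_univ] at h2
        omega
      have := (Cfsg.Agent.S1055.result hF).1
      exact e.isSimpleGroup
    · have := (Cfsg.Agent.S1054.result (F := F) Cfsg.Lie.chevF4 (by simp)).1
      exact e.isSimpleGroup
    · have := (Cfsg.Agent.S1054.result (F := F) Cfsg.Lie.chevE6 (by simp)).1
      exact e.isSimpleGroup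
    · have := (Cfsg.Agent.S1054.result (F := F) Cfsg.Lie.chevE7 (by simp)).1
      exact e.isSimpleGroup
    · have := (Cfsg.Agent.S1054.result (F := F) Cfsg.Lie.chevE8 (by simp)).1
      exact e.isSimpleGroup
  · obtain ⟨K, i1, i2, i3, q, hq, ⟨hK, ⟨e⟩⟩ | ⟨hK, ⟨e⟩⟩⟩ := h
    · have := (Cfsg.Agent.S1070.result hq hK).1
      exact e.isSimpleGroup
    · have := (Cfsg.Agent.S1071.result hq hK).1
      exact e.isSimpleGroup
  · obtain ⟨-, K, i1, i2, m, hm, hK, ⟨e⟩⟩ := h
    have := Cfsg.Agent.S1162.result hm hK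
    exact e.isSimpleGroup
  · obtain ⟨-, K, i1, i2, m, hm, hK, ⟨e⟩⟩ := h
    have := (Cfsg.Agent.S1072.result hm hK).1
    exact e.isSimpleGroup
  · obtain ⟨-, K, i1, i2, m, hm, hK, ⟨e⟩⟩ := h
    have := (Cfsg.Agent.S1073.result hm hK).1
    exact e.isSimpleGroup

end Cfsg.Agent.H400.LieSimple
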