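import Cfsg.Agent.BpLieP.Ree
import Cfsg.Agent.KFacts.RgdLieCharP
import Cfsg.Agent.EvenType.ChevTwoF4
import Cfsg.Agent.OddCyclic.FFSz
import Cfsg.Agent.FixBN.SplitRGD
import Cfsg.Agent.Nodes.RGDLib
import Cfsg.Agent.OddOrderLocal.Equivariance
import Cfsg.Agent.H400.LieSimple

/-!
# The `p`-local subgroups of the groups of Lie type of characteristic `p`

* `local_char_of_lie` : `C_N(O_p(N)) ≤ O_p(N)` for the normalisers `N` of the nontrivial `p`-subgroups of a group of Lie
  type of characteristic `p` which is not a Suzuki group;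
* `ti_of_suzuki` : the Sylow `2`-subgroups of the Suzuki groups are TI.
-/

set_option autoImplicit false
set_option linter.unusedSectionVars false

namespace Cfsg.Agent.H400.LieLocal

open Subgroup Cfsg
open Cfsg.Agent.BpLieP.Big (LocChar)
open Cfsg.Agent.FixBN (HasSplit SplitRGD.hasSplit_of_rgd)

/-- Having characteristic-`p` local subgroups is invariant under isomorphism. -/
theorem locChar_congr {G H : Type*} [Group G] [Group H] (e : G ≃* H) {p : ℕ} (h : LocChar p H) : LocChar p G := by
  intro K hK hK1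
  obtain ⟨K', hK'⟩ : ∃ K' : Subgroup H, K' = K.map e.toMonoidHom := ⟨_, rfl⟩
  have hKp : IsPGroup p ↥K' := by
    rw [hK']
    exact hK.map _
  have hK1' : K' ≠ ⊥ := by
    rw [hK']
    intro h0
    exact hK1 ((Subgroup.map_eq_bot_iff_of_injective K (f := e.toMonoidHom) e.injective).1 h0)
  have h1 := h K' hKp hK1'
  have hN : (normalizer (K' : Set H)) = (normalizer (K : Set G)).map e.toMonoidHom := by
    rw [hK']
    ext y
    constructor
    · intro hy
      refine ⟨e.symm y, ?_, e.apply_symm_apply y⟩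
      show e.symm y ∈ normalizer (K : Set G)
      rw [mem_normalizer_iff] at hy ⊢
      intro k
      have h2 := hy (e k)
      constructor
      · intro hk
        obtain ⟨z, hz, hz2⟩ := h2.1 ⟨k, hk, rfl⟩
        have h3 : e.symm y * k * (e.symm y)⁻¹ = z := by
          apply e.injective
          rw [map_mul, map_mul, map_inv, e.apply_symm_apply]
          exact hz2.symm
        rw [h3]
        exact hz
      · intro hk
        obtain ⟨z, hz, hz2⟩ := h2.2 ⟨_, hk, by
          show e (e.symm y * k * (e.symm y)⁻¹) = _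
          rw [map_mul, map_mul, map_inv, e.apply_symm_apply]⟩
        have h3 : z = k := e.injective hz2
        rwa [← h3]
    · rintro ⟨x, hx, rfl⟩
      have hx' : x ∈ normalizer (K : Set G) := hx
      rw [mem_normalizer_iff] at hx' ⊢
      intro k
      constructor
      · rintro ⟨z, hz, rfl⟩
        exact ⟨x * z * x⁻¹, (hx' z).1 hz, by
          show e (x * z * x⁻¹) = e x * e z * (e x)⁻¹
          rw [map_mul, map_mul, map_inv]⟩
      · rintro ⟨z, hz, hz2⟩
        have h4 : z = x * e.symm k * x⁻¹ := by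
          apply e.injective
          rw [map_mul, map_mul, map_inv, e.apply_symm_apply]
          exact hz2
        rw [h4] at hz
        exact ⟨e.symm k, (hx' _).2 hz, e.apply_symm_apply k⟩
  let f : ↥(normalizer (K : Set G)) ≃* ↥(normalizer (K' : Set H)) :=
    (e.subgroupMap _).trans (MulEquiv.subgroupCongr hN.symm)
  have hf := Cfsg.Agent.OddOrderLocal.Equivariance.pCore_map f p
  intro c hc
  have hc' : f c ∈ centralizer (pCore p ↥(normalizer (K' : Set H)) : Set ↥(normalizer (K' : Set H))) := by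
    rw [mem_centralizer_iff]
    intro z hz
    rw [SetLike.mem_coe, ← hf] at hz
    obtain ⟨w, hw, rfl⟩ := hz
    show f w * f c = f c * f w
    rw [← map_mul, ← map_mul, (mem_centralizer_iff.1 hc) w hw]
  have h2 := h1 hc'
  rw [← hf] at h2
  obtain ⟨w, hw, hw2⟩ := h2
  have h3 : w = c := f.injective hw2
  rwa [← h3]

/-- The centre of a simple group with a split pair is trivial. -/
theorem center_eq_bot {K : Type*} [Group K] [hs : IsSimpleGroup K] {p : ℕ} (hK : HasSplit p K) : center K = ⊥ := by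
  rcases hs.eq_bot_or_eq_top_of_normal (center K) inferInstance with h5 | h5
  · exact h5
  · exfalso
    obtain ⟨P, U, hSn, hS⟩ := hK
    obtain ⟨s, hsS⟩ := hSn
    have hB : P.B ≤ P.B.normalCore := by
      intro b hb g
      have : g * b * g⁻¹ = b := by
        rw [mem_center_iff.mp (h5 ▸ mem_top b : b ∈ center K) g]; group
      rw [this]; exact hb
    rw [hS.core, le_bot_iff] at hB
    obtain ⟨V, hV⟩ := hS.node s hsS
    obtain ⟨u, hu, huV⟩ := hV.ne
    have : u = 1 := by
      have h5 := hS.le hu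
      rw [hB, mem_bot] at h5
      exact h5
    exact huV (this ▸ one_mem _)

/-- a nontrivial group has no root group datum of rank zero -/
theorem hasSplit_of_rgd {p : ℕ} (hp : p.Prime) {G : Type*} [Group G] [IsSimpleGroup G]
    (h : Nodes.RGDChev.HasRGD p G) : HasSplit p G := by
  obtain ⟨l, M, A, h, T, n, X, hW, R, hX⟩ := h
  rcases Nat.eq_zero_or_pos l with rfl | hl
  · exfalso
    have h1 : Nodes.RGDLib.G1 M.toCoxeterSystem h X = ⊥ := by
      rw [eq_bot_iff]
      unfold Nodes.RGDLib.G1 Nodes.BNOf.RGD.Sup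
      refine iSup_le ?_
      rintro ⟨x, w, i, -⟩
      exact i.elim0
    rw [h1] at hX
    obtain ⟨x, y, hxy⟩ := exists_pair_ne G
    have h2 : ∀ z : G, z = 1 := fun z => mem_bot.1 (by rw [hX]; trivial)
    exact hxy ((h2 x).trans (h2 y).symm)
  · have : Nonempty (Fin l) := ⟨⟨0, hl⟩⟩
    exact Cfsg.Agent.FixBN.SplitRGD.hasSplit_of_rgd hp R (by
      rw [eq_top_iff, ← hX]
      exact Nodes.RGDLib.rgd_G1_le R)

theorem exists_noncomm {G : Type*} [Group G] [IsSimpleGroup G] (h : center G = ⊥) : ∃ a b : G, a * b ≠ b * a := by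
  by_contra hcon
  push Not at hcon
  obtain ⟨x, y, hxy⟩ := exists_pair_ne G
  have h1 : ∀ z : G, z = 1 := by
    intro z
    have h2 : z ∈ center G := by
      rw [mem_center_iff]
      intro g
      exact hcon g z
    rwa [h, mem_bot] at h2
  exact hxy ((h1 x).trans (h1 y).symm)

/-- **The families with a filtered root group datum.** -/
theorem locChar_of_filt {p : ℕ} [hp : Fact p.Prime] {G : Type*} [Group G] [Finite G] [IsSimpleGroup G]
    (h : KFacts.RgdFilt.HasFilt p G) : LocChar p G := by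
  intro K hK hK1
  exact h.local_char (exists_noncomm (center_eq_bot (hasSplit_of_rgd hp.out h.hasRGD))) hK hK1

theorem locChar_ree {G : Type*} [Group G] (h : Lie.IsoRee G) : LocChar 3 G := by
  obtain ⟨K, _, _, m, hm, hK, ⟨e⟩⟩ := h
  obtain ⟨U, h, n, D⟩ := ChevalleyStructure.Ree.Data.exists_data (K := K) hK
  have hfin : Finite ↥(Lie.twistedG2 K (3 ^ m)) := Cfsg.Agent.LieRecognition.ReeSylowThree.finite D
  exact locChar_congr e (Cfsg.Agent.BpLieP.Ree.locChar hK D)

/-- **The `p`-local subgroups of a group of Lie type of characteristic `p` have characteristic `p`.** -/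
theorem local_char_of_lie {p : ℕ} [hp : Fact p.Prime] {G : Type*} [Group G] [Finite G]
    (hG : Cfsg.IsLieTypeChar p G) (hsz : ¬ (p = 2 ∧ Lie.IsoSuzuki G)) : LocChar p G := by
  have hs := LieSimple.isSimple_of_lie hG
  rcases hG with h | h | h | h | h | h | h | h | h | ⟨rfl, h⟩ | ⟨rfl, h⟩
  · exact locChar_of_filt (KFacts.RgdLieCharP.hasFilt_of_lie (Or.inl h))
  · exact locChar_of_filt (KFacts.RgdLieCharP.hasFilt_of_lie (Or.inr (Or.inl h)))
  · exact locChar_of_filt (KFacts.RgdLieCharP.hasFilt_of_lie (Or.inr (Or.inr (Or.inl h))))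
  · exact locChar_of_filt (KFacts.RgdLieCharP.hasFilt_of_lie (Or.inr (Or.inr (Or.inr (Or.inl h)))))
  · exact locChar_of_filt (KFacts.RgdLieCharP.hasFilt_of_lie (Or.inr (Or.inr (Or.inr (Or.inr (Or.inl h))))))
  · exact locChar_of_filt (KFacts.RgdLieCharP.hasFilt_of_lie (Or.inr (Or.inr (Or.inr (Or.inr (Or.inr (Or.inl h)))))))
  · exact locChar_of_filt (KFacts.RgdLieCharP.hasFilt_of_lie
      (Or.inr (Or.inr (Or.inr (Or.inr (Or.inr (Or.inr (Or.inl h))))))))
  · exact locChar_of_filt (KFacts.RgdLieCharP.hasFilt_of_lie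
      (Or.inr (Or.inr (Or.inr (Or.inr (Or.inr (Or.inr (Or.inr h))))))))
  · exact absurd h hsz
  · exact (Cfsg.Agent.EvenType.ChevTwoF4.charTwo h).2
  · exact locChar_ree h

/-- **The Sylow `2`-subgroups of the Suzuki groups are TI.** -/
theorem ti_of_suzuki {G : Type*} [Group G] [Finite G] (h : Lie.IsoSuzuki G) (P : Sylow 2 G) (x : G)
    (hx : ∃ y ∈ (P : Subgroup G), y ≠ 1 ∧ x⁻¹ * y * x ∈ (P : Subgroup G)) :
    ∀ y ∈ (P : Subgroup G), x⁻¹ * y * x ∈ (P : Subgroup G) := by
  obtain ⟨y, hy, hy1, hyx⟩ := hx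
  have : Fact (Nat.Prime 2) := ⟨Nat.prime_two⟩
  have hmem : ∀ z : G, z ∈ (x • P : Sylow 2 G) ↔ x⁻¹ * z * x ∈ P := fun z =>
    Cfsg.Agent.OddCyclic.FFSz.mem_smul
  have h1 : P = x • P := Cfsg.Agent.OddCyclic.FFSz.sylow_ti h hy ((hmem y).2 hyx) hy1
  intro z hz
  exact (hmem z).1 (by rw [← h1]; exact hz)

end Cfsg.Agent.H400.LieLocal
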