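import Cfsg.Agent.S0906
import Cfsg.Agent.S0908
import Cfsg.Agent.S0955
import Cfsg.Agent.S0956

/-!
# Blocks of groups in which every p-local subgroup has characteristic p, or with TI Sylow p-subgroups

* `defect_of_local` : if `C_N(O_p(N)) ≤ O_p(N)` for all normalisers `N` of nontrivial `p`-subgroups then every
  `p`-block has defect `0` or full defect;
* `defect_of_ti` : the same for groups with TI Sylow `p`-subgroups.
-/

set_option autoImplicit false

namespace Cfsg.Agent.H400.BlockDefect

open Cfsg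

set_option linter.unusedSectionVars false

variable {G : Type*} [Group G] [Finite G] {p : ℕ} [Fact p.Prime]

theorem exists_defectGroup {M : Ideal AlgInt} (hM : IsPModular p M) {B : Set (IrrCharacter G)}
    (hB : IsPBlock M B) : ∃ D : Subgroup G, IsDefectGroup p M B D := by
  obtain ⟨g, hg⟩ := Cfsg.Agent.S0906.result p M hM B hB
  obtain ⟨P⟩ : Nonempty (Sylow p (Subgroup.centralizer ({g} : Set G))) := inferInstance
  exact ⟨_, g, hg, P, rfl⟩

theorem isPGroup_defectGroup {M : Ideal AlgInt} {B : Set (IrrCharacter G)} {D : Subgroup G}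
    (hD : IsDefectGroup p M B D) : IsPGroup p D := by
  obtain ⟨g, -, P, rfl⟩ := hD
  exact P.isPGroup'.map _

/-- A block with trivial or Sylow defect groups has defect `0` or full defect. -/
theorem defect_of {M : Ideal AlgInt} (hM : IsPModular p M) {B : Set (IrrCharacter G)}
    (hB : IsPBlock M B) {D : Subgroup G} (hD : IsDefectGroup p M B D)
    (h : D = ⊥ ∨ ∃ P : Sylow p G, (P : Subgroup G) = D) :
    blockDefect p B = 0 ∨ blockDefect p B = (Nat.card G).factorization p := by
  have h1 := Cfsg.Agent.S0908.result p M hM B hB D hD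
  have hp : 1 < p := (Fact.out : p.Prime).one_lt
  rcases h with h | ⟨P, rfl⟩
  · left
    rw [h, Subgroup.card_bot] at h1
    exact Nat.pow_right_injective hp (by simpa using h1.symm)
  · right
    have h2 : Nat.card (P : Subgroup G) = p ^ (Nat.card G).factorization p := P.card_eq_multiplicity
    exact Nat.pow_right_injective hp (h1.symm.trans h2)

/-- **Characteristic `p` type.** -/
theorem defect_of_local
    (hloc : ∀ K : Subgroup G, IsPGroup p K → K ≠ ⊥ →
      Subgroup.centralizer (pCore p ↥(Subgroup.normalizer (K : Set G)) : Set ↥(Subgroup.normalizer (K : Set G))) ≤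
        pCore p ↥(Subgroup.normalizer (K : Set G)))
    {M : Ideal AlgInt} (hM : IsPModular p M) {B : Set (IrrCharacter G)} (hB : IsPBlock M B) :
    blockDefect p B = 0 ∨ blockDefect p B = (Nat.card G).factorization p := by
  obtain ⟨D, hD⟩ := exists_defectGroup hM hB
  have hDp := isPGroup_defectGroup hD
  refine defect_of hM hB hD ?_
  by_cases hD1 : D = ⊥
  · exact Or.inl hD1
  right
  have hrad := Cfsg.Agent.S0955.result p M hM B hB D hD
  have hcent : Subgroup.centralizer (D : Set G) ≤ D := by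
    intro x hx
    have hxN : x ∈ Subgroup.normalizer (D : Set G) := Subgroup.centralizer_le_normalizer _ hx
    have h1 : (⟨x, hxN⟩ : ↥(Subgroup.normalizer (D : Set G))) ∈
        pCore p ↥(Subgroup.normalizer (D : Set G)) := by
      apply hloc D hDp hD1
      rw [Subgroup.mem_centralizer_iff]
      intro y hy
      have hyD : (y : G) ∈ D := hrad.le ⟨y, hy, rfl⟩
      apply Subtype.ext
      exact Subgroup.mem_centralizer_iff.1 hx y hyD
    exact hrad.le ⟨_, h1, rfl⟩
  obtain ⟨P, hP⟩ := hDp.exists_le_sylow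
  obtain ⟨x, hx, ⟨S, hS⟩, hPD⟩ := Cfsg.Agent.S0956.result p M hM B hB D hD P hP
  have hxD : x ∈ D := by
    apply hcent
    rw [Subgroup.mem_centralizer_iff]
    intro y hy
    rw [← hS] at hy
    obtain ⟨z, -, rfl⟩ := hy
    exact (Subgroup.mem_centralizer_iff.1 z.2 x rfl).symm
  have hx1 : x = 1 := by
    obtain ⟨k, hk⟩ := hDp ⟨x, hxD⟩
    have h2 : x ^ p ^ k = 1 := by
      have := congrArg Subtype.val hk
      simpa using this
    have h3 := orderOf_dvd_of_pow_eq_one h2
    obtain ⟨j, -, hj⟩ := (Nat.dvd_prime_pow (Fact.out : p.Prime)).1 h3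
    rcases Nat.eq_zero_or_pos j with h0 | h0
    · rw [h0, pow_zero] at hj
      exact orderOf_eq_one_iff.1 hj
    · exfalso
      apply hx
      rw [hj]
      exact dvd_pow_self p (by omega)
  refine ⟨P, ?_⟩
  rw [← hPD, hx1]
  have h4 : (P : Subgroup G).map (MulAut.conj (1 : G)).toMonoidHom = P := by
    ext y
    simp
  rw [h4, inf_idem]

/-- **TI Sylow `p`-subgroups.** -/
theorem defect_of_ti
    (hTI : ∀ (P : Sylow p G) (x : G), (∃ y ∈ (P : Subgroup G), y ≠ 1 ∧ x⁻¹ * y * x ∈ (P : Subgroup G)) →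
      ∀ y ∈ (P : Subgroup G), x⁻¹ * y * x ∈ (P : Subgroup G))
    {M : Ideal AlgInt} (hM : IsPModular p M) {B : Set (IrrCharacter G)} (hB : IsPBlock M B) :
    blockDefect p B = 0 ∨ blockDefect p B = (Nat.card G).factorization p := by
  obtain ⟨D, hD⟩ := exists_defectGroup hM hB
  have hDp := isPGroup_defectGroup hD
  refine defect_of hM hB hD ?_
  by_cases hD1 : D = ⊥
  · exact Or.inl hD1
  right
  obtain ⟨P, hP⟩ := hDp.exists_le_sylow
  obtain ⟨x, -, -, hPD⟩ := Cfsg.Agent.S0956.result p M hM B hB D hD P hP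
  refine ⟨P, ?_⟩
  have hmem : ∀ y, y ∈ (P : Subgroup G).map (MulAut.conj x).toMonoidHom ↔ x⁻¹ * y * x ∈ (P : Subgroup G) := by
    intro y
    constructor
    · rintro ⟨z, hz, rfl⟩
      have h6 : x⁻¹ * (MulAut.conj x z) * x = z := by simp [mul_assoc]
      show x⁻¹ * (MulAut.conj x z) * x ∈ (P : Subgroup G)
      rw [h6]
      exact hz
    · intro hy
      exact ⟨_, hy, by simp [mul_assoc]⟩
  obtain ⟨y, hy, hy1⟩ : ∃ y ∈ D, y ≠ 1 := by
    by_contra hcon
    push Not at hcon
    exact hD1 ((Subgroup.eq_bot_iff_forall D).2 hcon)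
  have hy2 : y ∈ (P : Subgroup G) ⊓ (P : Subgroup G).map (MulAut.conj x).toMonoidHom := by rwa [hPD]
  have h5 := hTI P x ⟨y, hy2.1, hy1, (hmem y).1 hy2.2⟩
  rw [← hPD]
  apply le_antisymm
  · intro z hz
    exact ⟨hz, (hmem z).2 (h5 z hz)⟩
  · exact inf_le_left

end Cfsg.Agent.H400.BlockDefect
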