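import Mathlib
import Cfsg.Agent.H400.TwoExcFast

/-!
# Tables of positive roots: `F₄`, `G₂` (hub H1, exceptional families), helper400
-/

set_option autoImplicit false
set_option linter.unusedSectionVars false
set_option Elab.async false
set_option maxHeartbeats 4000000

namespace Cfsg.Agent.H400.TwoExc

open Cfsg.Agent.Nodes.KindChev

/-- Cartan matrix -/
def AF4c : Fin 4 → Fin 4 → ℤ := ![![2, -1, 0, 0], ![-1, 2, -2, 0], ![0, -1, 2, -1], ![0, 0, -1, 2]]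

/-- Cartan matrix `F4c` -/
def CAF4c : List (List ℤ) := [[2, -1, 0, 0],
  [-1, 2, -2, 0],
  [0, -1, 2, -1],
  [0, 0, -1, 2]]

/-- symmetrizer -/
def dlF4c : List ℤ := [1, 1, 2, 2]

/-- positive roots -/
def PF4c : List (List ℤ × List ℤ × ℕ) := [
  ([0, 0, 0, 1], [0, 0, -2, 4], 1), ([0, 0, 1, 0], [0, -2, 4, -2], 1), ([0, 1, 0, 0], [-1, 2, -2, 0], 1),
  ([1, 0, 0, 0], [2, -1, 0, 0], 1), ([0, 0, 1, 1], [0, -2, 2, 2], 1), ([0, 1, 1, 0], [-1, 0, 2, -2], 1),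
  ([1, 1, 0, 0], [1, 1, -2, 0], 1), ([0, 1, 1, 1], [-1, 0, 0, 2], 1), ([0, 2, 1, 0], [-2, 2, 0, -2], 1),
  ([1, 1, 1, 0], [1, -1, 2, -2], 1), ([0, 2, 1, 1], [-2, 2, -2, 2], 1), ([1, 1, 1, 1], [1, -1, 0, 2], 1),
  ([1, 2, 1, 0], [0, 1, 0, -2], 1), ([0, 2, 2, 1], [-2, 0, 2, 0], 1), ([1, 2, 1, 1], [0, 1, -2, 2], 1),
  ([2, 2, 1, 0], [2, 0, 0, -2], 1), ([1, 2, 2, 1], [0, -1, 2, 0], 1), ([2, 2, 1, 1], [2, 0, -2, 2], 1),
  ([1, 3, 2, 1], [-1, 1, 0, 0], 1), ([2, 2, 2, 1], [2, -2, 2, 0], 1), ([2, 3, 2, 1], [1, 0, 0, 0], 1),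
  ([2, 4, 2, 1], [0, 2, -2, 0], 1), ([2, 4, 3, 1], [0, 0, 2, -2], 1), ([2, 4, 3, 2], [0, 0, 0, 2], 1)]

theorem chkF4c : chkT 4 CAF4c dlF4c (fun _ => 1) PF4c = true := by decide +kernel

theorem domF4c : domL 4 CAF4c PF4c 4 = [[2, 4, 3, 2]] := by decide +kernel

theorem gtF4c : cntF PF4c (fun z => decide (0 < z)) [2, 4, 3, 2] = 15 := by decide +kernel

/-- the exponents -/
def exF4c : List (ℕ × ℕ) := [
  (7, 8), (7, 8), (6, 9), (6, 9), (5, 10), (4, 11), (5, 10), (4, 11), (3, 12), (2, 13), (1, 14), (0, 15)]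

theorem expF4c : expF PF4c 4 = exF4c := by decide +kernel

/-- Cartan matrix -/
def AF4t : Fin 4 → Fin 4 → ℤ := ![![2, -1, 0, 0], ![-1, 2, -1, 0], ![0, -2, 2, -1], ![0, 0, -1, 2]]

/-- Cartan matrix `F4t` -/
def CAF4t : List (List ℤ) := [[2, -1, 0, 0],
  [-1, 2, -1, 0],
  [0, -2, 2, -1],
  [0, 0, -1, 2]]

/-- symmetrizer -/
def dlF4t : List ℤ := [2, 2, 1, 1]

/-- the exponents of the root groups -/
def eF4t (v : Fin 4 → ℤ) : ℕ := if qf AF4t (toV dlF4t) v v = 4 then 1 else 2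

/-- positive roots -/
def PF4t : List (List ℤ × List ℤ × ℕ) := [
  ([0, 0, 0, 1], [0, 0, -1, 2], 2), ([0, 0, 1, 0], [0, -2, 2, -1], 2), ([0, 1, 0, 0], [-2, 4, -2, 0], 1),
  ([1, 0, 0, 0], [4, -2, 0, 0], 1), ([0, 0, 1, 1], [0, -2, 1, 1], 2), ([0, 1, 1, 0], [-2, 2, 0, -1], 2),
  ([1, 1, 0, 0], [2, 2, -2, 0], 1), ([0, 1, 1, 1], [-2, 2, -1, 1], 2), ([0, 1, 2, 0], [-2, 0, 2, -2], 1),
  ([1, 1, 1, 0], [2, 0, 0, -1], 2), ([0, 1, 2, 1], [-2, 0, 1, 0], 2), ([1, 1, 1, 1], [2, 0, -1, 1], 2),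
  ([1, 1, 2, 0], [2, -2, 2, -2], 1), ([0, 1, 2, 2], [-2, 0, 0, 2], 1), ([1, 1, 2, 1], [2, -2, 1, 0], 2),
  ([1, 2, 2, 0], [0, 2, 0, -2], 1), ([1, 1, 2, 2], [2, -2, 0, 2], 1), ([1, 2, 2, 1], [0, 2, -1, 0], 2),
  ([1, 2, 2, 2], [0, 2, -2, 2], 1), ([1, 2, 3, 1], [0, 0, 1, -1], 2), ([1, 2, 3, 2], [0, 0, 0, 1], 2),
  ([1, 2, 4, 2], [0, -2, 2, 0], 1), ([1, 3, 4, 2], [-2, 2, 0, 0], 1), ([2, 3, 4, 2], [2, 0, 0, 0], 1)]

theorem chkF4t : chkT 4 CAF4t dlF4t (fun a => eF4t (toV a)) PF4t = true := by decide +kernel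

theorem domF4t : domL 4 CAF4t PF4t 4 = [[2, 3, 4, 2]] := by decide +kernel

theorem gtF4t : cntF PF4t (fun z => decide (0 < z)) [2, 3, 4, 2] = 21 := by decide +kernel

/-- the exponents -/
def exF4t : List (ℕ × ℕ) := [
  (10, 11), (10, 11), (9, 12), (8, 13), (7, 14), (6, 15), (6, 15), (5, 16), (4, 17), (2, 19), (1, 20), (0, 21)]

theorem expF4t : expF PF4t 4 = exF4t := by decide +kernel

/-- Cartan matrix -/
def AG2c : Fin 2 → Fin 2 → ℤ := ![![2, -3], ![-1, 2]]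

/-- Cartan matrix `G2c` -/
def CAG2c : List (List ℤ) := [[2, -3],
  [-1, 2]]

/-- symmetrizer -/
def dlG2c : List ℤ := [1, 3]

/-- positive roots -/
def PG2c : List (List ℤ × List ℤ × ℕ) := [
  ([0, 1], [-3, 6], 1), ([1, 0], [2, -3], 1), ([1, 1], [-1, 3], 1), ([2, 1], [1, 0], 1), ([3, 1], [3, -3], 1),
  ([3, 2], [0, 3], 1)]

theorem chkG2c : chkT 2 CAG2c dlG2c (fun _ => 1) PG2c = true := by decide +kernel

theorem domG2c : domL 2 CAG2c PG2c 6 = [[3, 2]] := by decide +kernel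

theorem gtG2c : cntF PG2c (fun z => decide (0 < z)) [3, 2] = 5 := by decide +kernel

/-- the exponents -/
def exG2c : List (ℕ × ℕ) := [
  (2, 3), (1, 4), (0, 5)]

theorem expG2c : expF PG2c 6 = exG2c := by decide +kernel

/-- Cartan matrix -/
def AG2t : Fin 2 → Fin 2 → ℤ := ![![2, -1], ![-3, 2]]

/-- Cartan matrix `G2t` -/
def CAG2t : List (List ℤ) := [[2, -1],
  [-3, 2]]

/-- symmetrizer -/
def dlG2t : List ℤ := [3, 1]

/-- the exponents of the root groups -/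
def eG2t (v : Fin 2 → ℤ) : ℕ := if qf AG2t (toV dlG2t) v v = 6 then 1 else 3

/-- positive roots -/
def PG2t : List (List ℤ × List ℤ × ℕ) := [
  ([0, 1], [-3, 2], 3), ([1, 0], [6, -3], 1), ([1, 1], [3, -1], 3), ([1, 2], [0, 1], 3), ([1, 3], [-3, 3], 1),
  ([2, 3], [3, 0], 1)]

theorem chkG2t : chkT 2 CAG2t dlG2t (fun a => eG2t (toV a)) PG2t = true := by decide +kernel

theorem domG2t : domL 2 CAG2t PG2t 6 = [[2, 3]] := by decide +kernel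

theorem gtG2t : cntF PG2t (fun z => decide (0 < z)) [2, 3] = 9 := by decide +kernel

/-- the exponents -/
def exG2t : List (ℕ × ℕ) := [
  (4, 5), (1, 8), (0, 9)]

theorem expG2t : expF PG2t 6 = exG2t := by decide +kernel

end Cfsg.Agent.H400.TwoExc
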