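import Mathlib
import Cfsg.Agent.H400.TwoExcFast

/-!
# Tables of positive roots: `E₆`, `E₇`, `E₈` (hub H1, exceptional families), helper400
-/

set_option autoImplicit false
set_option linter.unusedSectionVars false
set_option Elab.async false
set_option maxHeartbeats 4000000

namespace Cfsg.Agent.H400.TwoExc

/-- Cartan matrix `E6` -/
def CAE6 : List (List ℤ) := [[2, 0, -1, 0, 0, 0],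
  [0, 2, 0, -1, 0, 0],
  [-1, 0, 2, -1, 0, 0],
  [0, -1, -1, 2, -1, 0],
  [0, 0, 0, -1, 2, -1],
  [0, 0, 0, 0, -1, 2]]

/-- symmetrizer -/
def dlE6 : List ℤ := [1, 1, 1, 1, 1, 1]

/-- positive roots -/
def PE6 : List (List ℤ × List ℤ × ℕ) := [
  ([0, 0, 0, 0, 0, 1], [0, 0, 0, 0, -1, 2], 1), ([0, 0, 0, 0, 1, 0], [0, 0, 0, -1, 2, -1], 1),
  ([0, 0, 0, 1, 0, 0], [0, -1, -1, 2, -1, 0], 1), ([0, 0, 1, 0, 0, 0], [-1, 0, 2, -1, 0, 0], 1),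
  ([0, 1, 0, 0, 0, 0], [0, 2, 0, -1, 0, 0], 1), ([1, 0, 0, 0, 0, 0], [2, 0, -1, 0, 0, 0], 1),
  ([0, 0, 0, 0, 1, 1], [0, 0, 0, -1, 1, 1], 1), ([0, 0, 0, 1, 1, 0], [0, -1, -1, 1, 1, -1], 1),
  ([0, 0, 1, 1, 0, 0], [-1, -1, 1, 1, -1, 0], 1), ([0, 1, 0, 1, 0, 0], [0, 1, -1, 1, -1, 0], 1),
  ([1, 0, 1, 0, 0, 0], [1, 0, 1, -1, 0, 0], 1), ([0, 0, 0, 1, 1, 1], [0, -1, -1, 1, 0, 1], 1),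
  ([0, 0, 1, 1, 1, 0], [-1, -1, 1, 0, 1, -1], 1), ([0, 1, 0, 1, 1, 0], [0, 1, -1, 0, 1, -1], 1),
  ([0, 1, 1, 1, 0, 0], [-1, 1, 1, 0, -1, 0], 1), ([1, 0, 1, 1, 0, 0], [1, -1, 0, 1, -1, 0], 1),
  ([0, 0, 1, 1, 1, 1], [-1, -1, 1, 0, 0, 1], 1), ([0, 1, 0, 1, 1, 1], [0, 1, -1, 0, 0, 1], 1),
  ([0, 1, 1, 1, 1, 0], [-1, 1, 1, -1, 1, -1], 1), ([1, 0, 1, 1, 1, 0], [1, -1, 0, 0, 1, -1], 1),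
  ([1, 1, 1, 1, 0, 0], [1, 1, 0, 0, -1, 0], 1), ([0, 1, 1, 1, 1, 1], [-1, 1, 1, -1, 0, 1], 1),
  ([0, 1, 1, 2, 1, 0], [-1, 0, 0, 1, 0, -1], 1), ([1, 0, 1, 1, 1, 1], [1, -1, 0, 0, 0, 1], 1),
  ([1, 1, 1, 1, 1, 0], [1, 1, 0, -1, 1, -1], 1), ([0, 1, 1, 2, 1, 1], [-1, 0, 0, 1, -1, 1], 1),
  ([1, 1, 1, 1, 1, 1], [1, 1, 0, -1, 0, 1], 1), ([1, 1, 1, 2, 1, 0], [1, 0, -1, 1, 0, -1], 1),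
  ([0, 1, 1, 2, 2, 1], [-1, 0, 0, 0, 1, 0], 1), ([1, 1, 1, 2, 1, 1], [1, 0, -1, 1, -1, 1], 1),
  ([1, 1, 2, 2, 1, 0], [0, 0, 1, 0, 0, -1], 1), ([1, 1, 1, 2, 2, 1], [1, 0, -1, 0, 1, 0], 1),
  ([1, 1, 2, 2, 1, 1], [0, 0, 1, 0, -1, 1], 1), ([1, 1, 2, 2, 2, 1], [0, 0, 1, -1, 1, 0], 1),
  ([1, 1, 2, 3, 2, 1], [0, -1, 0, 1, 0, 0], 1), ([1, 2, 2, 3, 2, 1], [0, 1, 0, 0, 0, 0], 1)]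

theorem chkE6 : chkT 6 CAE6 dlE6 (fun _ => 1) PE6 = true := by decide +kernel

theorem domE6 : domL 6 CAE6 PE6 2 = [[1, 2, 2, 3, 2, 1]] := by decide +kernel

theorem gtE6 : cntF PE6 (fun z => decide (0 < z)) [1, 2, 2, 3, 2, 1] = 21 := by decide +kernel

/-- the exponents -/
def exE6 : List (ℕ × ℕ) := [
  (10, 11), (10, 11), (10, 11), (10, 11), (10, 11), (10, 11), (9, 12), (9, 12), (9, 12), (9, 12), (9, 12), (8, 13),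
  (8, 13), (8, 13), (8, 13), (8, 13), (7, 14), (7, 14), (7, 14), (7, 14), (7, 14), (6, 15), (6, 15), (6, 15),
  (6, 15), (5, 16), (5, 16), (5, 16), (4, 17), (4, 17), (4, 17), (3, 18), (3, 18), (2, 19), (1, 20), (0, 21)]

theorem expE6 : expF PE6 2 = exE6 := by decide +kernel

/-- Cartan matrix `E7` -/
def CAE7 : List (List ℤ) := [[2, 0, -1, 0, 0, 0, 0],
  [0, 2, 0, -1, 0, 0, 0],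
  [-1, 0, 2, -1, 0, 0, 0],
  [0, -1, -1, 2, -1, 0, 0],
  [0, 0, 0, -1, 2, -1, 0],
  [0, 0, 0, 0, -1, 2, -1],
  [0, 0, 0, 0, 0, -1, 2]]

/-- symmetrizer -/
def dlE7 : List ℤ := [1, 1, 1, 1, 1, 1, 1]

/-- positive roots -/
def PE7 : List (List ℤ × List ℤ × ℕ) := [
  ([0, 0, 0, 0, 0, 0, 1], [0, 0, 0, 0, 0, -1, 2], 1), ([0, 0, 0, 0, 0, 1, 0], [0, 0, 0, 0, -1, 2, -1], 1),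
  ([0, 0, 0, 0, 1, 0, 0], [0, 0, 0, -1, 2, -1, 0], 1), ([0, 0, 0, 1, 0, 0, 0], [0, -1, -1, 2, -1, 0, 0], 1),
  ([0, 0, 1, 0, 0, 0, 0], [-1, 0, 2, -1, 0, 0, 0], 1), ([0, 1, 0, 0, 0, 0, 0], [0, 2, 0, -1, 0, 0, 0], 1),
  ([1, 0, 0, 0, 0, 0, 0], [2, 0, -1, 0, 0, 0, 0], 1), ([0, 0, 0, 0, 0, 1, 1], [0, 0, 0, 0, -1, 1, 1], 1),
  ([0, 0, 0, 0, 1, 1, 0], [0, 0, 0, -1, 1, 1, -1], 1), ([0, 0, 0, 1, 1, 0, 0], [0, -1, -1, 1, 1, -1, 0], 1),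
  ([0, 0, 1, 1, 0, 0, 0], [-1, -1, 1, 1, -1, 0, 0], 1), ([0, 1, 0, 1, 0, 0, 0], [0, 1, -1, 1, -1, 0, 0], 1),
  ([1, 0, 1, 0, 0, 0, 0], [1, 0, 1, -1, 0, 0, 0], 1), ([0, 0, 0, 0, 1, 1, 1], [0, 0, 0, -1, 1, 0, 1], 1),
  ([0, 0, 0, 1, 1, 1, 0], [0, -1, -1, 1, 0, 1, -1], 1), ([0, 0, 1, 1, 1, 0, 0], [-1, -1, 1, 0, 1, -1, 0], 1),
  ([0, 1, 0, 1, 1, 0, 0], [0, 1, -1, 0, 1, -1, 0], 1), ([0, 1, 1, 1, 0, 0, 0], [-1, 1, 1, 0, -1, 0, 0], 1),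
  ([1, 0, 1, 1, 0, 0, 0], [1, -1, 0, 1, -1, 0, 0], 1), ([0, 0, 0, 1, 1, 1, 1], [0, -1, -1, 1, 0, 0, 1], 1),
  ([0, 0, 1, 1, 1, 1, 0], [-1, -1, 1, 0, 0, 1, -1], 1), ([0, 1, 0, 1, 1, 1, 0], [0, 1, -1, 0, 0, 1, -1], 1),
  ([0, 1, 1, 1, 1, 0, 0], [-1, 1, 1, -1, 1, -1, 0], 1), ([1, 0, 1, 1, 1, 0, 0], [1, -1, 0, 0, 1, -1, 0], 1),
  ([1, 1, 1, 1, 0, 0, 0], [1, 1, 0, 0, -1, 0, 0], 1), ([0, 0, 1, 1, 1, 1, 1], [-1, -1, 1, 0, 0, 0, 1], 1),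
  ([0, 1, 0, 1, 1, 1, 1], [0, 1, -1, 0, 0, 0, 1], 1), ([0, 1, 1, 1, 1, 1, 0], [-1, 1, 1, -1, 0, 1, -1], 1),
  ([0, 1, 1, 2, 1, 0, 0], [-1, 0, 0, 1, 0, -1, 0], 1), ([1, 0, 1, 1, 1, 1, 0], [1, -1, 0, 0, 0, 1, -1], 1),
  ([1, 1, 1, 1, 1, 0, 0], [1, 1, 0, -1, 1, -1, 0], 1), ([0, 1, 1, 1, 1, 1, 1], [-1, 1, 1, -1, 0, 0, 1], 1),
  ([0, 1, 1, 2, 1, 1, 0], [-1, 0, 0, 1, -1, 1, -1], 1), ([1, 0, 1, 1, 1, 1, 1], [1, -1, 0, 0, 0, 0, 1], 1),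
  ([1, 1, 1, 1, 1, 1, 0], [1, 1, 0, -1, 0, 1, -1], 1), ([1, 1, 1, 2, 1, 0, 0], [1, 0, -1, 1, 0, -1, 0], 1),
  ([0, 1, 1, 2, 1, 1, 1], [-1, 0, 0, 1, -1, 0, 1], 1), ([0, 1, 1, 2, 2, 1, 0], [-1, 0, 0, 0, 1, 0, -1], 1),
  ([1, 1, 1, 1, 1, 1, 1], [1, 1, 0, -1, 0, 0, 1], 1), ([1, 1, 1, 2, 1, 1, 0], [1, 0, -1, 1, -1, 1, -1], 1),
  ([1, 1, 2, 2, 1, 0, 0], [0, 0, 1, 0, 0, -1, 0], 1), ([0, 1, 1, 2, 2, 1, 1], [-1, 0, 0, 0, 1, -1, 1], 1),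
  ([1, 1, 1, 2, 1, 1, 1], [1, 0, -1, 1, -1, 0, 1], 1), ([1, 1, 1, 2, 2, 1, 0], [1, 0, -1, 0, 1, 0, -1], 1),
  ([1, 1, 2, 2, 1, 1, 0], [0, 0, 1, 0, -1, 1, -1], 1), ([0, 1, 1, 2, 2, 2, 1], [-1, 0, 0, 0, 0, 1, 0], 1),
  ([1, 1, 1, 2, 2, 1, 1], [1, 0, -1, 0, 1, -1, 1], 1), ([1, 1, 2, 2, 1, 1, 1], [0, 0, 1, 0, -1, 0, 1], 1),
  ([1, 1, 2, 2, 2, 1, 0], [0, 0, 1, -1, 1, 0, -1], 1), ([1, 1, 1, 2, 2, 2, 1], [1, 0, -1, 0, 0, 1, 0], 1),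
  ([1, 1, 2, 2, 2, 1, 1], [0, 0, 1, -1, 1, -1, 1], 1), ([1, 1, 2, 3, 2, 1, 0], [0, -1, 0, 1, 0, 0, -1], 1),
  ([1, 1, 2, 2, 2, 2, 1], [0, 0, 1, -1, 0, 1, 0], 1), ([1, 1, 2, 3, 2, 1, 1], [0, -1, 0, 1, 0, -1, 1], 1),
  ([1, 2, 2, 3, 2, 1, 0], [0, 1, 0, 0, 0, 0, -1], 1), ([1, 1, 2, 3, 2, 2, 1], [0, -1, 0, 1, -1, 1, 0], 1),
  ([1, 2, 2, 3, 2, 1, 1], [0, 1, 0, 0, 0, -1, 1], 1), ([1, 1, 2, 3, 3, 2, 1], [0, -1, 0, 0, 1, 0, 0], 1),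
  ([1, 2, 2, 3, 2, 2, 1], [0, 1, 0, 0, -1, 1, 0], 1), ([1, 2, 2, 3, 3, 2, 1], [0, 1, 0, -1, 1, 0, 0], 1),
  ([1, 2, 2, 4, 3, 2, 1], [0, 0, -1, 1, 0, 0, 0], 1), ([1, 2, 3, 4, 3, 2, 1], [-1, 0, 1, 0, 0, 0, 0], 1),
  ([2, 2, 3, 4, 3, 2, 1], [1, 0, 0, 0, 0, 0, 0], 1)]

theorem chkE7 : chkT 7 CAE7 dlE7 (fun _ => 1) PE7 = true := by decide +kernel

theorem domE7 : domL 7 CAE7 PE7 2 = [[2, 2, 3, 4, 3, 2, 1]] := by decide +kernel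

theorem gtE7 : cntF PE7 (fun z => decide (0 < z)) [2, 2, 3, 4, 3, 2, 1] = 33 := by decide +kernel

/-- the exponents -/
def exE7 : List (ℕ × ℕ) := [
  (16, 17), (16, 17), (16, 17), (16, 17), (16, 17), (16, 17), (16, 17), (15, 18), (15, 18), (15, 18), (15, 18),
  (15, 18), (15, 18), (14, 19), (14, 19), (14, 19), (14, 19), (14, 19), (14, 19), (13, 20), (13, 20), (13, 20),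
  (13, 20), (13, 20), (13, 20), (12, 21), (12, 21), (12, 21), (12, 21), (12, 21), (12, 21), (11, 22), (11, 22),
  (11, 22), (11, 22), (11, 22), (10, 23), (10, 23), (10, 23), (10, 23), (10, 23), (9, 24), (9, 24), (9, 24),
  (9, 24), (8, 25), (8, 25), (8, 25), (8, 25), (7, 26), (7, 26), (7, 26), (6, 27), (6, 27), (6, 27), (5, 28),
  (5, 28), (4, 29), (4, 29), (3, 30), (2, 31), (1, 32), (0, 33)]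

theorem expE7 : expF PE7 2 = exE7 := by decide +kernel

/-- Cartan matrix `E8` -/
def CAE8 : List (List ℤ) := [[2, 0, -1, 0, 0, 0, 0, 0],
  [0, 2, 0, -1, 0, 0, 0, 0],
  [-1, 0, 2, -1, 0, 0, 0, 0],
  [0, -1, -1, 2, -1, 0, 0, 0],
  [0, 0, 0, -1, 2, -1, 0, 0],
  [0, 0, 0, 0, -1, 2, -1, 0],
  [0, 0, 0, 0, 0, -1, 2, -1],
  [0, 0, 0, 0, 0, 0, -1, 2]]

/-- symmetrizer -/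
def dlE8 : List ℤ := [1, 1, 1, 1, 1, 1, 1, 1]

/-- positive roots -/
def PE8 : List (List ℤ × List ℤ × ℕ) := [
  ([0, 0, 0, 0, 0, 0, 0, 1], [0, 0, 0, 0, 0, 0, -1, 2], 1),
  ([0, 0, 0, 0, 0, 0, 1, 0], [0, 0, 0, 0, 0, -1, 2, -1], 1),
  ([0, 0, 0, 0, 0, 1, 0, 0], [0, 0, 0, 0, -1, 2, -1, 0], 1),
  ([0, 0, 0, 0, 1, 0, 0, 0], [0, 0, 0, -1, 2, -1, 0, 0], 1),
  ([0, 0, 0, 1, 0, 0, 0, 0], [0, -1, -1, 2, -1, 0, 0, 0], 1),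
  ([0, 0, 1, 0, 0, 0, 0, 0], [-1, 0, 2, -1, 0, 0, 0, 0], 1),
  ([0, 1, 0, 0, 0, 0, 0, 0], [0, 2, 0, -1, 0, 0, 0, 0], 1),
  ([1, 0, 0, 0, 0, 0, 0, 0], [2, 0, -1, 0, 0, 0, 0, 0], 1),
  ([0, 0, 0, 0, 0, 0, 1, 1], [0, 0, 0, 0, 0, -1, 1, 1], 1),
  ([0, 0, 0, 0, 0, 1, 1, 0], [0, 0, 0, 0, -1, 1, 1, -1], 1),
  ([0, 0, 0, 0, 1, 1, 0, 0], [0, 0, 0, -1, 1, 1, -1, 0], 1),
  ([0, 0, 0, 1, 1, 0, 0, 0], [0, -1, -1, 1, 1, -1, 0, 0], 1),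
  ([0, 0, 1, 1, 0, 0, 0, 0], [-1, -1, 1, 1, -1, 0, 0, 0], 1),
  ([0, 1, 0, 1, 0, 0, 0, 0], [0, 1, -1, 1, -1, 0, 0, 0], 1),
  ([1, 0, 1, 0, 0, 0, 0, 0], [1, 0, 1, -1, 0, 0, 0, 0], 1),
  ([0, 0, 0, 0, 0, 1, 1, 1], [0, 0, 0, 0, -1, 1, 0, 1], 1),
  ([0, 0, 0, 0, 1, 1, 1, 0], [0, 0, 0, -1, 1, 0, 1, -1], 1),
  ([0, 0, 0, 1, 1, 1, 0, 0], [0, -1, -1, 1, 0, 1, -1, 0], 1),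
  ([0, 0, 1, 1, 1, 0, 0, 0], [-1, -1, 1, 0, 1, -1, 0, 0], 1),
  ([0, 1, 0, 1, 1, 0, 0, 0], [0, 1, -1, 0, 1, -1, 0, 0], 1),
  ([0, 1, 1, 1, 0, 0, 0, 0], [-1, 1, 1, 0, -1, 0, 0, 0], 1),
  ([1, 0, 1, 1, 0, 0, 0, 0], [1, -1, 0, 1, -1, 0, 0, 0], 1),
  ([0, 0, 0, 0, 1, 1, 1, 1], [0, 0, 0, -1, 1, 0, 0, 1], 1),
  ([0, 0, 0, 1, 1, 1, 1, 0], [0, -1, -1, 1, 0, 0, 1, -1], 1),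
  ([0, 0, 1, 1, 1, 1, 0, 0], [-1, -1, 1, 0, 0, 1, -1, 0], 1),
  ([0, 1, 0, 1, 1, 1, 0, 0], [0, 1, -1, 0, 0, 1, -1, 0], 1),
  ([0, 1, 1, 1, 1, 0, 0, 0], [-1, 1, 1, -1, 1, -1, 0, 0], 1),
  ([1, 0, 1, 1, 1, 0, 0, 0], [1, -1, 0, 0, 1, -1, 0, 0], 1),
  ([1, 1, 1, 1, 0, 0, 0, 0], [1, 1, 0, 0, -1, 0, 0, 0], 1),
  ([0, 0, 0, 1, 1, 1, 1, 1], [0, -1, -1, 1, 0, 0, 0, 1], 1),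
  ([0, 0, 1, 1, 1, 1, 1, 0], [-1, -1, 1, 0, 0, 0, 1, -1], 1),
  ([0, 1, 0, 1, 1, 1, 1, 0], [0, 1, -1, 0, 0, 0, 1, -1], 1),
  ([0, 1, 1, 1, 1, 1, 0, 0], [-1, 1, 1, -1, 0, 1, -1, 0], 1),
  ([0, 1, 1, 2, 1, 0, 0, 0], [-1, 0, 0, 1, 0, -1, 0, 0], 1),
  ([1, 0, 1, 1, 1, 1, 0, 0], [1, -1, 0, 0, 0, 1, -1, 0], 1),
  ([1, 1, 1, 1, 1, 0, 0, 0], [1, 1, 0, -1, 1, -1, 0, 0], 1),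
  ([0, 0, 1, 1, 1, 1, 1, 1], [-1, -1, 1, 0, 0, 0, 0, 1], 1),
  ([0, 1, 0, 1, 1, 1, 1, 1], [0, 1, -1, 0, 0, 0, 0, 1], 1),
  ([0, 1, 1, 1, 1, 1, 1, 0], [-1, 1, 1, -1, 0, 0, 1, -1], 1),
  ([0, 1, 1, 2, 1, 1, 0, 0], [-1, 0, 0, 1, -1, 1, -1, 0], 1),
  ([1, 0, 1, 1, 1, 1, 1, 0], [1, -1, 0, 0, 0, 0, 1, -1], 1),
  ([1, 1, 1, 1, 1, 1, 0, 0], [1, 1, 0, -1, 0, 1, -1, 0], 1),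
  ([1, 1, 1, 2, 1, 0, 0, 0], [1, 0, -1, 1, 0, -1, 0, 0], 1),
  ([0, 1, 1, 1, 1, 1, 1, 1], [-1, 1, 1, -1, 0, 0, 0, 1], 1),
  ([0, 1, 1, 2, 1, 1, 1, 0], [-1, 0, 0, 1, -1, 0, 1, -1], 1),
  ([0, 1, 1, 2, 2, 1, 0, 0], [-1, 0, 0, 0, 1, 0, -1, 0], 1),
  ([1, 0, 1, 1, 1, 1, 1, 1], [1, -1, 0, 0, 0, 0, 0, 1], 1),
  ([1, 1, 1, 1, 1, 1, 1, 0], [1, 1, 0, -1, 0, 0, 1, -1], 1),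
  ([1, 1, 1, 2, 1, 1, 0, 0], [1, 0, -1, 1, -1, 1, -1, 0], 1),
  ([1, 1, 2, 2, 1, 0, 0, 0], [0, 0, 1, 0, 0, -1, 0, 0], 1),
  ([0, 1, 1, 2, 1, 1, 1, 1], [-1, 0, 0, 1, -1, 0, 0, 1], 1),
  ([0, 1, 1, 2, 2, 1, 1, 0], [-1, 0, 0, 0, 1, -1, 1, -1], 1),
  ([1, 1, 1, 1, 1, 1, 1, 1], [1, 1, 0, -1, 0, 0, 0, 1], 1),
  ([1, 1, 1, 2, 1, 1, 1, 0], [1, 0, -1, 1, -1, 0, 1, -1], 1),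
  ([1, 1, 1, 2, 2, 1, 0, 0], [1, 0, -1, 0, 1, 0, -1, 0], 1),
  ([1, 1, 2, 2, 1, 1, 0, 0], [0, 0, 1, 0, -1, 1, -1, 0], 1),
  ([0, 1, 1, 2, 2, 1, 1, 1], [-1, 0, 0, 0, 1, -1, 0, 1], 1),
  ([0, 1, 1, 2, 2, 2, 1, 0], [-1, 0, 0, 0, 0, 1, 0, -1], 1),
  ([1, 1, 1, 2, 1, 1, 1, 1], [1, 0, -1, 1, -1, 0, 0, 1], 1),
  ([1, 1, 1, 2, 2, 1, 1, 0], [1, 0, -1, 0, 1, -1, 1, -1], 1),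
  ([1, 1, 2, 2, 1, 1, 1, 0], [0, 0, 1, 0, -1, 0, 1, -1], 1),
  ([1, 1, 2, 2, 2, 1, 0, 0], [0, 0, 1, -1, 1, 0, -1, 0], 1),
  ([0, 1, 1, 2, 2, 2, 1, 1], [-1, 0, 0, 0, 0, 1, -1, 1], 1),
  ([1, 1, 1, 2, 2, 1, 1, 1], [1, 0, -1, 0, 1, -1, 0, 1], 1),
  ([1, 1, 1, 2, 2, 2, 1, 0], [1, 0, -1, 0, 0, 1, 0, -1], 1),
  ([1, 1, 2, 2, 1, 1, 1, 1], [0, 0, 1, 0, -1, 0, 0, 1], 1),
  ([1, 1, 2, 2, 2, 1, 1, 0], [0, 0, 1, -1, 1, -1, 1, -1], 1),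
  ([1, 1, 2, 3, 2, 1, 0, 0], [0, -1, 0, 1, 0, 0, -1, 0], 1),
  ([0, 1, 1, 2, 2, 2, 2, 1], [-1, 0, 0, 0, 0, 0, 1, 0], 1),
  ([1, 1, 1, 2, 2, 2, 1, 1], [1, 0, -1, 0, 0, 1, -1, 1], 1),
  ([1, 1, 2, 2, 2, 1, 1, 1], [0, 0, 1, -1, 1, -1, 0, 1], 1),
  ([1, 1, 2, 2, 2, 2, 1, 0], [0, 0, 1, -1, 0, 1, 0, -1], 1),
  ([1, 1, 2, 3, 2, 1, 1, 0], [0, -1, 0, 1, 0, -1, 1, -1], 1),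
  ([1, 2, 2, 3, 2, 1, 0, 0], [0, 1, 0, 0, 0, 0, -1, 0], 1),
  ([1, 1, 1, 2, 2, 2, 2, 1], [1, 0, -1, 0, 0, 0, 1, 0], 1),
  ([1, 1, 2, 2, 2, 2, 1, 1], [0, 0, 1, -1, 0, 1, -1, 1], 1),
  ([1, 1, 2, 3, 2, 1, 1, 1], [0, -1, 0, 1, 0, -1, 0, 1], 1),
  ([1, 1, 2, 3, 2, 2, 1, 0], [0, -1, 0, 1, -1, 1, 0, -1], 1),
  ([1, 2, 2, 3, 2, 1, 1, 0], [0, 1, 0, 0, 0, -1, 1, -1], 1),
  ([1, 1, 2, 2, 2, 2, 2, 1], [0, 0, 1, -1, 0, 0, 1, 0], 1),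
  ([1, 1, 2, 3, 2, 2, 1, 1], [0, -1, 0, 1, -1, 1, -1, 1], 1),
  ([1, 1, 2, 3, 3, 2, 1, 0], [0, -1, 0, 0, 1, 0, 0, -1], 1),
  ([1, 2, 2, 3, 2, 1, 1, 1], [0, 1, 0, 0, 0, -1, 0, 1], 1),
  ([1, 2, 2, 3, 2, 2, 1, 0], [0, 1, 0, 0, -1, 1, 0, -1], 1),
  ([1, 1, 2, 3, 2, 2, 2, 1], [0, -1, 0, 1, -1, 0, 1, 0], 1),
  ([1, 1, 2, 3, 3, 2, 1, 1], [0, -1, 0, 0, 1, 0, -1, 1], 1),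
  ([1, 2, 2, 3, 2, 2, 1, 1], [0, 1, 0, 0, -1, 1, -1, 1], 1),
  ([1, 2, 2, 3, 3, 2, 1, 0], [0, 1, 0, -1, 1, 0, 0, -1], 1),
  ([1, 1, 2, 3, 3, 2, 2, 1], [0, -1, 0, 0, 1, -1, 1, 0], 1),
  ([1, 2, 2, 3, 2, 2, 2, 1], [0, 1, 0, 0, -1, 0, 1, 0], 1),
  ([1, 2, 2, 3, 3, 2, 1, 1], [0, 1, 0, -1, 1, 0, -1, 1], 1),
  ([1, 2, 2, 4, 3, 2, 1, 0], [0, 0, -1, 1, 0, 0, 0, -1], 1),
  ([1, 1, 2, 3, 3, 3, 2, 1], [0, -1, 0, 0, 0, 1, 0, 0], 1),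
  ([1, 2, 2, 3, 3, 2, 2, 1], [0, 1, 0, -1, 1, -1, 1, 0], 1),
  ([1, 2, 2, 4, 3, 2, 1, 1], [0, 0, -1, 1, 0, 0, -1, 1], 1),
  ([1, 2, 3, 4, 3, 2, 1, 0], [-1, 0, 1, 0, 0, 0, 0, -1], 1),
  ([1, 2, 2, 3, 3, 3, 2, 1], [0, 1, 0, -1, 0, 1, 0, 0], 1),
  ([1, 2, 2, 4, 3, 2, 2, 1], [0, 0, -1, 1, 0, -1, 1, 0], 1),
  ([1, 2, 3, 4, 3, 2, 1, 1], [-1, 0, 1, 0, 0, 0, -1, 1], 1),
  ([2, 2, 3, 4, 3, 2, 1, 0], [1, 0, 0, 0, 0, 0, 0, -1], 1),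
  ([1, 2, 2, 4, 3, 3, 2, 1], [0, 0, -1, 1, -1, 1, 0, 0], 1),
  ([1, 2, 3, 4, 3, 2, 2, 1], [-1, 0, 1, 0, 0, -1, 1, 0], 1),
  ([2, 2, 3, 4, 3, 2, 1, 1], [1, 0, 0, 0, 0, 0, -1, 1], 1),
  ([1, 2, 2, 4, 4, 3, 2, 1], [0, 0, -1, 0, 1, 0, 0, 0], 1),
  ([1, 2, 3, 4, 3, 3, 2, 1], [-1, 0, 1, 0, -1, 1, 0, 0], 1),
  ([2, 2, 3, 4, 3, 2, 2, 1], [1, 0, 0, 0, 0, -1, 1, 0], 1),
  ([1, 2, 3, 4, 4, 3, 2, 1], [-1, 0, 1, -1, 1, 0, 0, 0], 1),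
  ([2, 2, 3, 4, 3, 3, 2, 1], [1, 0, 0, 0, -1, 1, 0, 0], 1),
  ([1, 2, 3, 5, 4, 3, 2, 1], [-1, -1, 0, 1, 0, 0, 0, 0], 1),
  ([2, 2, 3, 4, 4, 3, 2, 1], [1, 0, 0, -1, 1, 0, 0, 0], 1),
  ([1, 3, 3, 5, 4, 3, 2, 1], [-1, 1, 0, 0, 0, 0, 0, 0], 1),
  ([2, 2, 3, 5, 4, 3, 2, 1], [1, -1, -1, 1, 0, 0, 0, 0], 1),
  ([2, 2, 4, 5, 4, 3, 2, 1], [0, -1, 1, 0, 0, 0, 0, 0], 1),
  ([2, 3, 3, 5, 4, 3, 2, 1], [1, 1, -1, 0, 0, 0, 0, 0], 1),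
  ([2, 3, 4, 5, 4, 3, 2, 1], [0, 1, 1, -1, 0, 0, 0, 0], 1),
  ([2, 3, 4, 6, 4, 3, 2, 1], [0, 0, 0, 1, -1, 0, 0, 0], 1),
  ([2, 3, 4, 6, 5, 3, 2, 1], [0, 0, 0, 0, 1, -1, 0, 0], 1),
  ([2, 3, 4, 6, 5, 4, 2, 1], [0, 0, 0, 0, 0, 1, -1, 0], 1),
  ([2, 3, 4, 6, 5, 4, 3, 1], [0, 0, 0, 0, 0, 0, 1, -1], 1), ([2, 3, 4, 6, 5, 4, 3, 2], [0, 0, 0, 0, 0, 0, 0, 1], 1)]

theorem chkE8 : chkT 8 CAE8 dlE8 (fun _ => 1) PE8 = true := by decide +kernel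

theorem domE8 : domL 8 CAE8 PE8 2 = [[2, 3, 4, 6, 5, 4, 3, 2]] := by decide +kernel

theorem gtE8 : cntF PE8 (fun z => decide (0 < z)) [2, 3, 4, 6, 5, 4, 3, 2] = 57 := by decide +kernel

/-- the exponents -/
def exE8 : List (ℕ × ℕ) := [
  (28, 29), (28, 29), (28, 29), (28, 29), (28, 29), (28, 29), (28, 29), (28, 29), (27, 30), (27, 30), (27, 30),
  (27, 30), (27, 30), (27, 30), (27, 30), (26, 31), (26, 31), (26, 31), (26, 31), (26, 31), (26, 31), (26, 31),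
  (25, 32), (25, 32), (25, 32), (25, 32), (25, 32), (25, 32), (25, 32), (24, 33), (24, 33), (24, 33), (24, 33),
  (24, 33), (24, 33), (24, 33), (23, 34), (23, 34), (23, 34), (23, 34), (23, 34), (23, 34), (23, 34), (22, 35),
  (22, 35), (22, 35), (22, 35), (22, 35), (22, 35), (22, 35), (21, 36), (21, 36), (21, 36), (21, 36), (21, 36),
  (21, 36), (20, 37), (20, 37), (20, 37), (20, 37), (20, 37), (20, 37), (19, 38), (19, 38), (19, 38), (19, 38),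
  (19, 38), (19, 38), (18, 39), (18, 39), (18, 39), (18, 39), (18, 39), (18, 39), (17, 40), (17, 40), (17, 40),
  (17, 40), (17, 40), (16, 41), (16, 41), (16, 41), (16, 41), (16, 41), (15, 42), (15, 42), (15, 42), (15, 42),
  (14, 43), (14, 43), (14, 43), (14, 43), (13, 44), (13, 44), (13, 44), (13, 44), (12, 45), (12, 45), (12, 45),
  (12, 45), (11, 46), (11, 46), (11, 46), (10, 47), (10, 47), (10, 47), (9, 48), (9, 48), (8, 49), (8, 49),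
  (7, 50), (7, 50), (6, 51), (6, 51), (5, 52), (4, 53), (3, 54), (2, 55), (1, 56), (0, 57)]

theorem expE8 : expF PE8 2 = exE8 := by decide +kernel

end Cfsg.Agent.H400.TwoExc
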