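import Mathlib
import Cfsg.Agent.H400.TwoExcTwE
import Cfsg.Agent.Mrg.Omega.EH3.Kf.FamD4

/-!
# 2-transitive groups with socle `³D₄(q)` (hub H1), helper400
-/

set_option autoImplicit false
set_option linter.unusedSectionVars false

namespace Cfsg.Agent.H400.TwoExc

open CoxeterSystem Cfsg.Agent.ChevalleyStructure.CoxeterGeom Cfsg.Agent.Tits.Roots Cfsg.Agent.Tits.Core
  Cfsg.Agent.Nodes.Reps Cfsg.Agent.Nodes.BNOf Cfsg.Agent.Nodes.RGDTwGen Cfsg.Agent.Nodes.RGDChev Cfsg.Agent.Nodes.RGDFold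
  Cfsg.Agent.Nodes.KindChev Cfsg.Agent.Nodes.Coroot Cfsg.Agent.Nodes.PosPair
open Cfsg.Lie Cfsg.Agent.ChevalleyStructure
open Cfsg.Agent.Nodes.RGDTwD4 (A isCartan foldData hp)
open Cfsg.Agent.SplitTwo
open Cfsg.Agent.Omega.EH3.Kf
open Cfsg.Agent.H384.TwoTrans
open scoped commutatorElement

universe u v w

namespace TwD

section Hex

variable {E : Type*} [Field E] {σ : E ≃+* E} {G : Type*} [Group G] {XX : ZMod (2 * 6) → Subgroup G}
  {x1 x2 x3 x4 x5 x6 : E → G}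

theorem kk_one {a b : G} (h : kk a b = 1) : a * b = b * a := by
  unfold kk at h
  have h1 : a⁻¹ * b⁻¹ * a * b = (b * a)⁻¹ * (a * b) := by group
  rw [h1, inv_mul_eq_one] at h
  exact h.symm

theorem exists_tr_ne (hB : ∃ B, σ B ≠ B) : ∃ t : E, t + σ t + σ (σ t) ≠ 0 := by
  by_contra hno
  push Not at hno
  obtain ⟨B, hB⟩ := hB
  have key : ∀ t, σ t * (σ B - B) + σ (σ t) * (σ (σ B) - B) = 0 := by
    intro t
    have h2 := hno (t * B)
    have h3 := hno t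
    rw [map_mul, map_mul] at h2
    linear_combination h2 - B * h3
  have h4 := key 1
  simp only [map_one, one_mul] at h4
  have h5 := key B
  have h6 : (σ B - B) * (σ B - σ (σ B)) = 0 := by
    linear_combination h5 - σ (σ B) * h4
  rcases mul_eq_zero.1 h6 with h | h
  · exact hB (sub_eq_zero.1 h)
  · exact hB (σ.injective (sub_eq_zero.1 h)).symm

theorem exists_tr (hc : ∀ a, σ (σ (σ a)) = a) (hB : ∃ B, σ B ≠ B) {a c : E} (ha : a ≠ 0) (hcc : σ c = c) :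
    ∃ b, trc σ a b = c := by
  obtain ⟨t, ht⟩ := exists_tr_ne hB
  refine ⟨a⁻¹ * (c / (t + σ t + σ (σ t)) * t), ?_⟩
  have h1 : σ (t + σ t + σ (σ t)) = t + σ t + σ (σ t) := by
    rw [map_add, map_add, hc]; ring
  have h2 : σ (c / (t + σ t + σ (σ t)) * t) = c / (t + σ t + σ (σ t)) * σ t := by
    rw [map_mul, map_div₀, h1, hcc]
  have h3 : σ (c / (t + σ t + σ (σ t)) * σ t) = c / (t + σ t + σ (σ t)) * σ (σ t) := by
    rw [map_mul, map_div₀, h1, hcc]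
  unfold trc
  rw [mul_inv_cancel_left₀ ha, h2, h3, ← mul_add, ← mul_add, div_mul_cancel₀ _ ht]

theorem map_trc (hc : ∀ a, σ (σ (σ a)) = a) (a b : E) : σ (trc σ a b) = trc σ a b := by
  simp only [trc, map_add, hc]; ring

theorem trc_comm (a b : E) : trc σ a b = trc σ b a := by
  unfold trc; rw [mul_comm]

variable (P : HexPar σ XX x1 x2 x3 x4 x5 x6)

include P

theorem x1_zero : x1 0 = 1 := by
  have := P.rel.add1 0 0
  rw [add_zero] at this
  exact left_eq_mul.1 this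

theorem x2_zero : x2 0 = 1 := by
  have := P.rel.add2 0 0 (map_zero σ) (map_zero σ)
  rw [add_zero] at this
  exact left_eq_mul.1 this

theorem x3_zero : x3 0 = 1 := by
  have := P.rel.add3 0 0
  rw [add_zero] at this
  exact left_eq_mul.1 this

theorem x5_zero : x5 0 = 1 := by
  have := P.rel.add5 0 0
  rw [add_zero] at this
  exact left_eq_mul.1 this

theorem x6_zero : x6 0 = 1 := by
  have := P.rel.add6 0 0 (map_zero σ) (map_zero σ)
  rw [add_zero] at this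
  exact left_eq_mul.1 this

theorem x2_neg {t : E} (ht : σ t = t) : x2 (-t) = (x2 t)⁻¹ := by
  have := P.rel.add2 (-t) t (by rw [map_neg, ht]) ht
  rw [neg_add_cancel, x2_zero P] at this
  exact eq_inv_of_mul_eq_one_left this.symm

theorem x3_neg (t : E) : x3 (-t) = (x3 t)⁻¹ := by
  have := P.rel.add3 (-t) t
  rw [neg_add_cancel, x3_zero P] at this
  exact eq_inv_of_mul_eq_one_left this.symm

theorem x5_neg (t : E) : x5 (-t) = (x5 t)⁻¹ := by
  have := P.rel.add5 (-t) t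
  rw [neg_add_cancel, x5_zero P] at this
  exact eq_inv_of_mul_eq_one_left this.symm

theorem x6_neg {t : E} (ht : σ t = t) : x6 (-t) = (x6 t)⁻¹ := by
  have := P.rel.add6 (-t) t (by rw [map_neg, ht]) ht
  rw [neg_add_cancel, x6_zero P] at this
  exact eq_inv_of_mul_eq_one_left this.symm

/-- `⁅X₂, X₆⁆` -/
theorem com26 {t s : E} (ht : σ t = t) (hs : σ s = s) : ⁅x2 t, x6 s⁆ = x4 (t * s) := by
  have h1 := P.rel.c26 (-t) (-s) (by rw [map_neg, ht]) (by rw [map_neg, hs])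
  rw [FamD4.kk_eq, x2_neg P ht, x6_neg P hs, inv_inv, inv_inv, neg_mul_neg] at h1
  exact h1

theorem com35 (a b : E) : ⁅x3 a, x5 b⁆ = x4 (trc σ a b) := by
  have h1 := P.rel.c35 (-a) (-b)
  rw [FamD4.kk_eq, x3_neg P, x5_neg P, inv_inv, inv_inv] at h1
  rw [h1]
  unfold trc
  rw [neg_mul_neg]

theorem nil12 {u v : G} (hu : u ∈ XX 1) (hv : v ∈ XX 2) : u * v = v * u := by
  obtain ⟨a, rfl⟩ := (P.mem1 u).1 hu
  obtain ⟨b, hb, rfl⟩ := (P.mem2 v).1 hv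
  exact kk_one (P.rel.c12 a b hb)

theorem nil14 {u v : G} (hu : u ∈ XX 1) (hv : v ∈ XX 4) : u * v = v * u := by
  obtain ⟨a, rfl⟩ := (P.mem1 u).1 hu
  obtain ⟨b, hb, rfl⟩ := (P.mem4 v).1 hv
  exact kk_one (P.rel.c14 a b hb)

theorem nil23 {u v : G} (hu : u ∈ XX 2) (hv : v ∈ XX 3) : u * v = v * u := by
  obtain ⟨a, ha, rfl⟩ := (P.mem2 u).1 hu
  obtain ⟨b, rfl⟩ := (P.mem3 v).1 hv
  exact kk_one (P.rel.c23 a b ha)

theorem nil24 {u v : G} (hu : u ∈ XX 2) (hv : v ∈ XX 4) : u * v = v * u := by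
  obtain ⟨a, ha, rfl⟩ := (P.mem2 u).1 hu
  obtain ⟨b, hb, rfl⟩ := (P.mem4 v).1 hv
  exact kk_one (P.rel.c24 a b ha hb)

theorem nil25 {u v : G} (hu : u ∈ XX 2) (hv : v ∈ XX 5) : u * v = v * u := by
  obtain ⟨a, ha, rfl⟩ := (P.mem2 u).1 hu
  obtain ⟨b, rfl⟩ := (P.mem5 v).1 hv
  exact kk_one (P.rel.c25 a b ha)

theorem nil34 {u v : G} (hu : u ∈ XX 3) (hv : v ∈ XX 4) : u * v = v * u := by
  obtain ⟨a, rfl⟩ := (P.mem3 u).1 hu
  obtain ⟨b, hb, rfl⟩ := (P.mem4 v).1 hv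
  exact kk_one (P.rel.c34 a b hb)

theorem nil36 {u v : G} (hu : u ∈ XX 3) (hv : v ∈ XX 6) : u * v = v * u := by
  obtain ⟨a, rfl⟩ := (P.mem3 u).1 hu
  obtain ⟨b, hb, rfl⟩ := (P.mem6 v).1 hv
  exact kk_one (P.rel.c36 a b hb)

theorem nil45 {u v : G} (hu : u ∈ XX 4) (hv : v ∈ XX 5) : u * v = v * u := by
  obtain ⟨a, ha, rfl⟩ := (P.mem4 u).1 hu
  obtain ⟨b, rfl⟩ := (P.mem5 v).1 hv
  exact kk_one (P.rel.c45 a b ha)

theorem nil46 {u v : G} (hu : u ∈ XX 4) (hv : v ∈ XX 6) : u * v = v * u := by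
  obtain ⟨a, ha, rfl⟩ := (P.mem4 u).1 hu
  obtain ⟨b, hb, rfl⟩ := (P.mem6 v).1 hv
  exact kk_one (P.rel.c46 a b ha hb)

theorem nil56 {u v : G} (hu : u ∈ XX 5) (hv : v ∈ XX 6) : u * v = v * u := by
  obtain ⟨a, rfl⟩ := (P.mem5 u).1 hu
  obtain ⟨b, hb, rfl⟩ := (P.mem6 v).1 hv
  exact kk_one (P.rel.c56 a b hb)

theorem nil11 {u v : G} (hu : u ∈ XX 1) (hv : v ∈ XX 1) : u * v = v * u := by
  obtain ⟨a, rfl⟩ := (P.mem1 u).1 hu
  obtain ⟨b, rfl⟩ := (P.mem1 v).1 hv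
  rw [← P.rel.add1, ← P.rel.add1, add_comm]

theorem nil22 {u v : G} (hu : u ∈ XX 2) (hv : v ∈ XX 2) : u * v = v * u := by
  obtain ⟨a, ha, rfl⟩ := (P.mem2 u).1 hu
  obtain ⟨b, hb, rfl⟩ := (P.mem2 v).1 hv
  rw [← P.rel.add2 _ _ ha hb, ← P.rel.add2 _ _ hb ha, add_comm]

theorem nil33 {u v : G} (hu : u ∈ XX 3) (hv : v ∈ XX 3) : u * v = v * u := by
  obtain ⟨a, rfl⟩ := (P.mem3 u).1 hu
  obtain ⟨b, rfl⟩ := (P.mem3 v).1 hv
  rw [← P.rel.add3, ← P.rel.add3, add_comm]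

theorem nil44 {u v : G} (hu : u ∈ XX 4) (hv : v ∈ XX 4) : u * v = v * u := by
  obtain ⟨a, ha, rfl⟩ := (P.mem4 u).1 hu
  obtain ⟨b, hb, rfl⟩ := (P.mem4 v).1 hv
  rw [← P.rel.add4 _ _ ha hb, ← P.rel.add4 _ _ hb ha, add_comm]

theorem nil55 {u v : G} (hu : u ∈ XX 5) (hv : v ∈ XX 5) : u * v = v * u := by
  obtain ⟨a, rfl⟩ := (P.mem5 u).1 hu
  obtain ⟨b, rfl⟩ := (P.mem5 v).1 hv
  rw [← P.rel.add5, ← P.rel.add5, add_comm]

theorem nil66 {u v : G} (hu : u ∈ XX 6) (hv : v ∈ XX 6) : u * v = v * u := by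
  obtain ⟨a, ha, rfl⟩ := (P.mem6 u).1 hu
  obtain ⟨b, hb, rfl⟩ := (P.mem6 v).1 hv
  rw [← P.rel.add6 _ _ ha hb, ← P.rel.add6 _ _ hb ha, add_comm]

/-! the four pairs with product in `X₄` -/

theorem cen26 {u v : G} (hu : u ∈ XX 2) (hv : v ∈ XX 6) : ⁅u, v⁆ ∈ XX 4 := by
  obtain ⟨a, ha, rfl⟩ := (P.mem2 u).1 hu
  obtain ⟨b, hb, rfl⟩ := (P.mem6 v).1 hv
  rw [com26 P ha hb]
  exact (P.mem4 _).2 ⟨_, by rw [map_mul, ha, hb], rfl⟩

theorem cen35 {u v : G} (hu : u ∈ XX 3) (hv : v ∈ XX 5) : ⁅u, v⁆ ∈ XX 4 := by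
  obtain ⟨a, rfl⟩ := (P.mem3 u).1 hu
  obtain ⟨b, rfl⟩ := (P.mem5 v).1 hv
  rw [com35 P]
  exact (P.mem4 _).2 ⟨_, map_trc P.rel.cube a b, rfl⟩

omit P in
theorem cen_symm {A B C : Subgroup G} (h : ∀ u ∈ A, ∀ v ∈ B, ⁅u, v⁆ ∈ C) {u v : G} (hu : u ∈ B) (hv : v ∈ A) :
    ⁅u, v⁆ ∈ C := by
  rw [← commutatorElement_inv]
  exact inv_mem (h v hv u hu)

theorem sur26 {u w : G} (hu : u ∈ XX 2) (hu1 : u ≠ 1) (hw : w ∈ XX 4) : ∃ v ∈ XX 6, ⁅u, v⁆ = w := by
  obtain ⟨a, ha, rfl⟩ := (P.mem2 u).1 hu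
  obtain ⟨c, hc, rfl⟩ := (P.mem4 w).1 hw
  have ha0 : a ≠ 0 := by
    rintro rfl
    exact hu1 (x2_zero P)
  have hb : σ (a⁻¹ * c) = a⁻¹ * c := by rw [map_mul, map_inv₀, ha, hc]
  exact ⟨x6 (a⁻¹ * c), (P.mem6 _).2 ⟨_, hb, rfl⟩, by rw [com26 P ha hb, mul_inv_cancel_left₀ ha0]⟩

theorem sur62 {u w : G} (hu : u ∈ XX 6) (hu1 : u ≠ 1) (hw : w ∈ XX 4) : ∃ v ∈ XX 2, ⁅u, v⁆ = w := by
  obtain ⟨c, hc, hcw⟩ := (P.mem4 _).1 (inv_mem hw)
  obtain ⟨a, ha, rfl⟩ := (P.mem6 u).1 hu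
  have ha0 : a ≠ 0 := by
    rintro rfl
    exact hu1 (x6_zero P)
  have hb : σ (c * a⁻¹) = c * a⁻¹ := by rw [map_mul, map_inv₀, ha, hc]
  refine ⟨x2 (c * a⁻¹), (P.mem2 _).2 ⟨_, hb, rfl⟩, ?_⟩
  rw [← commutatorElement_inv, com26 P hb ha, inv_mul_cancel_right₀ ha0, hcw, inv_inv]

theorem sur35 (hB : ∃ B, σ B ≠ B) {u w : G} (hu : u ∈ XX 3) (hu1 : u ≠ 1) (hw : w ∈ XX 4) :
    ∃ v ∈ XX 5, ⁅u, v⁆ = w := by
  obtain ⟨a, rfl⟩ := (P.mem3 u).1 hu
  obtain ⟨c, hc, rfl⟩ := (P.mem4 w).1 hw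
  have ha0 : a ≠ 0 := by
    rintro rfl
    exact hu1 (x3_zero P)
  obtain ⟨b, hb⟩ := exists_tr P.rel.cube hB ha0 hc
  exact ⟨x5 b, (P.mem5 _).2 ⟨_, rfl⟩, by rw [com35 P, hb]⟩

theorem sur53 (hB : ∃ B, σ B ≠ B) {u w : G} (hu : u ∈ XX 5) (hu1 : u ≠ 1) (hw : w ∈ XX 4) :
    ∃ v ∈ XX 3, ⁅u, v⁆ = w := by
  obtain ⟨a, rfl⟩ := (P.mem5 u).1 hu
  obtain ⟨c, hc, hcw⟩ := (P.mem4 _).1 (inv_mem hw)
  have ha0 : a ≠ 0 := by
    rintro rfl
    exact hu1 (x5_zero P)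
  obtain ⟨b, hb⟩ := exists_tr P.rel.cube hB ha0 hc
  refine ⟨x3 b, (P.mem3 _).2 ⟨_, rfl⟩, ?_⟩
  rw [← commutatorElement_inv, com35 P, trc_comm, hb, hcw, inv_inv]

/-- the orders -/
theorem card_short {x : E → G} {i : ZMod (2 * 6)} (hi : ∀ a b, x a = x b → a = b)
    (hm : ∀ g, g ∈ XX i ↔ ∃ a, x a = g) : Nat.card (XX i) = Nat.card E := by
  symm
  refine Nat.card_congr (Equiv.ofBijective (fun a : E => (⟨x a, (hm _).2 ⟨a, rfl⟩⟩ : XX i)) ⟨?_, ?_⟩)
  · intro a b hab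
    exact hi a b (congrArg Subtype.val hab)
  · rintro ⟨g, hg⟩
    obtain ⟨a, rfl⟩ := (hm g).1 hg
    exact ⟨a, rfl⟩

theorem card_long {x : E → G} {i : ZMod (2 * 6)} (hi : ∀ a b, σ a = a → σ b = b → x a = x b → a = b)
    (hm : ∀ g, g ∈ XX i ↔ ∃ a, σ a = a ∧ x a = g) : Nat.card (XX i) = Nat.card {a : E // σ a = a} := by
  symm
  refine Nat.card_congr (Equiv.ofBijective
    (fun a : {a : E // σ a = a} => (⟨x a.1, (hm _).2 ⟨a.1, a.2, rfl⟩⟩ : XX i)) ⟨?_, ?_⟩)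
  · intro a b hab
    exact Subtype.ext (hi a.1 b.1 a.2 b.2 (congrArg Subtype.val hab))
  · rintro ⟨g, hg⟩
    obtain ⟨a, ha, rfl⟩ := (hm g).1 hg
    exact ⟨⟨a, ha⟩, rfl⟩

end Hex

theorem hA : ∀ i : Fin 2, CAG2t.getD i [] = List.ofFn (A i) := by decide +kernel

theorem pr {W : Type*} [Group W] (_cs : CoxeterSystem CoxeterMatrix.G₂ W) :
    PR A (PG2t.map fun p => (toV p.1 : Fin 2 → ℤ)) ∧ FT A (toV dlG2t) eG2t PG2t :=
  of_chkT hA chkG2t (fun _ _ => rfl)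

variable {W : Type*} [Group W] {cs : CoxeterSystem CoxeterMatrix.G₂ W}

theorem gr : GR cs isCartan (toV dlG2t) (toV [2, 3]) where
  rr := (pr cs).1.isRoot (List.mem_map.2 ⟨([2, 3], [3, 0], 1), by decide +kernel, rfl⟩)
  dom := by decide +kernel
  hd := by decide +kernel
  dpos := by decide +kernel
  max := by decide +kernel

/-- the six positive roots -/
theorem six {z : Fin 2 → ℤ} (hz : IsRoot cs isCartan z) (h0 : 0 ≤ z) :
    z = toV [0, 1] ∨ z = toV [1, 3] ∨ z = toV [1, 2] ∨ z = toV [2, 3] ∨ z = toV [1, 1] ∨ z = toV [1, 0] := by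
  rcases (pr cs).1.mem_of_root hz with h1 | h1
  · obtain ⟨a, ha, rfl⟩ := List.mem_map.1 h1
    simp only [PG2t, List.mem_cons, List.not_mem_nil, or_false] at ha
    rcases ha with rfl | rfl | rfl | rfl | rfl | rfl <;> simp
  · exfalso
    obtain ⟨a, ha, hae⟩ := List.mem_map.1 h1
    have hae : (toV a.1 : Fin 2 → ℤ) = -z := hae
    have h2 : ∀ a ∈ PG2t, ∃ i : Fin 2, 0 < (toV a.1 : Fin 2 → ℤ) i := by decide +kernel
    obtain ⟨i, hi⟩ := h2 a ha
    rw [hae] at hi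
    have h3 := h0 i
    simp only [Pi.neg_apply, Pi.zero_apply] at hi h3
    omega

section

variable {K : Type u} [Field K] [Fintype K] {q : ℕ} {φ : K →+* K}

omit [Fintype K] in
theorem X1' (hle : twistedD4 K q ≤ D4Fixed.fix φ) : Nodes.RGDTwD4.X φ q (toV [0, 1]) = Hexagon.TwD4RGD.X K q 1 := by
  rw [← FamD4.X_sr1 hle]; congr 1; decide +kernel
omit [Fintype K] in
theorem X2' (hle : twistedD4 K q ≤ D4Fixed.fix φ) : Nodes.RGDTwD4.X φ q (toV [1, 3]) = Hexagon.TwD4RGD.X K q 2 := by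
  rw [← FamD4.X_22 hle]; congr 1; decide +kernel
omit [Fintype K] in
theorem X3' (hle : twistedD4 K q ≤ D4Fixed.fix φ) : Nodes.RGDTwD4.X φ q (toV [1, 2]) = Hexagon.TwD4RGD.X K q 3 := by
  rw [← FamD4.X_20 hle]; congr 1; decide +kernel
omit [Fintype K] in
theorem X4' (hle : twistedD4 K q ≤ D4Fixed.fix φ) : Nodes.RGDTwD4.X φ q (toV [2, 3]) = Hexagon.TwD4RGD.X K q 4 := by
  rw [← FamD4.X_23 hle]; congr 1; decide +kernel
omit [Fintype K] in
theorem X5' (hle : twistedD4 K q ≤ D4Fixed.fix φ) : Nodes.RGDTwD4.X φ q (toV [1, 1]) = Hexagon.TwD4RGD.X K q 5 := by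
  rw [← FamD4.X_19 hle]; congr 1; decide +kernel
omit [Fintype K] in
theorem X6' (hle : twistedD4 K q ≤ D4Fixed.fix φ) : Nodes.RGDTwD4.X φ q (toV [1, 0]) = Hexagon.TwD4RGD.X K q 6 := by
  rw [← FamD4.X_sr0 hle]; congr 1; decide +kernel

/-- the parametrisation -/
theorem exists_par (hK : Fintype.card K = q ^ 3) (hφ : ∀ x, φ x = x ^ q) :
    ∃ σ : K ≃+* K, (∀ x, σ x = φ x) ∧ (∃ B, σ B ≠ B) ∧ ∃ x1 x2 x3 x4 x5 x6 : K → ↥(twistedD4 K q),
      HexPar σ (Hexagon.TwD4RGD.X K q) x1 x2 x3 x4 x5 x6 := by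
  let σ : K ≃+* K := RingEquiv.ofBijective φ ((Finite.injective_iff_bijective).1 φ.injective)
  have hσ : ∀ x, σ x = φ x := fun x => rfl
  have h3 : ∀ a, σ (σ (σ a)) = a := by
    intro t
    rw [hσ, hσ, hσ, hφ, hφ, hφ, ← pow_mul, ← pow_mul]
    have : q * (q * q) = q ^ 3 := by ring
    rw [this, ← hK]
    exact FiniteField.pow_card t
  have hle := D4Fixed.twisted_le_fix hK hφ
  have P := Hexagon.TwD4Par.hexPar hφ hle hσ h3
  exact ⟨σ, hσ, FamD4.exists_moved hK hφ, _, _, _, _, _, _, P⟩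

/-- commuting root groups, positive roots -/
theorem nil_pos (hK : Fintype.card K = q ^ 3) (hφ : ∀ x, φ x = x ^ q) {x y : Fin 2 → ℤ}
    (hx : IsRoot cs isCartan x) (hy : IsRoot cs isCartan y) (hx0 : 0 ≤ x) (hy0 : 0 ≤ y)
    (hxy : ¬ IsRoot cs isCartan (x + y)) {u v : ↥(twistedD4 K q)} (hu : u ∈ Nodes.RGDTwD4.X φ q x)
    (hv : v ∈ Nodes.RGDTwD4.X φ q y) : u * v = v * u := by
  have hle := D4Fixed.twisted_le_fix hK hφ
  obtain ⟨σ, -, -, x1, x2, x3, x4, x5, x6, P⟩ := exists_par hK hφ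
  have hroot : ∀ a ∈ PG2t, ∀ z : Fin 2 → ℤ, z = toV a.1 → IsRoot cs isCartan z := by
    intro a ha z hz
    rw [hz]
    exact (pr cs).1.isRoot (List.mem_map.2 ⟨a, ha, rfl⟩)
  have n13 : ∀ z : Fin 2 → ℤ, z = toV [1, 3] → IsRoot cs isCartan z := hroot ([1, 3], [-3, 3], 1) (by decide +kernel)
  have n12 : ∀ z : Fin 2 → ℤ, z = toV [1, 2] → IsRoot cs isCartan z := hroot ([1, 2], [0, 1], 3) (by decide +kernel)
  have n11 : ∀ z : Fin 2 → ℤ, z = toV [1, 1] → IsRoot cs isCartan z := hroot ([1, 1], [3, -1], 3) (by decide +kernel)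
  have n23 : ∀ z : Fin 2 → ℤ, z = toV [2, 3] → IsRoot cs isCartan z := hroot ([2, 3], [3, 0], 1) (by decide +kernel)
  rcases six hx hx0 with rfl | rfl | rfl | rfl | rfl | rfl <;>
    rcases six hy hy0 with rfl | rfl | rfl | rfl | rfl | rfl <;>
    simp only [X1' hle, X2' hle, X3' hle, X4' hle, X5' hle, X6' hle] at hu hv
  · exact nil11 P hu hv
  · exact nil12 P hu hv
  · exact absurd (n13 _ (by decide +kernel)) hxy
  · exact nil14 P hu hv
  · exact absurd (n12 _ (by decide +kernel)) hxy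
  · exact absurd (n11 _ (by decide +kernel)) hxy
  · exact (nil12 P hv hu).symm
  · exact nil22 P hu hv
  · exact nil23 P hu hv
  · exact nil24 P hu hv
  · exact nil25 P hu hv
  · exact absurd (n23 _ (by decide +kernel)) hxy
  · exact absurd (n13 _ (by decide +kernel)) hxy
  · exact (nil23 P hv hu).symm
  · exact nil33 P hu hv
  · exact nil34 P hu hv
  · exact absurd (n23 _ (by decide +kernel)) hxy
  · exact nil36 P hu hv
  · exact (nil14 P hv hu).symm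
  · exact (nil24 P hv hu).symm
  · exact (nil34 P hv hu).symm
  · exact nil44 P hu hv
  · exact nil45 P hu hv
  · exact nil46 P hu hv
  · exact absurd (n12 _ (by decide +kernel)) hxy
  · exact (nil25 P hv hu).symm
  · exact absurd (n23 _ (by decide +kernel)) hxy
  · exact (nil45 P hv hu).symm
  · exact nil55 P hu hv
  · exact nil56 P hu hv
  · exact absurd (n11 _ (by decide +kernel)) hxy
  · exact absurd (n23 _ (by decide +kernel)) hxy
  · exact (nil36 P hv hu).symm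
  · exact (nil46 P hv hu).symm
  · exact (nil56 P hv hu).symm
  · exact nil66 P hu hv

/-- the roots `s` with `⟨s, r^∨⟩ > 0` -/
theorem gt_cases [Finite W] {s : Fin 2 → ℤ} (hs : s ∈ Gt cs isCartan (toV [2, 3])) (hsr : s ≠ toV [2, 3]) :
    s = toV [1, 3] ∨ s = toV [1, 2] ∨ s = toV [1, 1] ∨ s = toV [1, 0] := by
  have h0 := (Gt_subset_pos gr.rr gr.hdr hs).2
  rcases six hs.1 h0 with rfl | h | h | h | h | h
  · exfalso
    have H := gr (cs := cs)
    have h1 := (cpr_sign H.hd H.rr (H.qf_pos H.rr) (toV [0, 1])).2.1 hs.2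
    revert h1
    decide +kernel
  · exact Or.inl h
  · exact Or.inr (Or.inl h)
  · exact absurd h hsr
  · exact Or.inr (Or.inr (Or.inl h))
  · exact Or.inr (Or.inr (Or.inr h))

theorem gi [Finite W] (p : ℕ) [Fact p.Prime] [CharP K p] (hK : Fintype.card K = q ^ 3) (hφ : ∀ x, φ x = x ^ q) :
    GI (Nodes.RGDTwD4.rgd cs hK hφ p) (toV dlG2t) (toV [2, 3]) where
  toGR := gr
  nil x y hx hy hne hxy u hu v hv := by
    obtain ⟨w, hw1, hw2⟩ := exists_pos_pair cs isCartan hx hy hne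
    have R := Nodes.RGDTwD4.rgd cs hK hφ p
    obtain ⟨g, hg⟩ := exists_rp cs R.nsys w
    have h1 := R.conj_mem hg hx hu
    have h2 := R.conj_mem hg hy hv
    have h3 := nil_pos hK hφ (hx.act w) (hy.act w) hw1 hw2 (fun h0 => hxy (by
      have h4 := h0.act w⁻¹
      rw [map_add, ← rep_mul_apply, ← rep_mul_apply, inv_mul_cancel, map_one, Module.End.one_apply,
        Module.End.one_apply] at h4
      exact h4)) h1 h2
    have h4 : g * (u * v) * g⁻¹ = g * (v * u) * g⁻¹ := by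
      calc g * (u * v) * g⁻¹ = (g * u * g⁻¹) * (g * v * g⁻¹) := by group
        _ = (g * v * g⁻¹) * (g * u * g⁻¹) := h3
        _ = g * (v * u) * g⁻¹ := by group
    exact mul_left_cancel (mul_right_cancel h4)
  cen s hs hsr u hu v hv := by
    have hle := D4Fixed.twisted_le_fix hK hφ
    obtain ⟨σ, -, -, x1, x2, x3, x4, x5, x6, P⟩ := exists_par hK hφ
    have e1 : (toV [2, 3] - toV [1, 3] : Fin 2 → ℤ) = toV [1, 0] := by decide +kernel
    have e2 : (toV [2, 3] - toV [1, 2] : Fin 2 → ℤ) = toV [1, 1] := by decide +kernel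
    have e3 : (toV [2, 3] - toV [1, 1] : Fin 2 → ℤ) = toV [1, 2] := by decide +kernel
    have e4 : (toV [2, 3] - toV [1, 0] : Fin 2 → ℤ) = toV [1, 3] := by decide +kernel
    rw [X4' hle]
    rcases gt_cases hs hsr with rfl | rfl | rfl | rfl
    · rw [e1, X6' hle] at hv; rw [X2' hle] at hu; exact cen26 P hu hv
    · rw [e2, X5' hle] at hv; rw [X3' hle] at hu; exact cen35 P hu hv
    · rw [e3, X3' hle] at hv; rw [X5' hle] at hu; exact cen_symm (fun u hu v hv => cen35 P hu hv) hu hv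
    · rw [e4, X2' hle] at hv; rw [X6' hle] at hu; exact cen_symm (fun u hu v hv => cen26 P hu hv) hu hv
  sur s hs hsr u hu hu1 w hw := by
    have hle := D4Fixed.twisted_le_fix hK hφ
    obtain ⟨σ, -, hB, x1, x2, x3, x4, x5, x6, P⟩ := exists_par hK hφ
    have e1 : (toV [2, 3] - toV [1, 3] : Fin 2 → ℤ) = toV [1, 0] := by decide +kernel
    have e2 : (toV [2, 3] - toV [1, 2] : Fin 2 → ℤ) = toV [1, 1] := by decide +kernel
    have e3 : (toV [2, 3] - toV [1, 1] : Fin 2 → ℤ) = toV [1, 2] := by decide +kernel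
    have e4 : (toV [2, 3] - toV [1, 0] : Fin 2 → ℤ) = toV [1, 3] := by decide +kernel
    rw [X4' hle] at hw
    rcases gt_cases hs hsr with rfl | rfl | rfl | rfl
    · rw [e1, X6' hle]; rw [X2' hle] at hu; exact sur26 P hu hu1 hw
    · rw [e2, X5' hle]; rw [X3' hle] at hu; exact sur35 P hB hu hu1 hw
    · rw [e3, X3' hle]; rw [X5' hle] at hu; exact sur53 P hB hu hu1 hw
    · rw [e4, X2' hle]; rw [X6' hle] at hu; exact sur62 P hu hu1 hw

theorem card_X [Finite W] (p : ℕ) [Fact p.Prime] [CharP K p] (hK : Fintype.card K = q ^ 3)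
    (hφ : ∀ x, φ x = x ^ q) (hq1 : 1 < q) {t : Fin 2 → ℤ} (ht : IsRoot cs isCartan t) :
    Nat.card (Nodes.RGDTwD4.X φ q t) = q ^ eG2t t := by
  have hle := D4Fixed.twisted_le_fix hK hφ
  obtain ⟨σ, hσ, -, x1, x2, x3, x4, x5, x6, P⟩ := exists_par hK hφ
  have R := Nodes.RGDTwD4.rgd cs hK hφ p
  have hc1 : Nat.card K = q ^ 3 := by rw [Nat.card_eq_fintype_card, hK]
  have hc2 : Nat.card {a : K // σ a = a} = q := by
    refine Eq.trans ?_ (ChevalleyStructure.FixedCard.card_fixed hq1 hK)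
    exact Nat.card_congr (Equiv.subtypeEquivRight fun a => by rw [hσ, hφ])
  -- positive roots
  have key : ∀ z : Fin 2 → ℤ, IsRoot cs isCartan z → 0 ≤ z → Nat.card (Nodes.RGDTwD4.X φ q z) = q ^ eG2t z := by
    intro z hz h0
    have f1 : eG2t (toV [0, 1]) = 3 := by decide +kernel
    have f2 : eG2t (toV [1, 3]) = 1 := by decide +kernel
    have f3 : eG2t (toV [1, 2]) = 3 := by decide +kernel
    have f4 : eG2t (toV [2, 3]) = 1 := by decide +kernel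
    have f5 : eG2t (toV [1, 1]) = 3 := by decide +kernel
    have f6 : eG2t (toV [1, 0]) = 1 := by decide +kernel
    rcases six hz h0 with rfl | rfl | rfl | rfl | rfl | rfl
    · rw [X1' hle, card_short P P.inj1 P.mem1, hc1, f1]
    · rw [X2' hle, card_long P P.inj2 P.mem2, hc2, f2, pow_one]
    · rw [X3' hle, card_short P P.inj3 P.mem3, hc1, f3]
    · rw [X4' hle, card_long P P.inj4 P.mem4, hc2, f4, pow_one]
    · rw [X5' hle, card_short P P.inj5 P.mem5, hc1, f5]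
    · rw [X6' hle, card_long P P.inj6 P.mem6, hc2, f6, pow_one]
  rcases ht.pos_or_neg with h0 | h0
  · exact key t ht h0
  · obtain ⟨w, hw, -⟩ := exists_pos_pair cs isCartan ht ht (by
      intro h1
      apply ht.ne_zero
      funext i
      have := congrFun h1 i
      simp only [Pi.neg_apply] at this
      simp only [Pi.zero_apply]
      omega)
    rw [← Nodes.CardSup.card_X_rep R w ht, key _ (ht.act w) hw]
    congr 1
    unfold eG2t
    have : qf AG2t (toV dlG2t) (rep cs isCartan w t) (rep cs isCartan w t) = qf AG2t (toV dlG2t) t t :=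
      qf_rep cs isCartan (gr (cs := cs)).hd w t t
    rw [this]

end

end TwD

section Rows

open TwD

variable {G : Type v} {Ω : Type w} [Group G] [MulAction G Ω] {T : Subgroup G} {K : Type u} [Field K] [Fintype K]
  {p q : ℕ} [CharP K p]

theorem nTwD4 (A' : AS G Ω T) (hq : IsPrimePow q) (hK : Fintype.card K = q ^ 3) (e : ↥(twistedD4 K q) ≃* ↥T)
    (hB : ∀ (U : Sylow p ↥T) (a b : Ω), ∃ g ∈ Subgroup.normalizer ((U : Subgroup ↥T) : Set ↥T), g • a = b) :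
    Nat.card Ω = q ^ 6 := by
  have hpp : p.Prime := (CharP.char_is_prime_or_zero K p).resolve_right (CharP.char_ne_zero_of_finite K p)
  have : Fact p.Prime := ⟨hpp⟩
  have := A'.finG
  have := A'.simple
  obtain ⟨φ, hφ⟩ := D4Fixed.exists_frob hq hK
  have hq1 : 1 < q := hq.one_lt
  obtain ⟨f, hf, hqf⟩ : ∃ f, 1 ≤ f ∧ q = p ^ f := by
    obtain ⟨p', f, hp', hf, hqf⟩ := (isPrimePow_nat_iff _).1 hq
    refine ⟨f, hf, ?_⟩
    have h1 : p ∣ Fintype.card K := by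
      obtain ⟨m, -, hm⟩ := FiniteField.card K p
      rw [hm]; exact dvd_pow_self p m.ne_zero
    rw [hK, ← hqf, ← pow_mul] at h1
    have h2 := (Nat.prime_dvd_prime_iff_eq hpp hp').1 (hpp.dvd_of_dvd_pow h1)
    rw [h2, hqf]
  let cs : CoxeterSystem CoxeterMatrix.G₂ _ := CoxeterMatrix.G₂.toCoxeterSystem
  have hW : Finite CoxeterMatrix.G₂.Group := Nodes.RGDFold.finite_W (hp := Nodes.RGDTwD4.hp) cs isCartan foldData
  have R := Nodes.RGDTwD4.rgd cs hK hφ p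
  have R' := Nodes.RGDLib.rgd_map_of_injective R e.toMonoidHom e.injective
  have hgi : GI R' (toV dlG2t) (toV [2, 3]) := (gi p hK hφ).map e R'
  have hG1 : Nodes.RGDLib.G1 cs isCartan (fun x => (Nodes.RGDTwD4.X φ q x).map e.toMonoidHom) = ⊤ := by
    have h1 := Nodes.RGDTwD4.G1_eq_top cs hK hφ
    have h2 : (Nodes.RGDLib.G1 cs isCartan (Nodes.RGDTwD4.X φ q)).map e.toMonoidHom =
        Nodes.RGDLib.G1 cs isCartan (fun x => (Nodes.RGDTwD4.X φ q x).map e.toMonoidHom) := by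
      unfold Nodes.RGDLib.G1 RGD.Sup
      rw [Subgroup.map_iSup]
    rw [← h2, h1, Subgroup.map_top_of_surjective _ e.surjective]
  have L := lr_gen (k := 4) hG1 hA chkG2t domG2t gtG2t (by decide +kernel) hgi (by decide +kernel)
    (x := toV [1, 3]) ((pr cs).1.isRoot (List.mem_map.2 ⟨([1, 3], [-3, 3], 1), by decide +kernel,
      rfl⟩)) (by decide +kernel) (by decide +kernel) expG2t hf hqf (fun t ht => by
      rw [Subgroup.card_map_of_injective e.injective, card_X p hK hφ hq1 ht]) (by decide +kernel)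
  obtain ⟨m, hm⟩ : ∃ m, q = m + 1 := ⟨q - 1, by omega⟩
  have hm0 : 0 < m := by omega
  refine row_end (S := m ^ 4 + 4 * m ^ 3 + 5 * m ^ 2 + 2 * m + 1) (R := q ^ 3 + 2 * q ^ 2 + q) A' L hB hq1
    ?_ (by positivity) (by positivity) (by rw [hm]; ring)
  refine nat_poly (by omega) (Nat.mul_pos (by omega) (by positivity)) ?_
  unfold exG2t
  simp only [List.map_cons, List.map_nil, List.sum_cons, List.sum_nil]
  rw [hm]
  ring

end Rows

end Cfsg.Agent.H400.TwoExc
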