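import Cfsg.Agent.H441.GS.Chain
import Cfsg.Agent.H441.GS.Opp
import Cfsg.Agent.H400.GsTab
import Cfsg.Agent.H400.TwoExcTabF

/-!
# The dichotomy of the displacement (S4327, exceptional groups), helper400

`w ≠ 1`, for all `i`: `w α_i = α_i` or `w α_i ≤ 0`. Two orbits of roots, `r` (long), `s` (short, dominant), orthogonal
short roots have a long sum. Then `w δ = -δ` for a long root `δ`, or `w` is the reflection in `s`.
-/

set_option autoImplicit false
set_option linter.unusedSectionVars false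

namespace Cfsg.Agent.H400.Gs

open CoxeterSystem Cfsg.Agent.ChevalleyStructure.CoxeterGeom Cfsg.Agent.Tits.Roots Cfsg.Agent.Tits.Core
  Cfsg.Agent.Tits.Exchange Cfsg.Agent.Nodes.Reps Cfsg.Agent.Nodes.BNOf Cfsg.Agent.Nodes.StabComb
  Cfsg.Agent.Nodes.Bruhat Cfsg.Agent.Nodes.OppDec Cfsg.Agent.Nodes.PosPair Cfsg.Agent.Nodes.Coroot
  Cfsg.Agent.KFacts.RgdSL Cfsg.Agent.H400.TwoExc Cfsg.Agent.Nodes.KindChev Cfsg.Agent.H441.GS
open scoped commutatorElement

section Gen

variable {I W : Type*} [Fintype I] [DecidableEq I] [Group W] [Finite W] {M : CoxeterMatrix I}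
  {cs : CoxeterSystem M W} {A : I → I → ℤ} {h : IsCartan M A}

theorem dom_of_refl {w : W} (H : ∀ i, rep cs h w (sr i) = sr i ∨ rep cs h w (sr i) ≤ 0) {ρ : I → ℤ}
    (hρ : IsRoot cs h ρ) (h0 : 0 ≤ ρ) (hw : ∀ x, rep cs h w x = x - cpr cs h x ρ • ρ) (i : I) :
    0 ≤ cpr cs h (sr i) ρ := by
  by_contra hcon
  push Not at hcon
  rcases H i with h1 | h1
  · rw [hw, sub_eq_self, smul_eq_zero] at h1
    rcases h1 with h1 | h1
    · omega
    · exact hρ.ne_zero h1
  · rw [hw] at h1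
    have h2 := h1 i
    have h3 : (sr i : I → ℤ) i = 1 := by simp [sr]
    rw [Pi.sub_apply, Pi.smul_apply, smul_eq_mul, h3, Pi.zero_apply] at h2
    have h4 := h0 i
    rw [Pi.zero_apply] at h4
    have h5 : cpr cs h (sr i) ρ * ρ i ≤ 0 := mul_nonpos_of_nonpos_of_nonneg hcon.le h4
    linarith

/-- **The dichotomy.** -/
theorem dich_gen {r s : I → ℤ} (hor : ∀ x, IsRoot cs h x → Orb cs h r x ∨ Orb cs h s x)
    (hsum : ∀ x y, IsRoot cs h x → IsRoot cs h y → Orb cs h s x → Orb cs h s y → cpr cs h x y = 0 →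
      Orb cs h r (x + y))
    (hdom : ∀ x, IsRoot cs h x → Orb cs h s x → 0 ≤ x → (∀ i, 0 ≤ cpr cs h (sr i) x) → x = s)
    {w : W} (H : ∀ i, rep cs h w (sr i) = sr i ∨ rep cs h w (sr i) ≤ 0) (hw1 : w ≠ 1) :
    w * w = 1 ∧ ((∃ v, rep cs h w (rep cs h v r) = -rep cs h v r) ∨ ∀ x, rep cs h w x = x - cpr cs h x s • s) := by
  have hw2 := sq_eq_one H
  refine ⟨hw2, ?_⟩
  obtain ⟨ρ, hρ, hwρ⟩ := exists_neg cs h _ w rfl hw2 hw1
  rcases hor ρ hρ with ⟨v, hv⟩ | hv
  · left
    exact ⟨v, by rw [hv, hwρ]⟩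
  obtain ⟨t, j, ht⟩ := hρ
  obtain ⟨u, hu⟩ : ∃ u, u = Cfsg.Agent.Nodes.SubComb.rfl' cs t j := ⟨_, rfl⟩
  have hur : ∀ x, rep cs h u x = x - cpr cs h x ρ • ρ := fun x => by rw [hu, rep_rfl'_eq, ht]
  have hρ : IsRoot cs h ρ := ⟨t, j, ht⟩
  have huu : ∀ x, rep cs h u (rep cs h u x) = x := by
    intro x
    rw [hur (rep cs h u x), hur x, sub_eq_add_neg x, cpr_add cs h _ _ hρ, cpr_neg_left _ hρ, cpr_smul cs h _ _ hρ,
      cpr_self cs h hρ]
    module
  by_cases h1 : w * u = 1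
  · right
    have hwx : ∀ x, rep cs h w x = x - cpr cs h x ρ • ρ := by
      intro x
      have h2 : rep cs h (w * u) (rep cs h u x) = rep cs h u x := by rw [h1, map_one, Module.End.one_apply]
      rw [rep_mul_apply, huu] at h2
      rw [h2, hur]
    rcases hρ.pos_or_neg with h2 | h2
    · have h3 := hdom ρ hρ hv h2 (dom_of_refl H hρ h2 hwx)
      rwa [h3] at hwx
    · have hwx' : ∀ x, rep cs h w x = x - cpr cs h x (-ρ) • (-ρ) := by
        intro x
        rw [hwx, cpr_neg_right cs h _ hρ]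
        module
      have h2' : 0 ≤ -ρ := neg_nonneg.2 h2
      have hv' : Orb cs h s (-ρ) := by
        obtain ⟨z, hz⟩ := hv
        exact ⟨u * z, by
          rw [rep_mul_apply, hz, hur, cpr_self cs h hρ]
          module⟩
      have h3 := hdom (-ρ) hρ.neg hv' h2' (dom_of_refl H hρ.neg h2' hwx')
      rwa [h3] at hwx'
  · left
    have hwc : ∀ x, cpr cs h (rep cs h w x) ρ = -cpr cs h x ρ := by
      intro x
      have h3 := cpr_rep cs h w x hρ
      rw [hwρ, cpr_neg_right cs h _ hρ] at h3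
      omega
    have hww : ∀ x, rep cs h w (rep cs h w x) = x := by
      intro x
      rw [← rep_mul_apply, hw2, map_one, Module.End.one_apply]
    have h2 : (w * u) * (w * u) = 1 := by
      refine eq_one_of_fix cs h _ fun j => ?_
      show rep cs h ((w * u) * (w * u)) (sr j) = sr j
      rw [rep_mul_apply, rep_mul_apply, rep_mul_apply, hur (rep cs h w _), hwc, map_sub, map_smul, hww, hwρ, hur]
      have h3 : cpr cs h (sr j - cpr cs h (sr j) ρ • ρ) ρ = -cpr cs h (sr j) ρ := by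
        rw [sub_eq_add_neg, cpr_add cs h _ _ hρ, cpr_neg_left _ hρ, cpr_smul cs h _ _ hρ, cpr_self cs h hρ]
        ring
      rw [h3]
      module
    obtain ⟨ρ', hρ', h3⟩ := exists_neg cs h _ (w * u) rfl h2 h1
    have h4 : rep cs h (w * u) ρ = ρ := by
      rw [rep_mul_apply, hur, cpr_self cs h hρ]
      have e : ρ - (2 : ℤ) • ρ = -ρ := by module
      rw [e, map_neg, hwρ, neg_neg]
    have h5 : cpr cs h ρ' ρ = 0 := by
      have h6 := cpr_rep cs h (w * u) ρ' hρ
      rw [h3, h4, cpr_neg_left _ hρ] at h6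
      omega
    have h6 : rep cs h w ρ' = -ρ' := by
      rw [rep_mul_apply, hur, h5, zero_smul, sub_zero] at h3
      exact h3
    rcases hor ρ' hρ' with ⟨v, hv'⟩ | hv'
    · exact ⟨v, by rw [hv', h6]⟩
    · obtain ⟨v, hv⟩ := hsum ρ' ρ hρ' hρ hv' hv h5
      exact ⟨v, by rw [hv, map_add, h6, hwρ, neg_add]⟩

end Gen

section Tab

/-- the vector is a root of norm `N` -/
def isL (P : List (List ℤ × List ℤ × ℕ)) (N : ℤ) (v : List ℤ) : Bool :=
  match rowL P v with
  | some r => decide (dotL r v = N)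
  | none => false

/-- the sum of orthogonal roots of norm `N'` is a root of norm `N` -/
def chkO (P : List (List ℤ × List ℤ × ℕ)) (N N' : ℤ) : Bool := P.all fun p => P.all fun p' =>
  !(decide (dotL p.2.1 p.1 = N') && decide (dotL p'.2.1 p'.1 = N') && decide (dotL p.2.1 p'.1 = 0)) ||
    (isL P N (addL p.1 p'.1) && isL P N (addL p.1 (negL p'.1)))

variable {l : ℕ} {W : Type*} [Group W] [Finite W] {M : CoxeterMatrix (Fin l)} {cs : CoxeterSystem M W}
  {A : Fin l → Fin l → ℤ} {h : IsCartan M A} {d : Fin l → ℤ} {e : (Fin l → ℤ) → ℕ}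
  {P : List (List ℤ × List ℤ × ℕ)} (H : PR A (P.map fun p => (toV p.1 : Fin l → ℤ))) (F : FT A d e P)
  (hd : ∀ i j, d i * A i j = d j * A j i)

include H in
theorem exists_entry {x : Fin l → ℤ} (hx : IsRoot cs h x) : ∃ p ∈ P, x = toV p.1 ∨ x = -toV p.1 := by
  rcases H.mem_of_root hx with h1 | h1
  · obtain ⟨p, hp, hpe⟩ := List.mem_map.1 h1
    exact ⟨p, hp, Or.inl hpe.symm⟩
  · obtain ⟨p, hp, hpe⟩ := List.mem_map.1 h1
    exact ⟨p, hp, Or.inr (by
      have : (toV p.1 : Fin l → ℤ) = -x := hpe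
      rw [this, neg_neg])⟩

include hd in
theorem qf_neg_right (x y : Fin l → ℤ) : qf A d x (-y) = -qf A d x y := by
  rw [qf_comm hd, qf_neg, qf_comm hd]

include hd in
theorem qf_neg_neg (x y : Fin l → ℤ) : qf A d (-x) (-y) = qf A d x y := by
  rw [qf_neg, qf_neg_right hd, neg_neg]

include H F

theorem of_isL {N : ℤ} {v : List ℤ} (hv : isL P N v = true) :
    v.length = l ∧ IsRoot cs h (toV v) ∧ qf A d (toV v : Fin l → ℤ) (toV v) = N := by
  unfold isL at hv
  rcases h1 : rowL P v with _ | r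
  · rw [h1] at hv
    cases hv
  · rw [h1] at hv
    have h2 : dotL r v = N := of_decide_eq_true hv
    obtain ⟨a, b, c⟩ := row_spec (cs := cs) (h := h) H F h1
    exact ⟨a, b, by rw [c v a, h2]⟩

theorem norm_cases {N N' : ℤ} (hn : P.all (fun p => decide (dotL p.2.1 p.1 = N) || decide (dotL p.2.1 p.1 = N')) = true)
    (hd : ∀ i j, d i * A i j = d j * A j i) {x : Fin l → ℤ} (hx : IsRoot cs h x) : qf A d x x = N ∨ qf A d x x = N' := by
  rw [List.all_eq_true] at hn
  obtain ⟨p, hp, hpx⟩ := exists_entry (cs := cs) (h := h) H hx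
  have := hn p hp
  rw [Bool.or_eq_true, decide_eq_true_iff, decide_eq_true_iff, ← F.qf_eq hp hp] at this
  rcases hpx with rfl | rfl
  · exact this
  · rwa [qf_neg_neg hd]

theorem sum_root (hd : ∀ i j, d i * A i j = d j * A j i) {N N' : ℤ} (hc : chkO P N N' = true) {x y : Fin l → ℤ}
    (hx : IsRoot cs h x) (hy : IsRoot cs h y)
    (nx : qf A d x x = N') (ny : qf A d y y = N') (hxy : qf A d x y = 0) :
    IsRoot cs h (x + y) ∧ qf A d (x + y) (x + y) = N := by
  unfold chkO at hc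
  rw [List.all_eq_true] at hc
  obtain ⟨p, hp, hpx⟩ := exists_entry (cs := cs) (h := h) H hx
  obtain ⟨p', hp', hpy⟩ := exists_entry (cs := cs) (h := h) H hy
  have n1 : dotL p.2.1 p.1 = N' := by
    rw [← F.qf_eq hp hp]
    rcases hpx with rfl | rfl
    · exact nx
    · rwa [qf_neg_neg hd] at nx
  have n2 : dotL p'.2.1 p'.1 = N' := by
    rw [← F.qf_eq hp' hp']
    rcases hpy with rfl | rfl
    · exact ny
    · rwa [qf_neg_neg hd] at ny
  have n3 : dotL p.2.1 p'.1 = 0 := by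
    rw [← F.qf_eq hp hp']
    rcases hpx with rfl | rfl <;> rcases hpy with rfl | rfl
    · exact hxy
    · rw [qf_neg_right hd] at hxy
      omega
    · rw [qf_neg] at hxy
      omega
    · rwa [qf_neg_neg hd] at hxy
  have h4 := hc p hp
  rw [List.all_eq_true] at h4
  have h5 := h4 p' hp'
  simp only [n1, n2, n3, decide_true, Bool.and_true, Bool.not_true, Bool.false_or, Bool.and_eq_true] at h5
  have l1 := (F.row p hp).1
  have l2 := (F.row p' hp').1
  obtain ⟨-, r1, q1⟩ := of_isL (cs := cs) (h := h) H F h5.1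
  obtain ⟨-, r2, q2⟩ := of_isL (cs := cs) (h := h) H F h5.2
  rw [toV_addL l1 l2] at r1 q1
  rw [toV_addL l1 (by rw [length_negL, l2]), toV_negL, ← sub_eq_add_neg] at r2 q2
  rcases hpx with rfl | rfl <;> rcases hpy with rfl | rfl
  · exact ⟨r1, q1⟩
  · rw [← sub_eq_add_neg]
    exact ⟨r2, q2⟩
  · have e : -toV p.1 + toV p'.1 = -(toV p.1 - toV p'.1 : Fin l → ℤ) := by abel
    rw [e]
    exact ⟨r2.neg, by rw [qf_neg_neg hd, q2]⟩
  · have e : -toV p.1 + -toV p'.1 = -(toV p.1 + toV p'.1 : Fin l → ℤ) := by abel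
    rw [e]
    exact ⟨r1.neg, by rw [qf_neg_neg hd, q1]⟩

/-- **The dichotomy**, by tables. -/
theorem dich_tab (hd : ∀ i j, d i * A i j = d j * A j i) (hdp : ∀ i, 0 < d i) {CA : List (List ℤ)}
    (hA : ∀ i : Fin l, CA.getD i [] = List.ofFn (A i)) {rl sl : List ℤ} {N N' : ℤ} (hN' : 0 < N')
    (hn : P.all (fun p => decide (dotL p.2.1 p.1 = N) || decide (dotL p.2.1 p.1 = N')) = true)
    (hr : domL l CA P N = [rl]) (hqr : qf A d (toV rl : Fin l → ℤ) (toV rl) = N)
    (hs : domL l CA P N' = [sl]) (hqs : qf A d (toV sl : Fin l → ℤ) (toV sl) = N')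
    (hc : chkO P N N' = true)
    {w : W} (Hw : ∀ i, rep cs h w (sr i) = sr i ∨ rep cs h w (sr i) ≤ 0) (hw1 : w ≠ 1) :
    w * w = 1 ∧ ((∃ v, rep cs h w (rep cs h v (toV rl)) = -rep cs h v (toV rl)) ∨
      ∀ x, rep cs h w x = x - cpr cs h x (toV sl) • toV sl) := by
  have hdr := dom_of_chk hA F hr hqr
  have hds := dom_of_chk hA F hs hqs
  have or_iff : ∀ x, IsRoot cs h x → (Orb cs h (toV rl) x ↔ qf A d x x = N) := fun x hx => by
    rw [← hqr]
    exact orbit_iff H hd hdr hx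
  have os_iff : ∀ x, IsRoot cs h x → (Orb cs h (toV sl) x ↔ qf A d x x = N') := fun x hx => by
    rw [← hqs]
    exact orbit_iff H hd hds hx
  refine dich_gen (r := toV rl) (s := toV sl) (fun x hx => ?_) (fun x y hx hy ox oy hxy => ?_)
    (fun x hx ox h0 hd' => ?_) Hw hw1
  · rw [or_iff x hx, os_iff x hx]
    exact norm_cases H F hn hd hx
  · have e1 := cpr_mul_qf cs h hd x hy
    rw [hxy, zero_mul] at e1
    obtain ⟨h3, h4⟩ := sum_root (cs := cs) (h := h) H F hd hc hx hy ((os_iff x hx).1 ox) ((os_iff y hy).1 oy)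
      (by omega)
    rwa [or_iff _ h3]
  · refine hds x ((H.mem_iff (cs := cs) (h := h) x).2 ⟨hx, h0⟩) (fun i => ?_) ?_
    · have h3 := hd' i
      have e1 := cpr_mul_qf cs h hd (sr i) hx
      rw [(os_iff x hx).1 ox, qf_sr_left hd] at e1
      have e4 : 0 ≤ 2 * (d i * pairing A i x) := by
        rw [← e1]
        exact mul_nonneg h3 hN'.le
      by_contra hcon
      push Not at hcon
      have : d i * pairing A i x < 0 := mul_neg_of_pos_of_neg (hdp i) hcon
      omega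
    · rw [hqs]
      exact (os_iff x hx).1 ox

end Tab

end Cfsg.Agent.H400.Gs
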