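import Cfsg.Agent.H937.Gs.TwStart
import Cfsg.Agent.H38.Gs.Inst
import Cfsg.Agent.H400.GsDichI
import Cfsg.Agent.H400.GsLong
import Cfsg.Agent.H867.Gs.PrimeStart
import Cfsg.Agent.H441.GS.Semi

/-!
# The good case of the row `F₄(q)` of S4327, helper400

`good` : `σ = 1`, `w δ = -δ` for a long root `δ`: `Reach α 11 ⊤`, any characteristic.
-/

set_option autoImplicit false
set_option linter.unusedSectionVars false

namespace Cfsg.Agent.H400.Gs.RowF

open CoxeterSystem Cfsg.Agent.ChevalleyStructure.CoxeterGeom Cfsg.Agent.Tits.Roots Cfsg.Agent.Tits.Core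
  Cfsg.Agent.Tits.Exchange Cfsg.Agent.Nodes.Reps Cfsg.Agent.Nodes.BNOf Cfsg.Agent.Nodes.StabComb
  Cfsg.Agent.Nodes.Bruhat Cfsg.Agent.Nodes.OppDec Cfsg.Agent.Nodes.Coroot
open Cfsg.Agent.KFacts.RgdAut Cfsg.Agent.KFacts.RgdDiag Cfsg.Agent.KFacts.RgdRigid
  Cfsg.Agent.KFacts.RgdField Cfsg.Agent.H441.GS Cfsg.Agent.H400.TwoExc Cfsg.Agent.KFacts.RgdChevCoord
open Cfsg.Lie Cfsg.Agent.ChevalleyStructure Cfsg.Agent.ChevalleyStructure.Elts
  Cfsg.Agent.ChevalleyStructure.CoxeterGeomTypes Cfsg.Agent.Nodes.RGDChev Cfsg.Agent.Nodes.KindChev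
open Cfsg.Agent.H915.Gs (Reach)

universe u

section

variable (hp : IsType chevF4 4 CoxeterMatrix.F₄) {K : Type u} [Field K] {W : Type*} [Group W]
  (cs : CoxeterSystem CoxeterMatrix.F₄ W)

include hp cs in
theorem prF : PR (cartanOf chevF4 4) (PF4c.map fun p => (toV p.1 : Fin 4 → ℤ)) ∧
    FT (cartanOf chevF4 4) (toV dlF4c) (fun _ => 1) PF4c :=
  of_chkT (A := cartanOf chevF4 4) (CA := CAF4c) (by decide +kernel) chkF4c (e := fun _ => 1) (fun _ _ => rfl)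

theorem hdF : ∀ i j, (toV dlF4c : Fin 4 → ℤ) i * cartanOf chevF4 4 i j = (toV dlF4c : Fin 4 → ℤ) j *
    cartanOf chevF4 4 j i := by decide +kernel

theorem hAF : ∀ i : Fin 4, CAF4c.getD i [] = List.ofFn (cartanOf chevF4 4 i) := by decide +kernel

theorem hqF [Finite W] (x : Fin 4 → ℤ) (hx : IsRoot cs hp.isCartan x) :
    qf (cartanOf chevF4 4) (toV dlF4c) x x = 2 ∨ qf (cartanOf chevF4 4) (toV dlF4c) x x = 4 :=
  norm_cases (prF hp cs).1 (prF hp cs).2 (by decide +kernel) hdF hx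

theorem noThreeF [Finite W] : Cfsg.Agent.UGT.U2.FOne.FFour.NoThree cs hp.isCartan :=
  noThree_of (prF hp cs).1 (prF hp cs).2 hdF (by decide +kernel)

theorem grF' : GR cs hp.isCartan (toV dlF4c) (toV [2, 4, 3, 2]) where
  rr := (prF hp cs).1.isRoot (List.mem_map.2 ⟨([2, 4, 3, 2], [0, 0, 0, 2], 1), by decide +kernel, rfl⟩)
  dom := by decide +kernel
  hd := by decide +kernel
  dpos := by decide +kernel
  max := by decide +kernel

/-- the long root condition, every characteristic -/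
theorem hcF [Finite W] (x : Fin 4 → ℤ) (hx : IsRoot cs hp.isCartan x)
    (h0 : 0 ≤ cpr cs hp.isCartan x (toV [2, 4, 3, 2])) (u : ↥(chevF4.group K)) (hu : u ∈ XX chevF4 4 K x)
    (z : ↥(chevF4.group K)) (hz : z ∈ XX chevF4 4 K (toV [2, 4, 3, 2])) : u * z = z * u := by
  have G := grF' hp cs
  refine Subtype.ext (commX hp chkNF hx G.rr ?_ (G.add_not_root hx h0) hu hz)
  rintro rfl
  rw [cpr_neg cs hp.isCartan _ G.rr, cpr_self cs hp.isCartan G.rr] at h0
  omega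

/-- the end of the chain -/
def End (hp : IsType chevF4 4 CoxeterMatrix.F₄) (K : Type u) [Field K] {W : Type*} [Group W]
    (cs : CoxeterSystem CoxeterMatrix.F₄ W) : Prop :=
  ∀ (a : MulAut ↥(chevF4.group K)) (k : ℕ) (J : Subgroup ↥(chevF4.group K)),
    (∀ z, a z ∈ XX chevF4 4 K (toV [2, 4, 3, 2]) ↔ z ∈ XX chevF4 4 K (-toV [2, 4, 3, 2])) → Reach a k J →
    (∀ x, IsRoot cs hp.isCartan x → qf (cartanOf chevF4 4) (toV dlF4c) x x = 4 → XX chevF4 4 K x ≤ J) →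
    Reach a (k + 3) ⊤

variable [Finite W] [Fintype K] (p : ℕ) [Fact p.Prime] [CharP K p] (hE : End hp K cs)

include p hE in
theorem top_one {a : MulAut ↥(chevF4.group K)} (ha : ∀ z, a z ∈ XX chevF4 4 K (toV [2, 4, 3, 2]) ↔
    z ∈ XX chevF4 4 K (-toV [2, 4, 3, 2])) {k : ℕ} {J : Subgroup ↥(chevF4.group K)} (hJ : Reach a k J)
    (h1 : XX chevF4 4 K (toV [2, 4, 3, 2]) ≤ J) (h2 : XX chevF4 4 K (-toV [2, 4, 3, 2]) ≤ J) :
    Reach a (k + 3 + 3) ⊤ := by
  obtain ⟨J', h3, h4⟩ := long_one (rgd (K := K) hp cs p) (prF hp cs).1 (prF hp cs).2 hdF (hqF hp cs) (noThreeF hp cs)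
    hAF domF4c (by decide +kernel) dlF (grF' hp cs).rr (by decide +kernel) ha hJ h1 h2
  exact hE a _ J' ha h3 h4

include p hE in
theorem top_two (hqp : (Fintype.card K).Prime) {a : MulAut ↥(chevF4.group K)}
    (ha : ∀ z, a z ∈ XX chevF4 4 K (toV [2, 4, 3, 2]) ↔ z ∈ XX chevF4 4 K (-toV [2, 4, 3, 2])) : Reach a 10 ⊤ := by
  have R := rgd (K := K) hp cs p
  have H := (prF hp cs).1
  have F := (prF hp cs).2
  have hr : IsRoot cs hp.isCartan (toV [2, 4, 3, 2]) := (grF' hp cs).rr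
  have hdr := dom_of_chk hAF F domF4c (by decide +kernel)
  have hrl' : ∀ x, IsRoot cs hp.isCartan x → qf (cartanOf chevF4 4) (toV dlF4c) x x = 4 →
      Orb cs hp.isCartan (toV [2, 4, 3, 2]) x :=
    fun x hx hn => (orbit_iff H hdF hdr hx).2 (by rw [hn]; decide +kernel)
  obtain ⟨-, b0, n0⟩ := of_isL (cs := cs) (h := hp.isCartan) H F (dlF.nrm 0)
  obtain ⟨-, b1, n1⟩ := of_isL (cs := cs) (h := hp.isCartan) H F (dlF.nrm 1)
  have c01 : cpr cs hp.isCartan (toV (bF 0)) (toV (bF 1)) = -1 :=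
    (cpr_of (cs := cs) (h := hp.isCartan) H F hdF (dlF.out 1 (by decide))).2.2.2.2
  obtain ⟨w, hw⟩ := hrl' _ b0 n0
  obtain ⟨v, hv⟩ := hrl' _ b1 n1
  obtain ⟨g, hg⟩ := exists_rp cs R.nsys w
  have ha' := conj_swap R hr ha hg
  rw [hw] at ha'
  obtain ⟨a', haa⟩ : ∃ a', a' = MulAut.conj g * a * (MulAut.conj g)⁻¹ := ⟨_, rfl⟩
  rw [← haa] at ha'
  have L := H519.GE.longR_of_q R hdF (hqF hp cs) b0
  have hcard : Nat.card ↥(XX chevF4 4 K (toV (bF 0) : Fin 4 → ℤ)) = Fintype.card K := by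
    rw [← Nat.card_eq_fintype_card]
    exact (Nat.card_congr (Equiv.ofBijective (fun t => (⟨xc hp (toV (bF 0)) t, (coords (K := K) hp cs p).coord _ b0 |>.mem _ |>.2
      ⟨t, rfl⟩⟩ : ↥(XX chevF4 4 K (toV (bF 0) : Fin 4 → ℤ)))) ⟨fun s t hst =>
      ((coords (K := K) hp cs p).coord _ b0).inj (congrArg Subtype.val hst), fun z => by
        obtain ⟨t, ht⟩ := (((coords (K := K) hp cs p).coord _ b0).mem _).1 z.2
        exact ⟨t, Subtype.ext ht⟩⟩)).symm
  obtain ⟨J, h1, h2, h3, h4, h5, -, -⟩ := Cfsg.Agent.H867.Gs.PrimeStart.start_rgd L (by rw [hcard]; exact hqp) ha'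
    (b := toV (bF 1)) ⟨v * w⁻¹, by rw [rep_mul_apply, ← hw, rep_inv_apply, hv]⟩ c01
  obtain ⟨J', k1, -, k2⟩ := long_chain R H F hdF (hqF hp cs) (noThreeF hp cs) hAF domF4c (by decide +kernel) dlF b0 n0
    ha' (S := {0, 1}) ⟨0, by simp⟩ (m := 2) (by decide) h1 (fun i hi => by
      rcases Finset.mem_insert.1 hi with rfl | hi
      · exact ⟨h2, h3⟩
      · rw [Finset.mem_singleton] at hi
        subst hi
        exact ⟨h4, h5⟩)
  exact hE a _ J' ha (reach_back' (g := g) (by rw [← haa]; exact k1)) k2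

include hE in
/-- **The good case.** -/
theorem good {v w : W} (hwv : rep cs hp.isCartan w (rep cs hp.isCartan v (toV [2, 4, 3, 2])) =
      -rep cs hp.isCartan v (toV [2, 4, 3, 2])) {α β : MulAut ↥(chevF4.group K)}
    {y₀ k b : ↥(chevF4.group K)} (hk : Rp cs (rgd (K := K) hp cs p).nsys w k)
    (hb : b ∈ RGD.B cs hp.isCartan (TT chevF4 K) (XX chevF4 4 K))
    (D : Diag (TT chevF4 K) (XX chevF4 4 K) β 1)
    (e : MulAut.conj y₀ * α * (MulAut.conj y₀)⁻¹ = MulAut.conj (k * b) * β) {m : ℕ} (hmp : m.Prime)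
    (hm : α ^ m = 1) : Reach α 11 ⊤ := by
  have : Finite ↥(chevF4.group K) := Cfsg.Agent.H38.Gs.finite_group chevF4 K
  have R := rgd (K := K) hp cs p
  have G := grF' hp cs
  have hG : GG cs hp.isCartan (TT chevF4 K) (XX chevF4 4 K) = ⊤ := GG_eq_top (G1_eq_top (K := K) hp cs)
  by_cases h4 : 4 ≤ Fintype.card K
  · have ho : ∃ u : W, rep cs hp.isCartan u (sr 3) = toV [2, 4, 3, 2] := by
      have hdr := dom_of_chk hAF (prF hp cs).2 domF4c (by decide +kernel)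
      obtain ⟨u, hu⟩ := (orbit_iff (prF hp cs).1 hdF hdr (isRoot_sr cs hp.isCartan 3)).2 (by decide +kernel)
      exact ⟨u⁻¹, by rw [← hu, rep_inv_apply]⟩
    obtain ⟨ψ, χp, χm, C, hQ⟩ := Cfsg.Agent.H937.Gs.TwS.exists_chart R (i := 3) (Cfsg.Agent.H38.Gs.coordS hp cs p 3)
      (Cfsg.Agent.H38.Gs.PhiS_wS hp 3) G.rr G.dom (hcF hp cs) ho
    obtain ⟨y, h1, h2, -⟩ := Cfsg.Agent.H937.Gs.TwS.start_orb R h4 hG G.rr G.hdr (hcF hp cs) C hQ hwv hk hb D e hmp hm
    exact reach_back' (top_one hp cs p hE h1 h2 le_sup_left le_sup_right)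
  · have hqp : (Fintype.card K).Prime := by
      have h2 := Fintype.one_lt_card (α := K)
      have : Fintype.card K = 2 ∨ Fintype.card K = 3 := by omega
      rcases this with h | h <;> rw [h]
      · exact Nat.prime_two
      · exact Nat.prime_three
    obtain ⟨y, -, -, -, -, h1, -⟩ := exists_swap' R G.rr G.hdr (hcF hp cs) hwv hk hb D e
    exact (reach_back' (top_two hp cs p hE hqp h1)).mono (by norm_num) (by norm_num)

end

end Cfsg.Agent.H400.Gs.RowF
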