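import Mathlib
import Cfsg.Agent.H353.TwoLong
import Cfsg.Agent.H392.LongRoot

/-!
# Two classes of root subgroups (special characteristic) in a 2-transitive group (hub H1), helper400

`LR2 p q a N X X'` : abstract data of the long root subgroup `X` and the short root subgroup `X'` of `F₄(2^f)` or
`G₂(3^f)`. `main2` : `q ^ a ∣ n` and `n - 1 ∣ N`.
-/

set_option autoImplicit false

namespace Cfsg.Agent.H400.TwoExc.Sp

open MulAction Cfsg.Agent.H384.TwoTrans Cfsg.Agent.H221.ClassCount Cfsg.Agent.H353.TwoLong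
open scoped Pointwise

universe u v

/-- data of one class of root subgroups -/
structure TI (p q : ℕ) {T : Type*} [Group T] (X : Subgroup T) : Prop where
  card : Nat.card X = q
  nor : ∃ U : Sylow p T, ∀ n ∈ Subgroup.normalizer ((U : Subgroup T) : Set T), ∀ x ∈ X, n * x * n⁻¹ ∈ X
  line : ∃ (E : Subgroup T) (g : Fin (q + 1) → T), (∀ x, x ∈ E ↔ ∃ i, x ∈ cj (g i) X) ∧
    ∀ i j, i ≠ j → ∀ x, x ∈ cj (g i) X → x ∈ cj (g j) X → x = 1

/-- data of two classes of root subgroups -/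
structure LR2 (p q a N : ℕ) {T : Type*} [Group T] (X X' : Subgroup T) : Prop where
  prime : p.Prime
  qf : ∃ f, 1 ≤ f ∧ q = p ^ f
  ti : TI p q X
  ti' : TI p q X'
  aut : ∀ σ : MulAut T, ∀ x, (x ∈ X ∨ x ∈ X') → ∃ g : T, σ x ∈ cj g X ∨ σ x ∈ cj g X'
  heis : ∃ (Y : Subgroup T) (b : ℕ), Nat.card Y = q ^ (a + b) ∧
    ∀ D : Subgroup T, D ≤ Y → (∀ x ∈ D, (∃ g : T, x ∈ cj g X ∨ x ∈ cj g X') → x = 1) → Nat.card D ≤ q ^ b
  num : {x : T | x ≠ 1 ∧ ∃ g : T, x ∈ cj g X ∨ x ∈ cj g X'}.ncard = N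

section main

variable {G : Type u} {Ω : Type v} [Group G] [MulAction G Ω] {T : Subgroup G} {p q a N : ℕ} {X X' : Subgroup ↥T}

theorem card_const [Finite T] (hX : ∃ U : Sylow p T, ∀ n ∈ Subgroup.normalizer ((U : Subgroup T) : Set T),
    ∀ x ∈ X, n * x * n⁻¹ ∈ X)
    (hB : ∀ (U : Sylow p T) (a b : Ω), ∃ g ∈ Subgroup.normalizer ((U : Subgroup T) : Set T), g • a = b)
    (g h : T) (a b : Ω) :
    Nat.card ↥(cj g X ⊓ stabilizer T a) = Nat.card ↥(cj h X ⊓ stabilizer T b) := by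
  obtain ⟨U, hU⟩ := hX
  rw [card_cj, card_cj]
  exact card_inf_stabilizer_eq (A := X) (B := Subgroup.normalizer ((U : Subgroup T) : Set T)) hU (hB U) _ _

variable (A : AS G Ω T)
  (hB : ∀ (U : Sylow p T) (a b : Ω), ∃ g ∈ Subgroup.normalizer ((U : Subgroup T) : Set T), g • a = b)

include A hB

theorem free (hp : p.Prime) (hqf : ∃ f, 1 ≤ f ∧ q = p ^ f) (L : TI p q X) (g : T) (a : Ω) (x : T)
    (hx : x ∈ cj g X) (hxa : x • a = a) : x = 1 := by
  classical
  have hfT := A.finT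
  obtain ⟨f, hf, hq⟩ := hqf
  set c := Nat.card ↥(X ⊓ stabilizer T a) with hc
  have hconst : ∀ (h : T) (b : Ω), Nat.card ↥(cj h X ⊓ stabilizer T b) = c := by
    intro h b
    rw [card_const L.nor hB h 1 b a, card_cj, inv_one, one_smul]
  have hcq : c ∣ p ^ f := by
    rw [← hq, ← L.card]
    exact Subgroup.card_dvd_of_le inf_le_left
  obtain ⟨s, hsf, hs⟩ := (Nat.dvd_prime_pow hp).1 hcq
  obtain ⟨E, gi, hE, hEd⟩ := L.line
  have h1 : Nat.card E = 1 + Fintype.card (Fin (q + 1)) * (q - 1) :=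
    card_union E (fun i => cj (gi i) X) hE hEd fun i => by
      rw [← L.card]
      exact (Nat.card_congr (Subgroup.equivMapOfInjective _ _ (MulAut.conj (gi i)).injective).toEquiv).symm
  have hq1 : 1 ≤ q := by rw [hq]; exact Nat.one_le_pow _ _ hp.pos
  have h2 : Nat.card E = p ^ (2 * f) := by
    rw [h1, Fintype.card_fin]
    obtain ⟨c', hc'⟩ : ∃ c', q = c' + 1 := ⟨q - 1, by omega⟩
    have : p ^ (2 * f) = q * q := by rw [hq]; ring
    rw [this, hc', Nat.add_sub_cancel]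
    ring
  have h3 : Nat.card ↥(E ⊓ stabilizer T a) = 1 + Fintype.card (Fin (q + 1)) * (c - 1) :=
    card_union _ (fun i => cj (gi i) X ⊓ stabilizer T a)
      (by
        intro x
        rw [Subgroup.mem_inf, hE]
        constructor
        · rintro ⟨⟨i, hi⟩, h⟩
          exact ⟨i, hi, h⟩
        · rintro ⟨i, hi, h⟩
          exact ⟨⟨i, hi⟩, h⟩)
      (fun i j hij x h h' => hEd i j hij x h.1 h'.1) fun i => hconst _ _
  have h4 : Nat.card ↥(E ⊓ stabilizer T a) ∣ p ^ (2 * f) := by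
    rw [← h2]
    exact Subgroup.card_dvd_of_le inf_le_left
  obtain ⟨t, -, ht⟩ := (Nat.dvd_prime_pow hp).1 h4
  rw [ht, Fintype.card_fin, hs, hq] at h3
  rcases Nat.eq_zero_or_pos s with hs0 | hs0
  · have h5 : Nat.card ↥(cj g X ⊓ stabilizer T a) = 1 := by
      rw [hconst, hs, hs0, pow_zero]
    rw [Subgroup.card_eq_one] at h5
    have : x ∈ cj g X ⊓ stabilizer T a := ⟨hx, hxa⟩
    rw [h5] at this
    exact this
  · exfalso
    rcases hsf.lt_or_eq with h6 | h6
    · exact pow_case hp hs0 h6 h3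
    · have h7 : ∀ b : Ω, ∀ x ∈ X, x • b = b := by
        intro b y hy
        have h8 := hconst 1 b
        rw [card_cj, inv_one, one_smul, hs, h6, ← hq, ← L.card] at h8
        have h9 : X ⊓ stabilizer T b = X := Subgroup.eq_of_le_of_card_ge inf_le_left h8.ge
        have h10 : y ∈ X ⊓ stabilizer T b := by rw [h9]; exact hy
        exact h10.2
      have h8 : X = ⊥ := by
        rw [Subgroup.eq_bot_iff_forall]
        intro y hy
        have := A.faithfulT
        apply FaithfulSMul.eq_of_smul_eq_smul (α := Ω)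
        intro b
        rw [h7 b y hy, one_smul]
      have h9 : q = 1 := by rw [← L.card, h8, Subgroup.card_bot]
      rw [hq] at h9
      have h10 := Nat.one_lt_pow (by omega : f ≠ 0) hp.one_lt
      omega

variable (L : LR2 p q a N X X')

include L

theorem free2 (x : T) (hx : ∃ g : T, x ∈ cj g X ∨ x ∈ cj g X') (b : Ω) (hxb : x • b = b) : x = 1 := by
  obtain ⟨g, h | h⟩ := hx
  · exact free A hB L.prime L.qf L.ti g b x h hxb
  · exact free A hB L.prime L.qf L.ti' g b x h hxb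

theorem num_dvd2 : (Nat.card Ω - 1) ∣ N := by
  classical
  have hfG := A.finG
  have hfΩ := A.finΩ
  have hfT := A.finT
  have hNor := A.normal
  have hne : Nontrivial Ω := A.nontrivialΩ
  set C : Set G := (fun x : T => (x : G)) '' {x : T | x ≠ 1 ∧ ∃ g : T, x ∈ cj g X ∨ x ∈ cj g X'} with hC
  have hcard : C.ncard = N := by
    rw [hC, Set.ncard_image_of_injective _ Subtype.val_injective, L.num]
  rw [← hcard]
  refine Cfsg.Agent.H392.LongRoot.sub_one_dvd_card A.two C ?_ ?_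
  · rintro g _ ⟨x, ⟨hx1, k, hx⟩, rfl⟩
    set σ : MulAut T := MulAut.conjNormal g with hσ
    refine ⟨σ x, ⟨fun hcon => hx1 ((MulEquiv.map_eq_one_iff σ).1 hcon), ?_⟩, ?_⟩
    · have h1 : k⁻¹ * x * k ∈ X ∨ k⁻¹ * x * k ∈ X' := by
        rw [mem_cj, mem_cj] at hx; exact hx
      obtain ⟨t, ht⟩ := L.aut σ _ h1
      refine ⟨σ k * t, ?_⟩
      rw [mem_cj, mem_cj] at ht ⊢
      have e : (σ k * t)⁻¹ * σ x * (σ k * t) = t⁻¹ * σ (k⁻¹ * x * k) * t := by
        simp only [map_mul, map_inv]; group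
      rw [e]
      exact ht
    · rw [hσ]
      exact MulAut.conjNormal_apply g x
  · rintro _ ⟨x, ⟨hx1, hx⟩, rfl⟩ b hb
    exact hx1 (free2 A hB L x hx b hb)

theorem pow_dvd2 : q ^ a ∣ Nat.card Ω := by
  classical
  have hfG := A.finG
  have hfΩ := A.finΩ
  have hfT := A.finT
  have := Fintype.ofFinite Ω
  obtain ⟨f, hf, hq⟩ := L.qf
  have hp := L.prime
  obtain ⟨Y, b, hY, hD⟩ := L.heis
  let _ : Fintype (orbitRel.Quotient Y Ω) := Fintype.ofFinite _
  have h1 : Nat.card Ω = ∑ ω : orbitRel.Quotient Y Ω, Nat.card ↥(orbitRel.Quotient.orbit ω) := by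
    rw [Nat.card_congr (selfEquivSigmaOrbits' Y Ω), Nat.card_sigma]
  rw [h1]
  refine Finset.dvd_sum fun ω _ => ?_
  induction ω using Quotient.inductionOn' with
  | h c =>
    rw [orbitRel.Quotient.orbit_mk, Nat.card_coe_set_eq]
    have h2 := card_orbit_mul (A := Y) c
    have h3 : Nat.card ↥(Y ⊓ stabilizer T c) ≤ q ^ b :=
      hD _ inf_le_left fun x hx hxX => free2 A hB L x hxX c hx.2
    have h4 : Nat.card ↥(Y ⊓ stabilizer T c) ∣ p ^ (f * (a + b)) := by
      rw [pow_mul, ← hq, ← hY]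
      exact Subgroup.card_dvd_of_le inf_le_left
    obtain ⟨j, hj, hj'⟩ := (Nat.dvd_prime_pow hp).1 h4
    rw [hj', hY, hq, ← pow_mul] at h2
    rw [hj', hq, ← pow_mul] at h3
    have h5 : j ≤ f * b := (Nat.pow_le_pow_iff_right hp.one_lt).1 h3
    have h6 : (orbit Y c).ncard = p ^ (f * (a + b) - j) := by
      have h7 : p ^ (f * (a + b)) = p ^ (f * (a + b) - j) * p ^ j := by
        rw [← pow_add]; congr 1; omega
      rw [h7] at h2
      exact Nat.eq_of_mul_eq_mul_right (Nat.pow_pos hp.pos) h2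
    rw [h6, hq, ← pow_mul]
    apply Nat.pow_dvd_pow
    have h8 : f * (a + b) = f * a + f * b := by ring
    omega

/-- **Main theorem for two classes.** -/
theorem main2 : q ^ a ∣ Nat.card Ω ∧ (Nat.card Ω - 1) ∣ N := ⟨pow_dvd2 A hB L, num_dvd2 A hB L⟩

end main

end Cfsg.Agent.H400.TwoExc.Sp
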