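import Mathlib
import Cfsg.Agent.H400.HeisBound
import Cfsg.Agent.H392.LongRoot

/-!
# Group theoretic lemmas for the special characteristic (hub H1), helper400

* `bound` : `(|D| |W|)² ≤ |Q| |Z'|`;
* `cover_step` : subgroups covered by conjugates of root subgroups;
* `card_sup_le` : `|H K| ≤ |H| |K|`.
-/

set_option autoImplicit false

namespace Cfsg.Agent.H400.TwoExc.Sp

open scoped commutatorElement
open Cfsg.Agent.H400.HeisBound

variable {Y : Type*} [Group Y]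

theorem mem_sup_of_comm {H K : Subgroup Y} (hc : ∀ a ∈ H, ∀ b ∈ K, a * b = b * a) {g : Y} :
    g ∈ H ⊔ K ↔ ∃ a ∈ H, ∃ b ∈ K, a * b = g := by
  have h1 : H ≤ Subgroup.normalizer (K : Set Y) := by
    intro z hz
    rw [Subgroup.mem_normalizer_iff]
    intro d
    constructor
    · intro hd
      have : z * d * z⁻¹ = d := by rw [hc z hz d hd]; group
      rw [this]; exact hd
    · intro hd
      have h2 := hc z hz _ hd
      have : z * d * z⁻¹ = d := mul_left_cancel (a := z) (by rw [h2]; group)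
      rwa [this] at hd
  rw [← SetLike.mem_coe, Subgroup.coe_mul_of_left_le_normalizer_right _ _ h1, Set.mem_mul]
  rfl

theorem card_sup_le [Finite Y] {H K : Subgroup Y} (hc : ∀ a ∈ H, ∀ b ∈ K, a * b = b * a) :
    Nat.card ↥(H ⊔ K) ≤ Nat.card H * Nat.card K := by
  rw [← Nat.card_prod]
  refine Nat.card_le_card_of_surjective
    (fun x : H × K => (⟨(x.1 : Y) * x.2, (mem_sup_of_comm hc).2 ⟨_, x.1.2, _, x.2.2, rfl⟩⟩ : ↥(H ⊔ K))) ?_
  rintro ⟨g, hg⟩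
  obtain ⟨a, ha, b, hb, e⟩ := (mem_sup_of_comm hc).1 hg
  exact ⟨(⟨a, ha⟩, ⟨b, hb⟩), Subtype.ext e⟩

/-- **The bound**, with a centre which may be larger than the commutator group. -/
theorem bound [Finite Y] {Q Z X D W : Subgroup Y} (hXZ : X ≤ Z) (hZQ : Z ≤ Q) (hX : X ≠ ⊥)
    (hcen : ∀ z ∈ Z, ∀ g ∈ Q, z * g = g * z) (hcomm : ∀ a ∈ Q, ∀ b ∈ Q, ⁅a, b⁆ ∈ X)
    (hsur : ∀ y ∈ Q, y ∉ Z → ∀ w ∈ X, ∃ g ∈ Q, ⁅y, g⁆ = w) (hDQ : D ≤ Q) (hDX : D ⊓ X = ⊥) (hWZ : W ≤ Z)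
    (hDW : D ⊓ W = ⊥) : (Nat.card D * Nat.card W) ^ 2 ≤ Nat.card Q * Nat.card Z := by
  obtain ⟨φ, z₀, hφ⟩ := exists_hom hX (fun a ha b hb => hcen a (hXZ ha) b (hZQ (hXZ hb)))
  have hDc : ∀ a ∈ D, ∀ b ∈ D, a * b = b * a := by
    intro a ha b hb
    have h1 : ⁅a, b⁆ ∈ D ⊓ X := by
      refine Subgroup.mem_inf.2 ⟨?_, hcomm a (hDQ ha) b (hDQ hb)⟩
      rw [commutatorElement_def]
      exact mul_mem (mul_mem (mul_mem ha hb) (inv_mem ha)) (inv_mem hb)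
    rw [hDX, Subgroup.mem_bot] at h1
    exact commutatorElement_eq_one_iff_mul_comm.1 h1
  have hmem : ∀ {g : Y}, g ∈ D ⊔ Z ↔ ∃ a ∈ D, ∃ b ∈ Z, a * b = g := by
    intro g
    exact mem_sup_of_comm fun a ha b hb => (hcen b hb a (hDQ ha)).symm
  have hE : D ⊔ Z ≤ Q := sup_le hDQ hZQ
  have hEc : ∀ a ∈ D ⊔ Z, ∀ b ∈ D ⊔ Z, ⁅a, b⁆ = 1 := by
    intro a ha b hb
    rw [commutatorElement_eq_one_iff_mul_comm]
    obtain ⟨d, hd, z, hz, rfl⟩ := hmem.1 ha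
    obtain ⟨d', hd', z', hz', rfl⟩ := hmem.1 hb
    have e1 : Commute d d' := hDc d hd d' hd'
    have e2 : Commute z d' := hcen z hz d' (hDQ hd')
    have e3 : Commute z z' := hcen z hz z' (hZQ hz')
    have e4 : Commute z' d := hcen z' hz' d (hDQ hd)
    exact (((e1.mul_right e4.symm)).mul_left (e2.mul_right e3)).eq
  have h1 := Cfsg.Agent.H392.LongRoot.pairing (D ⊔ Z) Q X (D ⊔ Z) Z
    (fun a ha n hn => hcomm a (hE ha) n hn) (fun x hx a ha => hcen x (hXZ hx) a (hE ha))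
    (fun x hx n hn => hcen x (hXZ hx) n hn) φ hE
    (fun a ha b hb => by
      have h2 : (⟨⁅a, b⁆, hcomm a (hE ha) b (hE hb)⟩ : X) = 1 := Subtype.ext (hEc a ha b hb)
      rw [h2, map_one])
    (fun a ha hl => by
      by_contra haZ
      obtain ⟨g, hg, hgz⟩ := hsur a (hE ha) haZ z₀ z₀.2
      apply hφ
      rw [← hl g hg]
      congr 1
      exact Subtype.ext hgz.symm)
  have h2 : Nat.card D * Nat.card W ≤ Nat.card ↥(D ⊔ Z) := by
    rw [← card_sup_of_comm (fun z hz d hd => hcen z (hWZ hz) d (hDQ hd)) hDW]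
    exact Subgroup.card_le_of_le (sup_le_sup_left hWZ D)
  have h3 : Nat.card ↥((D ⊔ Z) ⊓ Z) = Nat.card Z := by
    rw [inf_eq_right.2 le_sup_right]
  rw [h3] at h1
  calc (Nat.card D * Nat.card W) ^ 2 ≤ Nat.card ↥(D ⊔ Z) * Nat.card ↥(D ⊔ Z) := by
        rw [sq]; exact Nat.mul_le_mul h2 h2
    _ ≤ Nat.card Z * Nat.card Q := h1
    _ = Nat.card Q * Nat.card Z := mul_comm _ _

/-- one more factor in a subgroup covered by a normal set -/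
theorem cover_step {S : Set Y} (hS : ∀ g : Y, ∀ x ∈ S, g * x * g⁻¹ ∈ S) {X K : Subgroup Y}
    (hc : ∀ a ∈ X, ∀ b ∈ K, a * b = b * a) (hX : ∀ x ∈ X, x ≠ 1 → x ∈ S) (hK : ∀ x ∈ K, x ≠ 1 → x ∈ S)
    (htr : ∀ u ∈ X, u ≠ 1 → ∀ k ∈ K, ∃ g : Y, g * u * g⁻¹ = u * k) : ∀ x ∈ X ⊔ K, x ≠ 1 → x ∈ S := by
  intro x hx hx1
  obtain ⟨u, hu, k, hk, rfl⟩ := (mem_sup_of_comm hc).1 hx
  by_cases hu1 : u = 1
  · subst hu1
    rw [one_mul] at hx1 ⊢
    exact hK k hk hx1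
  · obtain ⟨g, hg⟩ := htr u hu hu1 k hk
    rw [← hg]
    exact hS g u (hX u hu hu1)

theorem card_sup_eq [Finite Y] {H K : Subgroup Y} (hc : ∀ a ∈ H, ∀ b ∈ K, a * b = b * a) (hd : H ⊓ K = ⊥) :
    Nat.card ↥(H ⊔ K) = Nat.card H * Nat.card K :=
  card_sup_of_comm (fun z hz d hd => (hc d hd z hz).symm) hd

end Cfsg.Agent.H400.TwoExc.Sp
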