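import Mathlib
import Cfsg.Agent.H400.TwoExcGen
import Cfsg.Agent.H400.TwoExcSpA
import Cfsg.Agent.H400.TwoExcSpB
import Cfsg.Agent.KFacts.RgdAut

/-!
# Groups with a root datum in special characteristic (`F₄`, `p = 2`; `G₂`, `p = 3`) (hub H1), helper400

* `SpR R d r r'` : the input; `r`, `r'` are the highest long root and the highest short root, root groups `X x`, `X y`
  commute if `⟨x, y^∨⟩ ≥ 0`;
* `SpR.cen_iff` : `Z(U) = X r X r'`; `SpR.inter'` : `Z(U) ∩ Z(U)^w`;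
* `SpR.aut` : every automorphism permutes the conjugates of `X r` and `X r'`;
* `SpR.line_data`.
-/

set_option autoImplicit false
set_option linter.unusedSectionVars false

namespace Cfsg.Agent.H400.TwoExc.Sp

open CoxeterSystem Cfsg.Agent.ChevalleyStructure.CoxeterGeom Cfsg.Agent.Tits.Roots Cfsg.Agent.Tits.Core
  Cfsg.Agent.Tits.Exchange Cfsg.Agent.Nodes.Reps Cfsg.Agent.Nodes.BNOf Cfsg.Agent.Nodes.StabComb
  Cfsg.Agent.Nodes.Bruhat Cfsg.Agent.Nodes.OppDec Cfsg.Agent.Nodes.PosPair Cfsg.Agent.Nodes.Coroot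
  Cfsg.Agent.KFacts.RgdPar Cfsg.Agent.KFacts.RgdSL Cfsg.Agent.KFacts.RgdTI Cfsg.Agent.Nodes.LeviDec
  Cfsg.Agent.Nodes.KindChev Cfsg.Agent.KFacts.RgdCent
open scoped commutatorElement

variable {l : ℕ} {W Y : Type*} [Group W] [Group Y] {M : CoxeterMatrix (Fin l)}
  {cs : CoxeterSystem M W} {A : Fin l → Fin l → ℤ} {h : IsCartan M A} {p : ℕ} {T : Subgroup Y} {n : Fin l → Y}
  {X : (Fin l → ℤ) → Subgroup Y}

/-- special characteristic -/
structure SpR (R : RGD cs h p T n X) (d : Fin l → ℤ) (r r' : Fin l → ℤ) : Prop where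
  hd : ∀ i j, d i * A i j = d j * A j i
  dpos : ∀ i, 0 < d i
  nil : ∀ x y, IsRoot cs h x → IsRoot cs h y → 0 ≤ cpr cs h x y → ∀ u ∈ X x, ∀ v ∈ X y, u * v = v * u
  same : ∀ s t, IsRoot cs h s → IsRoot cs h t → IsRoot cs h (s + t) → qf A d s s = qf A d t t →
    qf A d (s + t) (s + t) = qf A d s s → (∀ u ∈ X s, ∀ v ∈ X t, ⁅u, v⁆ ∈ X (s + t)) ∧
      ∀ u ∈ X s, u ≠ 1 → ∀ w ∈ X (s + t), ∃ v ∈ X t, ⁅u, v⁆ = w
  rr : IsRoot cs h r
  rr' : IsRoot cs h r'
  dom : ∀ i, 0 ≤ pairing A i r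
  dom' : ∀ i, 0 ≤ pairing A i r'
  all : ∀ b, IsRoot cs h b → (∀ i, 0 ≤ pairing A i b) → b = r ∨ b = r'
  len : 2 * qf A d r' r' ≤ qf A d r r

namespace SpR

variable {R : RGD cs h p T n X} {d r r' : Fin l → ℤ} (H : SpR R d r r') [Finite W]

include H

theorem lr {a : Fin l → ℤ} (ha : IsRoot cs h a) : LR R a := ⟨ha, fun x hx h0 u hu v hv => H.nil x a hx ha h0 u hu v hv⟩

theorem qf_pos {s : Fin l → ℤ} (hs : IsRoot cs h s) : 0 < qf A d s s := by
  obtain ⟨w, i, rfl⟩ := hs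
  rw [qf_root cs h H.hd]
  have := H.dpos i
  omega

theorem lt : qf A d r' r' < qf A d r r := by
  have h1 := H.qf_pos H.rr'
  have h2 := H.len
  omega

theorem norm_cases {s : Fin l → ℤ} (hs : IsRoot cs h s) :
    (qf A d s s = qf A d r r ∧ ∃ w : W, rep cs h w r = s) ∨ (qf A d s s = qf A d r' r' ∧ ∃ w : W, rep cs h w r' = s) := by
  have := Fintype.ofFinite W
  obtain ⟨w, hw⟩ := Cfsg.Agent.Nodes.ClsNorm.exists_dominant (cs := cs) (h := h) s
  have h1 := qf_rep cs h H.hd w s s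
  rcases H.all _ (hs.act w) hw with h2 | h2
  · left
    rw [h2] at h1
    exact ⟨h1.symm, w⁻¹, by rw [← h2, rep_inv_apply]⟩
  · right
    rw [h2] at h1
    exact ⟨h1.symm, w⁻¹, by rw [← h2, rep_inv_apply]⟩

theorem conj_r {s : Fin l → ℤ} (hs : IsRoot cs h s) (he : qf A d s s = qf A d r r) : ∃ w : W, rep cs h w r = s := by
  rcases H.norm_cases hs with h1 | h1
  · exact h1.2
  · have := H.lt
    omega

theorem conj_r' {s : Fin l → ℤ} (hs : IsRoot cs h s) (he : qf A d s s = qf A d r' r') :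
    ∃ w : W, rep cs h w r' = s := by
  rcases H.norm_cases hs with h1 | h1
  · have := H.lt
    omega
  · exact h1.2

theorem qf_le {s : Fin l → ℤ} (hs : IsRoot cs h s) : qf A d s s ≤ qf A d r r := by
  rcases H.norm_cases hs with h1 | h1
  · exact h1.1.le
  · rw [h1.1]; exact H.lt.le

theorem rep_ne (w : W) : rep cs h w r ≠ r' := by
  intro h1
  have h2 := qf_rep cs h H.hd w r r
  rw [h1] at h2
  have := H.lt
  omega

theorem rep_ne' (w : W) : rep cs h w r' ≠ r := by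
  intro h1
  have h2 := qf_rep cs h H.hd w r' r'
  rw [h1] at h2
  have := H.lt
  omega

theorem ne : r ≠ r' := by
  have := H.rep_ne 1
  rwa [map_one, Module.End.one_apply] at this

theorem hdr (i : Fin l) : 0 ≤ cpr cs h (sr i) r := by
  refine cpr_nonneg_comm H.rr (isRoot_sr cs h i) ?_
  rw [cpr_sr]; exact H.dom i

theorem hdr' (i : Fin l) : 0 ≤ cpr cs h (sr i) r' := by
  refine cpr_nonneg_comm H.rr' (isRoot_sr cs h i) ?_
  rw [cpr_sr]; exact H.dom' i

theorem r_pos : r ∈ RGD.Pos cs h :=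
  Gt_subset_pos H.rr H.hdr ⟨H.rr, by rw [cpr_self cs h H.rr]; norm_num⟩

theorem r_pos' : r' ∈ RGD.Pos cs h :=
  Gt_subset_pos H.rr' H.hdr' ⟨H.rr', by rw [cpr_self cs h H.rr']; norm_num⟩

omit H [Finite W] in
/-- `X r X r'` -/
def DD (X : (Fin l → ℤ) → Subgroup Y) (r r' : Fin l → ℤ) : Subgroup Y := RGD.Sup X {r, r'}

omit H [Finite W] in
theorem X_le_DD : X r ≤ DD X r r' := RGD.le_Sup (Set.mem_insert _ _)

omit H [Finite W] in
theorem X_le_DD' : X r' ≤ DD X r r' := RGD.le_Sup (Set.mem_insert_of_mem _ rfl)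

omit H [Finite W] in
theorem DD_le {K : Subgroup Y} (h1 : X r ≤ K) (h2 : X r' ≤ K) : DD X r r' ≤ K := by
  refine RGD.Sup_le ?_
  rintro z (rfl | rfl)
  · exact h1
  · exact h2

theorem DD_le_U : DD X r r' ≤ RGD.Sup X (RGD.Pos cs h) := DD_le (RGD.le_Sup H.r_pos) (RGD.le_Sup H.r_pos')

theorem comm_U {a : Fin l → ℤ} (ha : IsRoot cs h a) (hd : ∀ i, 0 ≤ cpr cs h (sr i) a) {x u : Y} (hx : x ∈ X a)
    (hu : u ∈ RGD.Sup X (RGD.Pos cs h)) : x * u = u * x := by
  refine ((H.lr ha).comm' (RGD.Sup_mono (S' := Ge cs h a) (fun s hs => ⟨hs.1, ?_⟩) hu) hx).symm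
  exact dom_nonneg (f := ell cs h ha) hd hs.2

theorem DD_comm {x u : Y} (hx : x ∈ DD X r r') (hu : u ∈ RGD.Sup X (RGD.Pos cs h)) : x * u = u * x := by
  have h1 : DD X r r' ≤ Subgroup.centralizer ({u} : Set Y) := by
    refine DD_le ?_ ?_
    · intro z hz
      rw [Subgroup.mem_centralizer_iff]
      rintro _ rfl
      exact (H.comm_U H.rr H.hdr hz hu).symm
    · intro z hz
      rw [Subgroup.mem_centralizer_iff]
      rintro _ rfl
      exact (H.comm_U H.rr' H.hdr' hz hu).symm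
  exact (Subgroup.mem_centralizer_iff.1 (h1 hx) u rfl).symm

/-- the functionals -/
noncomputable def fl (cs : CoxeterSystem M W) (h : IsCartan M A) : List ((Fin l → ℤ) →+ ℤ) :=
  List.ofFn fun i => ell cs h (isRoot_sr cs h i)

omit H in
theorem fl_iff {b : Fin l → ℤ} : (∀ f ∈ fl cs h, 0 ≤ f b) ↔ ∀ i, 0 ≤ pairing A i b := by
  unfold fl
  rw [List.forall_mem_ofFn_iff]
  refine forall_congr' fun i => ?_
  show 0 ≤ cpr cs h b (sr i) ↔ _
  rw [cpr_sr]

theorem mem_DD_of {S : Set (Fin l → ℤ)} (hS : S ⊆ RGD.Pos cs h) {x : Y} (hx : x ∈ PS T X S)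
    (hU : x ∈ RGD.Sup X (RGD.Pos cs h)) : x ∈ RGD.Sup X S := by
  obtain ⟨t, ht, y, hy, e⟩ := (mem_PS R fun z hz => (hS hz).1).1 hx
  have ht1 : t = 1 := by
    have h1 : t ∈ RGD.Sup X (RGD.Pos cs h) ⊓ T := by
      refine Subgroup.mem_inf.2 ⟨?_, ht⟩
      have h2 : t = x * y⁻¹ := by rw [e]; group
      rw [h2]
      exact mul_mem hU (inv_mem (RGD.Sup_mono hS hy))
    rw [U_inf_T R, Subgroup.mem_bot] at h1
    exact h1
  rw [e, ht1, one_mul]
  exact hy

/-- **`Z(U) = X r X r'`** -/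
theorem cen_iff (hG : GG cs h T X = ⊤) {x : Y} : x ∈ DD X r r' ↔ x ∈ RGD.Sup X (RGD.Pos cs h) ∧
    ∀ u ∈ RGD.Sup X (RGD.Pos cs h), x * u = u * x := by
  refine ⟨fun hx => ⟨H.DD_le_U hx, fun u hu => H.DD_comm hx hu⟩, ?_⟩
  rintro ⟨hxU, hxc⟩
  have h1 : x ∈ PS T X (Star cs h (RGD.Pos cs h)) := by
    obtain ⟨t, ht, -, y, hy, e⟩ := cent_eq R (Psi := RGD.Pos cs h) (fun a ha => H.lr ha.1)
      (star_comm fun a ha => H.lr ha.1) (g := x) (by rw [hG]; trivial) (fun a ha v hv =>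
      hxc v (RGD.le_Sup ha hv))
    rw [e]
    exact mul_mem (T_le_PS ht) (Sup_le_PS hy)
  have h2 : Star cs h (RGD.Pos cs h) ⊆ {r, r'} := by
    intro b hb
    refine H.all b hb.1 fun i => ?_
    rw [← cpr_sr cs h]
    exact hb.2 _ ⟨isRoot_sr cs h i, sr_nonneg i⟩
  refine H.mem_DD_of ?_ (PS_mono h2 h1) hxU
  rintro z (rfl | rfl)
  · exact H.r_pos
  · exact H.r_pos'

/-- **`Z(U) ∩ Z(U)^w`** -/
theorem inter' (hG : GG cs h T X = ⊤) {w : W} {k x : Y} (hk : Rp cs R.nsys w k) (hx : x ∈ DD X r r')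
    (hx' : x ∈ cj k (DD X r r')) : x ∈ RGD.Sup X ({r, r'} ∩ {rep cs h w r, rep cs h w r'}) := by
  have hroot : ∀ z ∈ ({r, r'} : Set (Fin l → ℤ)), IsRoot cs h z := by
    rintro z (rfl | rfl)
    · exact H.rr
    · exact H.rr'
  have hdom : ∀ z ∈ ({r, r'} : Set (Fin l → ℤ)), ∀ i, 0 ≤ pairing A i z := by
    rintro z (rfl | rfl)
    · exact H.dom
    · exact H.dom'
  unfold DD at hx'
  rw [cj_Sup_eq R hk hroot] at hx'
  have h1 := inter R (fl cs h ++ (fl cs h).map fun f => pull cs h f w⁻¹) (g := x) (by rw [hG]; trivial) (by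
    intro f hf
    rw [List.mem_append] at hf
    rcases hf with hf | hf
    · refine Sup_le_PS (RGD.Sup_mono ?_ hx)
      intro z hz
      exact ⟨hroot z hz, fl_iff.2 (hdom z hz) f hf⟩
    · obtain ⟨f', hf', rfl⟩ := List.mem_map.1 hf
      refine Sup_le_PS (RGD.Sup_mono ?_ hx')
      intro z hz
      have hz : rep cs h w⁻¹ z ∈ ({r, r'} : Set (Fin l → ℤ)) := hz
      refine ⟨?_, fl_iff.2 (hdom _ hz) f' hf'⟩
      have := (hroot _ hz).act w
      rwa [rep_apply_inv] at this)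
  refine H.mem_DD_of (S := {r, r'} ∩ {rep cs h w r, rep cs h w r'}) ?_ (PS_mono ?_ h1.1) (H.DD_le_U hx)
  · rintro z ⟨rfl | rfl, -⟩
    · exact H.r_pos
    · exact H.r_pos'
  · rintro z ⟨hz, hf⟩
    have h2 : ∀ i, 0 ≤ pairing A i z := fl_iff.1 fun f hf' => hf f (List.mem_append_left _ hf')
    have h3 : ∀ i, 0 ≤ pairing A i (rep cs h w⁻¹ z) := fl_iff.1 fun f hf' =>
      hf _ (List.mem_append_right _ (List.mem_map.2 ⟨f, hf', rfl⟩))
    refine ⟨H.all z hz h2, ?_⟩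
    rcases H.all _ (hz.act w⁻¹) h3 with h4 | h4
    · left; rw [← h4, rep_apply_inv]
    · right
      show z = _
      rw [← h4, rep_apply_inv]

theorem B_le (a : Fin l → ℤ) (ha : a = r ∨ a = r') : RGD.B cs h T X ≤ Subgroup.normalizer (X a : Set Y) := by
  rcases ha with rfl | rfl
  · exact B_le_normalizer (H.lr H.rr) H.hdr
  · exact B_le_normalizer (H.lr H.rr') H.hdr'

theorem cj_B {a : Fin l → ℤ} (ha : a = r ∨ a = r') {b : Y} (hb : b ∈ RGD.B cs h T X) : cj b (X a) = X a :=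
  mem_normalizer_iff_cj.1 (H.B_le a ha hb)

theorem cj_B_DD {b : Y} (hb : b ∈ RGD.B cs h T X) : cj b (DD X r r') = DD X r r' := by
  apply le_antisymm
  · unfold DD
    rw [RGD.cj_Sup]
    refine iSup_le ?_
    rintro ⟨z, hz⟩
    have hz' : z = r ∨ z = r' := hz
    show cj b (X z) ≤ _
    rw [H.cj_B hz' hb]
    exact RGD.le_Sup hz
  · refine DD_le ?_ ?_
    · rw [← H.cj_B (Or.inl rfl) hb]
      exact cj_mono b X_le_DD
    · rw [← H.cj_B (Or.inr rfl) hb]
      exact cj_mono b X_le_DD'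

/-- an automorphism which fixes `U` -/
theorem aut_key (hG : GG cs h T X = ⊤) {a a' : Fin l → ℤ} (ha : a = r ∨ a = r')
    (ha' : a' = r ∨ a' = r') (hne : a' ≠ a) {m : Y} (hm : DD X r r' ⊓ cj m (DD X r r') ≤ X a) (hm' : X a ≤ cj m (DD X r r'))
    (τ : MulAut Y) (hτ : ∀ x, x ∈ RGD.Sup X (RGD.Pos cs h) ↔ τ x ∈ RGD.Sup X (RGD.Pos cs h)) {x : Y} (hx : x ∈ X a) :
    τ x ∈ X r ∨ τ x ∈ X r' := by
  have haD : ∀ {b : Fin l → ℤ}, (b = r ∨ b = r') → X b ≤ DD X r r' := by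
    rintro b (rfl | rfl)
    · exact X_le_DD
    · exact X_le_DD'
  have hτD : ∀ x, x ∈ DD X r r' ↔ τ x ∈ DD X r r' := by
    intro x
    rw [H.cen_iff hG, H.cen_iff hG, ← hτ x]
    refine and_congr_right fun _ => ?_
    constructor
    · intro h1 u hu
      obtain ⟨v, rfl⟩ := τ.surjective u
      rw [← map_mul, h1 v ((hτ v).2 hu), map_mul]
    · intro h1 u hu
      have h2 := h1 (τ u) ((hτ u).1 hu)
      rw [← map_mul, ← map_mul] at h2
      exact τ.injective h2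
  obtain ⟨w, b₁, hb₁, k, hk, b₂, hb₂, e⟩ := (mem_GG R (g := τ m)).1 (by rw [hG]; trivial)
  have hcjτ : ∀ y, y ∈ cj m (DD X r r') ↔ τ y ∈ cj (τ m) (DD X r r') := by
    intro y
    rw [mem_cj, mem_cj, hτD, map_mul, map_mul, map_inv]
  have hcj : cj (τ m) (DD X r r') = cj b₁ (cj k (DD X r r')) := by
    rw [e, cj_mul, cj_mul, H.cj_B_DD hb₂]
  have key : ∀ y, y ∈ DD X r r' → y ∈ cj m (DD X r r') → b₁⁻¹ * τ y * b₁ ∈
      RGD.Sup X ({r, r'} ∩ {rep cs h w r, rep cs h w r'}) := by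
    intro y hy hy'
    refine H.inter' hG hk ?_ ?_
    · rw [← mem_cj, H.cj_B_DD hb₁]
      exact (hτD y).1 hy
    · rw [← mem_cj, ← hcj]
      exact (hcjτ y).1 hy'
  have hone : ∀ {c : Fin l → ℤ}, (c = r ∨ c = r') → ({r, r'} ∩ {rep cs h w r, rep cs h w r'} : Set (Fin l → ℤ)) ⊆ {c} →
      τ x ∈ X c := by
    intro c hc hsub
    have h1 := key x (haD ha hx) (hm' hx)
    have h2 : RGD.Sup X ({r, r'} ∩ {rep cs h w r, rep cs h w r'}) ≤ X c := by
      refine RGD.Sup_le fun z hz => ?_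
      rw [hsub hz]
    have h3 := h2 h1
    rw [← mem_cj, H.cj_B hc hb₁] at h3
    exact h3
  by_cases hr : rep cs h w r = r
  · by_cases hr' : rep cs h w r' = r'
    · exfalso
      -- `Z(U)^m = Z(U)`
      have h1 : cj k (DD X r r') = DD X r r' := by
        unfold DD
        rw [cj_Sup_eq R hk (by
          rintro z (rfl | rfl)
          · exact H.rr
          · exact H.rr')]
        congr 1
        ext z
        show (rep cs h w⁻¹ z = r ∨ rep cs h w⁻¹ z = r') ↔ (z = r ∨ z = r')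
        have h2 : ∀ c, rep cs h w c = c → (rep cs h w⁻¹ z = c ↔ z = c) := by
          intro c hc
          constructor
          · intro h3
            rw [← rep_apply_inv cs h w z, h3, hc]
          · rintro rfl
            have h4 := rep_inv_apply cs h w z
            rwa [hc] at h4
        rw [h2 r hr, h2 r' hr']
      have h2 : cj (τ m) (DD X r r') = DD X r r' := by rw [hcj, h1, H.cj_B_DD hb₁]
      have h3 : DD X r r' ≤ cj m (DD X r r') := by
        intro y hy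
        rw [hcjτ, h2]
        exact (hτD y).1 hy
      have h4 : X a' ≤ X a := le_trans (le_inf (haD ha') (le_trans (haD ha') h3)) hm
      have hra : IsRoot cs h a := by
        rcases ha with rfl | rfl
        · exact H.rr
        · exact H.rr'
      have hra' : IsRoot cs h a' := by
        rcases ha' with rfl | rfl
        · exact H.rr
        · exact H.rr'
      have h5 := X_inf_X R hra' hra hne
      rw [inf_eq_left.2 h4] at h5
      exact X_ne_bot R hra' h5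
    · left
      refine hone (Or.inl rfl) ?_
      rintro z ⟨rfl | rfl, h2⟩
      · rfl
      · exfalso
        rcases h2 with h2 | h2
        · exact H.rep_ne w h2.symm
        · exact hr' (Eq.symm h2)
  · right
    refine hone (Or.inr rfl) ?_
    rintro z ⟨rfl | rfl, h2⟩
    · exfalso
      rcases h2 with h2 | h2
      · exact hr h2.symm
      · exact H.rep_ne' w (Eq.symm h2)
    · rfl

/-- the simple reflection `s_i` fixes `a` and moves `a'` -/
theorem inf_simple (hG : GG cs h T X = ⊤) {a a' : Fin l → ℤ} (haa : (a = r ∧ a' = r') ∨ (a = r' ∧ a' = r)) {i : Fin l}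
    (hi : pairing A i a = 0) (hi' : pairing A i a' ≠ 0) :
    DD X r r' ⊓ cj (n i) (DD X r r') ≤ X a ∧ X a ≤ cj (n i) (DD X r r') := by
  have hrep : ∀ z : Fin l → ℤ, rep cs h (cs.simple i) z = z - pairing A i z • sr i := fun z => rep_simple_eq cs h i z
  have h1 : rep cs h (cs.simple i) a = a := by rw [hrep, hi, zero_smul, sub_zero]
  have h2 : rep cs h (cs.simple i) a' ≠ a' := by
    rw [hrep]
    intro h3
    have h4 := congrFun (sub_eq_self.1 h3) i
    rw [Pi.smul_apply, sr_self, smul_eq_mul, mul_one] at h4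
    exact hi' h4
  have hset : ({r, r'} : Set (Fin l → ℤ)) ∩ {rep cs h (cs.simple i) r, rep cs h (cs.simple i) r'} ⊆ {a} := by
    rcases haa with ⟨rfl, rfl⟩ | ⟨rfl, rfl⟩
    · rintro z ⟨rfl | rfl, h3⟩
      · rfl
      · exfalso
        rcases h3 with h3 | h3
        · exact H.rep_ne _ h3.symm
        · exact h2 (Eq.symm h3)
    · rintro z ⟨rfl | rfl, h3⟩
      · exfalso
        rcases h3 with h3 | h3
        · exact h2 h3.symm
        · exact H.rep_ne' _ (Eq.symm h3)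
      · rfl
  have hra : IsRoot cs h a := by
    rcases haa with ⟨rfl, -⟩ | ⟨rfl, -⟩
    · exact H.rr
    · exact H.rr'
  constructor
  · rintro x ⟨hx, hx'⟩
    have h3 := H.inter' hG (rp_simple cs R.nsys i) hx hx'
    have h4 : RGD.Sup X ({r, r'} ∩ {rep cs h (cs.simple i) r, rep cs h (cs.simple i) r'}) ≤ X a := by
      refine RGD.Sup_le fun z hz => ?_
      rw [hset hz]
    exact h4 h3
  · have h3 := R.conj_rp (rp_simple cs R.nsys i) hra
    rw [h1] at h3
    rw [← h3]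
    refine cj_mono _ ?_
    rcases haa with ⟨rfl, -⟩ | ⟨rfl, -⟩
    · exact X_le_DD
    · exact X_le_DD'

/-- **Automorphisms** permute the conjugates of `X r` and `X r'`. -/
theorem aut [Finite Y] [Fact p.Prime] (hG : GG cs h T X = ⊤) {i j : Fin l} (hi : pairing A i r = 0)
    (hi' : pairing A i r' ≠ 0) (hj : pairing A j r' = 0) (hj' : pairing A j r ≠ 0) (σ : MulAut Y) {x : Y}
    (hx : x ∈ X r ∨ x ∈ X r') : ∃ g : Y, σ x ∈ cj g (X r) ∨ σ x ∈ cj g (X r') := by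
  obtain ⟨U, hU⟩ := exists_sylow_U R hG
  have hmem : ∀ y, y ∈ U ↔ y ∈ RGD.Sup X (RGD.Pos cs h) := by
    intro y
    rw [← hU]; rfl
  open scoped Pointwise in
  obtain ⟨t, ht⟩ : ∃ t : Y, ∀ y : Y, y ∈ U ↔ t⁻¹ * σ y * t ∈ U := by
    obtain ⟨t, ht⟩ := MulAction.exists_smul_eq Y U (σ • U)
    refine ⟨t, fun y => ?_⟩
    have h1 : σ • y ∈ σ • (U : Subgroup Y) ↔ y ∈ (U : Subgroup Y) := Subgroup.smul_mem_pointwise_smul_iff
    have h2 : MulAut.conj t • (t⁻¹ * σ y * t) ∈ MulAut.conj t • (U : Subgroup Y) ↔ (t⁻¹ * σ y * t) ∈ (U : Subgroup Y) :=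
      Subgroup.smul_mem_pointwise_smul_iff
    have h3 : MulAut.conj t • (t⁻¹ * σ y * t) = σ • y := by
      show t * (t⁻¹ * σ y * t) * t⁻¹ = σ y
      group
    have h4 : (MulAut.conj t • (U : Subgroup Y)) = σ • (U : Subgroup Y) := congrArg Sylow.toSubgroup ht
    rw [h3, h4] at h2
    exact h1.symm.trans h2
  set τ : MulAut Y := (MulAut.conj t)⁻¹ * σ with hτ
  have hτx : ∀ y, τ y = t⁻¹ * σ y * t := by
    intro y
    rw [hτ, MulAut.mul_apply]
    have : (MulAut.conj t)⁻¹ = MulAut.conj t⁻¹ := (map_inv _ _).symm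
    rw [this, MulAut.conj_apply, inv_inv]
  have hfix : ∀ y, y ∈ RGD.Sup X (RGD.Pos cs h) ↔ τ y ∈ RGD.Sup X (RGD.Pos cs h) := by
    intro y
    rw [← hmem, ← hmem, hτx]
    exact ht y
  have key : τ x ∈ X r ∨ τ x ∈ X r' := by
    rcases hx with hx | hx
    · obtain ⟨h1, h2⟩ := H.inf_simple hG (Or.inl ⟨rfl, rfl⟩) hi hi'
      exact H.aut_key hG (Or.inl rfl) (Or.inr rfl) H.ne.symm h1 h2 τ hfix hx
    · obtain ⟨h1, h2⟩ := H.inf_simple hG (Or.inr ⟨rfl, rfl⟩) hj hj'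
      exact H.aut_key hG (Or.inr rfl) (Or.inl rfl) H.ne h1 h2 τ hfix hx
  refine ⟨t, ?_⟩
  rw [mem_cj, mem_cj, ← hτx]
  exact key

end SpR

end Cfsg.Agent.H400.TwoExc.Sp
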