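import Mathlib
import Cfsg.Agent.H400.TwoExcSpC

/-!
# Root groups in special characteristic: lines, the Heisenberg type group, the count (hub H1), helper400

* `SpR.line_data` : `x + y = a`, all of the same length; `SpR.ti_data`;
* `SpR.num` : the number of root elements;
* `SpR.heis` : subgroups of `Q_r` without root elements.
-/

set_option autoImplicit false
set_option linter.unusedSectionVars false

namespace Cfsg.Agent.H400.TwoExc.Sp

open CoxeterSystem Cfsg.Agent.ChevalleyStructure.CoxeterGeom Cfsg.Agent.Tits.Roots Cfsg.Agent.Tits.Core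
  Cfsg.Agent.Tits.Exchange Cfsg.Agent.Nodes.Reps Cfsg.Agent.Nodes.BNOf Cfsg.Agent.Nodes.StabComb
  Cfsg.Agent.Nodes.Bruhat Cfsg.Agent.Nodes.OppDec Cfsg.Agent.Nodes.PosPair Cfsg.Agent.Nodes.Coroot
  Cfsg.Agent.KFacts.RgdPar Cfsg.Agent.KFacts.RgdSL Cfsg.Agent.KFacts.RgdTI Cfsg.Agent.Nodes.LeviDec
  Cfsg.Agent.Nodes.KindChev Cfsg.Agent.KFacts.RgdCent
open scoped commutatorElement

variable {l : ℕ} {W Y : Type*} [Group W] [Group Y] {M : CoxeterMatrix (Fin l)}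
  {cs : CoxeterSystem M W} {A : Fin l → Fin l → ℤ} {h : IsCartan M A} {p : ℕ} {T : Subgroup Y} {n : Fin l → Y}
  {X : (Fin l → ℤ) → Subgroup Y}

namespace SpR

variable {R : RGD cs h p T n X} {d r r' : Fin l → ℤ} (H : SpR R d r r') [Finite W]

include H

/-! ### The line -/

section Line

variable {x y a : Fin l → ℤ} (hx : IsRoot cs h x) (hy : IsRoot cs h y) (ha : IsRoot cs h a) (hxy : x + y = a)
  (h1 : qf A d x x = qf A d a a) (h2 : qf A d y y = qf A d a a)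

include hx hy ha hxy h1 h2

theorem l_cen {u v : Y} (hu : u ∈ X x) (hv : v ∈ X y) : ⁅u, v⁆ ∈ X a := by
  have h3 := (H.same x y hx hy (by rw [hxy]; exact ha) (by rw [h1, h2]) (by rw [hxy, h1])).1 u hu v hv
  rwa [hxy] at h3

theorem l_cen' {u v : Y} (hv : v ∈ X y) (hu : u ∈ X x) : ⁅v, u⁆ ∈ X a := by
  rw [← commutatorElement_inv]
  exact inv_mem (H.l_cen hx hy ha hxy h1 h2 hu hv)

theorem l_sur {v w : Y} (hv : v ∈ X y) (hv1 : v ≠ 1) (hw : w ∈ X a) : ∃ u ∈ X x, ⁅v, u⁆ = w := by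
  have hyx : y + x = a := by rw [add_comm, hxy]
  refine (H.same y x hy hx (by rw [hyx]; exact ha) (by rw [h1, h2]) (by rw [hyx, h2])).2 v hv hv1 w ?_
  rw [hyx]; exact hw

theorem l_ya : y ≠ a := by
  rintro rfl
  exact hx.ne_zero (by simpa using hxy)

theorem l_xa : x ≠ a := by
  rintro rfl
  exact hy.ne_zero (by simpa using hxy)

theorem l_inf : X y ⊓ X a = ⊥ := X_inf_X R hy ha (H.l_ya hx hy ha hxy h1 h2)

theorem l_qf : 2 * qf A d y a = qf A d a a := by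
  have h3 : x = a - y := by rw [← hxy]; abel
  rw [h3, qf_sub_left, qf_comm H.hd a (a - y), qf_comm H.hd y (a - y), qf_sub_left, qf_sub_left, h2,
    qf_comm H.hd a y] at h1
  omega

theorem l_comm {w v : Y} (hw : w ∈ X a) (hv : v ∈ X y) : w * v = v * w := by
  refine (H.nil y a hy ha ?_ v hv w hw).symm
  have h3 := H.l_qf hx hy ha hxy h1 h2
  have h4 := cpr_mul_qf cs h H.hd y ha
  have h5 := H.qf_pos ha
  by_contra hcon
  push Not at hcon
  have : cpr cs h y a * qf A d a a < 0 := mul_neg_of_neg_of_pos hcon h5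
  omega

theorem l_mem {g : Y} : g ∈ X a ⊔ X y ↔ ∃ w ∈ X a, ∃ v ∈ X y, w * v = g :=
  mem_sup_of_comm fun w hw v hv => H.l_comm hx hy ha hxy h1 h2 hw hv

theorem l_unique {w w' v v' : Y} (hw : w ∈ X a) (hw' : w' ∈ X a) (hv : v ∈ X y) (hv' : v' ∈ X y)
    (he : w * v = w' * v') : w = w' ∧ v = v' := by
  have h3 : w'⁻¹ * w = v' * v⁻¹ := by
    rw [inv_mul_eq_iff_eq_mul, ← mul_assoc, ← he, mul_inv_cancel_right]
  have h4 : w'⁻¹ * w ∈ X y ⊓ X a := by
    refine Subgroup.mem_inf.2 ⟨?_, mul_mem (inv_mem hw') hw⟩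
    rw [h3]; exact mul_mem hv' (inv_mem hv)
  rw [H.l_inf hx hy ha hxy h1 h2, Subgroup.mem_bot] at h4
  have h5 : w = w' := (inv_mul_eq_one.1 h4).symm
  subst h5
  exact ⟨rfl, mul_left_cancel he⟩

theorem l_exists {w v : Y} (hw : w ∈ X a) (hv : v ∈ X y) (hv1 : v ≠ 1) : ∃ u ∈ X x, w * v = u * v * u⁻¹ := by
  obtain ⟨u, hu, e⟩ := H.l_sur hx hy ha hxy h1 h2 hv hv1 (inv_mem hw)
  refine ⟨u, hu, ?_⟩
  have : u * v * u⁻¹ = ⁅u, v⁆ * v := by rw [commutatorElement_def]; group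
  rw [this, ← commutatorElement_inv, e, inv_inv]

theorem l_comm_inj [Finite Y] (hc : Nat.card (X x) = Nat.card (X a)) {v u u' : Y} (hv : v ∈ X y) (hv1 : v ≠ 1)
    (hu : u ∈ X x) (hu' : u' ∈ X x) (he : ⁅v, u⁆ = ⁅v, u'⁆) : u = u' := by
  let f : X x → X a := fun u => ⟨⁅v, (u : Y)⁆, H.l_cen' hx hy ha hxy h1 h2 hv u.2⟩
  have hf : Function.Surjective f := by
    rintro ⟨w, hw⟩
    obtain ⟨u, hu, e⟩ := H.l_sur hx hy ha hxy h1 h2 hv hv1 hw
    exact ⟨⟨u, hu⟩, Subtype.ext e⟩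
  have h3 := Fintype.ofFinite (X x)
  have h4 := Fintype.ofFinite (X a)
  rw [Nat.card_eq_fintype_card, Nat.card_eq_fintype_card] at hc
  have hb := (Fintype.bijective_iff_surjective_and_card f).2 ⟨hf, hc⟩
  have h5 := hb.1 (a₁ := ⟨u, hu⟩) (a₂ := ⟨u', hu'⟩) (Subtype.ext he)
  exact congrArg Subtype.val h5

omit H hx hy ha hxy h1 h2 [Finite W] in
theorem l_conj_eq {u v : Y} : u * v * u⁻¹ = ⁅u, v⁆ * v := by
  rw [commutatorElement_def]; group

theorem l_conj_inj [Finite Y] (hc : Nat.card (X x) = Nat.card (X a)) {u u' v v' : Y} (hu : u ∈ X x)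
    (hu' : u' ∈ X x) (hv : v ∈ X y) (hv' : v' ∈ X y) (hv1 : v ≠ 1) (he : u * v * u⁻¹ = u' * v' * u'⁻¹) :
    u = u' ∧ v = v' := by
  rw [l_conj_eq, l_conj_eq] at he
  obtain ⟨h3, h4⟩ := H.l_unique hx hy ha hxy h1 h2 (H.l_cen hx hy ha hxy h1 h2 hu hv)
    (H.l_cen hx hy ha hxy h1 h2 hu' hv') hv hv' he
  subst h4
  refine ⟨?_, rfl⟩
  refine H.l_comm_inj hx hy ha hxy h1 h2 hc hv hv1 hu hu' ?_
  rw [← commutatorElement_inv, h3, commutatorElement_inv]

theorem l_conj_not_mem {u v : Y} (hu : u ∈ X x) (hv : v ∈ X y) (hv1 : v ≠ 1) : u * v * u⁻¹ ∉ X a := by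
  intro h3
  rw [l_conj_eq] at h3
  have h4 : v ∈ X y ⊓ X a := Subgroup.mem_inf.2 ⟨hv,
    (mul_mem_cancel_left (H.l_cen hx hy ha hxy h1 h2 hu hv)).1 h3⟩
  rw [H.l_inf hx hy ha hxy h1 h2, Subgroup.mem_bot] at h4
  exact hv1 h4

theorem l_conj_mem {u v : Y} (hu : u ∈ X x) (hv : v ∈ X y) : u * v * u⁻¹ ∈ X a ⊔ X y := by
  rw [l_conj_eq]
  exact mul_mem (Subgroup.mem_sup_left (H.l_cen hx hy ha hxy h1 h2 hu hv)) (Subgroup.mem_sup_right hv)

theorem line_data [Finite Y] (hxo : ∃ w : W, rep cs h w a = x) (hyo : ∃ w : W, rep cs h w a = y) {q : ℕ}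
    (hq : Nat.card (X a) = q) :
    ∃ (E : Subgroup Y) (g : Fin (q + 1) → Y), (∀ z, z ∈ E ↔ ∃ i, z ∈ cj (g i) (X a)) ∧
      ∀ i j, i ≠ j → ∀ z, z ∈ cj (g i) (X a) → z ∈ cj (g j) (X a) → z = 1 := by
  classical
  obtain ⟨w, hw⟩ := hyo
  obtain ⟨w', hw'⟩ := hxo
  obtain ⟨k, hk⟩ := exists_rp cs R.nsys w
  have hky : cj k (X a) = X y := by rw [R.conj_rp hk ha, hw]
  have hqx : Nat.card (X x) = q := by rw [← hw', Nodes.CardSup.card_X_rep R w' ha, hq]
  have hc : Nat.card (X x) = Nat.card (X a) := by rw [hqx, hq]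
  have hF : Nat.card (Option (X x)) = q + 1 := by
    rw [Finite.card_option, hqx]
  let e : Fin (q + 1) ≃ Option (X x) := (Finite.equivFinOfCardEq hF).symm
  let g0 : Option (X x) → Y := fun o => match o with
    | none => 1
    | some u => (u : Y) * k
  have hg0 : ∀ u : X x, cj (g0 (some u)) (X a) = cj (u : Y) (X y) := by
    intro u
    show cj ((u : Y) * k) _ = _
    rw [cj_mul, hky]
  have hg1 : cj (g0 none) (X a) = X a := cj_one _
  refine ⟨X a ⊔ X y, fun i => g0 (e i), ?_, ?_⟩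
  · intro z
    constructor
    · intro hz
      obtain ⟨w', hw', v, hv, rfl⟩ := (H.l_mem hx hy ha hxy h1 h2).1 hz
      by_cases hv1 : v = 1
      · subst hv1
        refine ⟨e.symm none, ?_⟩
        show _ ∈ cj (g0 (e (e.symm none))) _
        rw [e.apply_symm_apply, hg1, mul_one]
        exact hw'
      · obtain ⟨u, hu, he⟩ := H.l_exists hx hy ha hxy h1 h2 hw' hv hv1
        refine ⟨e.symm (some ⟨u, hu⟩), ?_⟩
        show _ ∈ cj (g0 (e (e.symm (some ⟨u, hu⟩)))) _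
        rw [e.apply_symm_apply, hg0, he]
        exact conj_mem_cj.2 hv
    · rintro ⟨i, hi⟩
      have hi' : z ∈ cj (g0 (e i)) (X a) := hi
      rcases ho : e i with _ | u
      · rw [ho, hg1] at hi'
        exact Subgroup.mem_sup_left hi'
      · rw [ho, hg0] at hi'
        have h3 := H.l_conj_mem hx hy ha hxy h1 h2 u.2 (mem_cj.1 hi')
        have h4 : (u : Y) * ((u : Y)⁻¹ * z * u) * (u : Y)⁻¹ = z := by group
        rwa [h4] at h3
  · intro i j hij z hi hj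
    have hi' : z ∈ cj (g0 (e i)) (X a) := hi
    have hj' : z ∈ cj (g0 (e j)) (X a) := hj
    have hne : e i ≠ e j := fun h0 => hij (e.injective h0)
    by_contra hz
    have key : ∀ u : X x, z ∈ cj (u : Y) (X y) → z ∈ X a → False := by
      intro u h3 h4
      have h5 := mem_cj.1 h3
      refine H.l_conj_not_mem hx hy ha hxy h1 h2 u.2 h5 ?_ ?_
      · intro h6
        apply hz
        have : z = (u : Y) * ((u : Y)⁻¹ * z * u) * (u : Y)⁻¹ := by group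
        rw [this, h6]; group
      · have : (u : Y) * ((u : Y)⁻¹ * z * u) * (u : Y)⁻¹ = z := by group
        rw [this]; exact h4
    rcases ho : e i with _ | u <;> rcases ho' : e j with _ | u'
    · exact hne (by rw [ho, ho'])
    · rw [ho, hg1] at hi'
      rw [ho', hg0] at hj'
      exact key u' hj' hi'
    · rw [ho, hg0] at hi'
      rw [ho', hg1] at hj'
      exact key u hi' hj'
    · rw [ho, hg0] at hi'
      rw [ho', hg0] at hj'
      obtain ⟨h4, -⟩ := H.l_conj_inj hx hy ha hxy h1 h2 hc u.2 u'.2 (mem_cj.1 hi') (mem_cj.1 hj') (by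
        intro h4
        apply hz
        have : z = (u : Y) * ((u : Y)⁻¹ * z * u) * (u : Y)⁻¹ := by group
        rw [this, h4]; group) (by group)
      exact hne (by rw [ho, ho', Subtype.ext h4])

end Line

theorem ti_data [Finite Y] [Fact p.Prime] (hG : GG cs h T X = ⊤) {a : Fin l → ℤ} (ha : a = r ∨ a = r') {q : ℕ}
    (hq : Nat.card (X a) = q) {x y : Fin l → ℤ} (hx : IsRoot cs h x) (hy : IsRoot cs h y) (hxy : x + y = a)
    (h1 : qf A d x x = qf A d a a) (h2 : qf A d y y = qf A d a a) : TI p q (X a) where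
  card := hq
  nor := by
    obtain ⟨U, hU⟩ := exists_sylow_U R hG
    refine ⟨U, fun m hm x hx => ?_⟩
    have h3 : ((U : Subgroup Y) : Set Y) = RGD.Sup X (RGD.Pos cs h) := by rw [← hU]
    rw [h3, KFacts.RgdAut.normalizer_U' R hG] at hm
    exact (Subgroup.mem_normalizer_iff.1 (H.B_le a ha hm) x).1 hx
  line := by
    rcases ha with rfl | rfl
    · exact H.line_data hx hy H.rr hxy h1 h2 (H.conj_r hx h1) (H.conj_r hy h2) hq
    · exact H.line_data hx hy H.rr' hxy h1 h2 (H.conj_r' hx h1) (H.conj_r' hy h2) hq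

/-! ### The number of root elements -/

theorem disj (hG : GG cs h T X = ⊤) {x : Y} (h1 : ∃ g : Y, x ∈ cj g (X r)) (h2 : ∃ g : Y, x ∈ cj g (X r')) : x = 1 := by
  obtain ⟨g, hg⟩ := h1
  obtain ⟨g', hg'⟩ := h2
  obtain ⟨w, b₁, hb₁, k, hk, b₂, hb₂, e⟩ := (mem_GG R (g := g'⁻¹ * g)).1 (by rw [hG]; trivial)
  -- `z = g'⁻¹ x g'` lies in `X r'` and in `(X r)^{g'⁻¹ g}`
  have h3 : g'⁻¹ * x * g' ∈ X r' := mem_cj.1 hg'
  have h4 : g'⁻¹ * x * g' ∈ cj (g'⁻¹ * g) (X r) := by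
    rw [mem_cj]
    have : (g'⁻¹ * g)⁻¹ * (g'⁻¹ * x * g') * (g'⁻¹ * g) = g⁻¹ * x * g := by group
    rw [this]
    exact mem_cj.1 hg
  rw [e, cj_mul, cj_mul, H.cj_B (Or.inl rfl) hb₂, R.conj_rp hk H.rr] at h4
  rw [← H.cj_B (Or.inr rfl) hb₁] at h3
  have h5 : b₁⁻¹ * (g'⁻¹ * x * g') * b₁ ∈ X (rep cs h w r) ⊓ X r' :=
    Subgroup.mem_inf.2 ⟨mem_cj.1 h4, mem_cj.1 h3⟩
  rw [X_inf_X R (H.rr.act w) H.rr' (H.rep_ne w), Subgroup.mem_bot] at h5
  have : x = g' * b₁ * (b₁⁻¹ * (g'⁻¹ * x * g') * b₁) * b₁⁻¹ * g'⁻¹ := by group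
  rw [this, h5]
  group

theorem num [Finite Y] (hG : GG cs h T X = ⊤) {q : ℕ} (hq : Nat.card (X r) = q) (hq' : Nat.card (X r') = q) :
    {x : Y | x ≠ 1 ∧ ∃ g : Y, x ∈ cj g (X r) ∨ x ∈ cj g (X r')}.ncard =
      (q - 1) * (PS T X (Ge cs h r)).index + (q - 1) * (PS T X (Ge cs h r')).index := by
  classical
  rw [← num_data hG (H.lr H.rr) hq, ← num_data hG (H.lr H.rr') hq', ← Set.ncard_union_eq ?_ (Set.toFinite _)
    (Set.toFinite _)]
  · congr 1
    ext x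
    simp only [Set.mem_union, Set.mem_ofPred_eq]
    constructor
    · rintro ⟨h1, g, h2 | h2⟩
      · exact Or.inl ⟨h1, g, h2⟩
      · exact Or.inr ⟨h1, g, h2⟩
    · rintro (⟨h1, g, h2⟩ | ⟨h1, g, h2⟩)
      · exact ⟨h1, g, Or.inl h2⟩
      · exact ⟨h1, g, Or.inr h2⟩
  · rw [Set.disjoint_left]
    rintro x ⟨h1, h2⟩ ⟨-, h3⟩
    exact h1 (H.disj hG h2 h3)

end SpR

end Cfsg.Agent.H400.TwoExc.Sp
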