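import Mathlib
import Cfsg.Agent.H400.TwoExcSpD

/-!
# Special characteristic: the group `Q_r`, subgroups without root elements (hub H1), helper400

* `SpR.bound'` : `(|D| |W₀|)² ≤ |Q_r| |Z|`;
* `SpR.w2`, `SpR.w3` : subgroups `X s₁ X s₂ (X s₃)` all of whose elements are root elements;
* `SpR.lr2` : the data `LR2 p q a N (X r) (X r')`.
-/

set_option autoImplicit false
set_option linter.unusedSectionVars false

namespace Cfsg.Agent.H400.TwoExc.Sp

open CoxeterSystem Cfsg.Agent.ChevalleyStructure.CoxeterGeom Cfsg.Agent.Tits.Roots Cfsg.Agent.Tits.Core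
  Cfsg.Agent.Tits.Exchange Cfsg.Agent.Nodes.Reps Cfsg.Agent.Nodes.BNOf Cfsg.Agent.Nodes.StabComb
  Cfsg.Agent.Nodes.Bruhat Cfsg.Agent.Nodes.OppDec Cfsg.Agent.Nodes.PosPair Cfsg.Agent.Nodes.Coroot
  Cfsg.Agent.KFacts.RgdPar Cfsg.Agent.KFacts.RgdSL Cfsg.Agent.KFacts.RgdTI Cfsg.Agent.Nodes.LeviDec
  Cfsg.Agent.Nodes.KindChev Cfsg.Agent.KFacts.RgdCent
open scoped commutatorElement

variable {l : ℕ} {W Y : Type*} [Group W] [Group Y] {M : CoxeterMatrix (Fin l)}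
  {cs : CoxeterSystem M W} {A : Fin l → Fin l → ℤ} {h : IsCartan M A} {p : ℕ} {T : Subgroup Y} {n : Fin l → Y}
  {X : (Fin l → ℤ) → Subgroup Y}

namespace SpR

variable {R : RGD cs h p T n X} {d r r' : Fin l → ℤ} (H : SpR R d r r') [Finite W]

include H

theorem nilq {x y : Fin l → ℤ} (hx : IsRoot cs h x) (hy : IsRoot cs h y) (h0 : 0 ≤ qf A d x y) {u v : Y}
    (hu : u ∈ X x) (hv : v ∈ X y) : u * v = v * u := by
  refine H.nil x y hx hy ?_ u hu v hv
  have h1 := (cpr_sign H.hd hy (H.qf_pos hy) x).1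
  by_contra hcon
  push Not at hcon
  have := h1.1 hcon
  omega

theorem gr : GR cs h d r where
  rr := H.rr
  dom := H.dom
  hd := H.hd
  dpos := H.dpos
  max i := by
    have h1 := H.qf_le (isRoot_sr cs h i)
    have h2 := qf_root cs h H.hd (1 : W) i
    rw [map_one, Module.End.one_apply] at h2
    omega

/-- the centre of `Q_r` -/
def Zs (cs : CoxeterSystem M W) (h : IsCartan M A) (d r : Fin l → ℤ) : Set (Fin l → ℤ) :=
  {s | s ∈ Gt cs h r ∧ (s = r ∨ qf A d s s < qf A d r r)}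

theorem comm_ne {s t : Fin l → ℤ} (hs : s ∈ Gt cs h r) (ht : t ∈ Gt cs h r) (h0 : cpr cs h s t < 0) :
    s + t = r ∧ qf A d s s = qf A d r r ∧ qf A d t t = qf A d r r ∧ s ≠ r ∧ t ≠ r := by
  have hneg : s ≠ -t := by
    rintro rfl
    have h1 := hs.2
    rw [cpr_neg cs h _ H.rr] at h1
    have := ht.2
    omega
  have hst : s ≠ t := by
    rintro rfl
    rw [cpr_self cs h hs.1] at h0
    omega
  have h1 := (cpr_sign H.hd ht.1 (H.qf_pos ht.1) s).1.1 h0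
  have h2 : cpr cs h t s < 0 := (cpr_sign H.hd hs.1 (H.qf_pos hs.1) t).1.2 (by rw [qf_comm H.hd]; exact h1)
  have h3 := cpr_mul_lt hs.1 ht.1 hst hneg
  have hroot : IsRoot cs h (s + t) := by
    by_cases h4 : cpr cs h s t = -1
    · exact isRoot_add hs.1 ht.1 h4
    · have h5 : cpr cs h t s = -1 := by
        by_contra h6
        have h7 : cpr cs h s t ≤ -2 := by omega
        have h8 : cpr cs h t s ≤ -2 := by omega
        nlinarith
      rw [add_comm]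
      exact isRoot_add ht.1 hs.1 h5
  have hsum : s + t = r := by
    by_contra hcon
    have h4 := H.gr.cpr_one hroot hcon (by
      rw [cpr_add cs h _ _ H.rr]
      have := hs.2
      have := ht.2
      omega)
    rw [cpr_add cs h _ _ H.rr] at h4
    have := hs.2
    have := ht.2
    omega
  have hsr : s ≠ r := by
    rintro rfl
    exact ht.1.ne_zero (by simpa using hsum)
  have htr : t ≠ r := by
    rintro rfl
    exact hs.1.ne_zero (by simpa using hsum)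
  have htt : qf A d t t = qf A d s s := by
    have h4 := H.gr.len_sub hs hsr
    have h5 : r - s = t := by rw [← hsum]; abel
    rwa [h5] at h4
  have hrr : qf A d r r = qf A d s s + qf A d t t + 2 * qf A d s t := by
    rw [← hsum, qf_add_left, qf_comm H.hd s (s + t), qf_comm H.hd t (s + t), qf_add_left, qf_add_left,
      qf_comm H.hd t s]
    ring
  have hs' : qf A d s s = qf A d r r := by
    rcases H.norm_cases hs.1 with h4 | h4
    · exact h4.1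
    · exfalso
      have := H.len
      omega
  exact ⟨hsum, hs', by rw [htt, hs'], hsr, htr⟩

theorem Zs_comm {s t : Fin l → ℤ} (hs : s ∈ Zs cs h d r) (ht : t ∈ Gt cs h r) {u v : Y} (hu : u ∈ X s)
    (hv : v ∈ X t) : u * v = v * u := by
  refine H.nil s t hs.1.1 ht.1 ?_ u hu v hv
  by_contra hcon
  push Not at hcon
  obtain ⟨-, h1, -, h2, -⟩ := H.comm_ne hs.1 ht hcon
  rcases hs.2 with h3 | h3
  · exact h2 h3
  · omega

theorem r_mem_Gt : r ∈ Gt cs h r := ⟨H.rr, by rw [cpr_self cs h H.rr]; norm_num⟩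

theorem r_mem_Zs : r ∈ Zs cs h d r := ⟨H.r_mem_Gt, Or.inl rfl⟩

theorem central {z g : Y} (hz : z ∈ RGD.Sup X (Zs cs h d r)) (hg : g ∈ QQ cs h X r) : z * g = g * z := by
  have key : ∀ {s : Fin l → ℤ}, s ∈ Zs cs h d r → ∀ u ∈ X s, ∀ g ∈ QQ cs h X r, u * g = g * u := by
    intro s hs u hu g hg
    have h1 : QQ cs h X r ≤ Subgroup.centralizer ({u} : Set Y) := by
      refine RGD.Sup_le fun t ht v hv => ?_
      rw [Subgroup.mem_centralizer_iff]
      rintro _ rfl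
      exact H.Zs_comm hs ht hu hv
    exact Subgroup.mem_centralizer_iff.1 (h1 hg) u rfl
  have h1 : RGD.Sup X (Zs cs h d r) ≤ Subgroup.centralizer ({g} : Set Y) := by
    refine RGD.Sup_le fun s hs u hu => ?_
    rw [Subgroup.mem_centralizer_iff]
    rintro _ rfl
    exact (key hs u hu _ hg).symm
  exact (Subgroup.mem_centralizer_iff.1 (h1 hz) g rfl).symm

theorem comm_mem {a b : Y} (ha : a ∈ QQ cs h X r) (hb : b ∈ QQ cs h X r) : ⁅a, b⁆ ∈ X r := by
  refine comm_mem_of_gen (fun s : Gt cs h r => X s.1) (fun z hz s v hv => H.Zs_comm H.r_mem_Zs s.2 hz hv) ?_ a ha b hb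
  rintro ⟨s, hs⟩ ⟨t, ht⟩ u hu v hv
  by_cases h0 : 0 ≤ cpr cs h s t
  · rw [commutatorElement_eq_one_iff_mul_comm.2 (H.nil s t hs.1 ht.1 h0 u hu v hv)]
    exact one_mem _
  · push Not at h0
    obtain ⟨h1, h2, h3, -, -⟩ := H.comm_ne hs ht h0
    have h4 := (H.same s t hs.1 ht.1 (by rw [h1]; exact H.rr) (by rw [h2, h3]) (by rw [h1, h2])).1 u hu v hv
    rwa [h1] at h4

theorem surj {y : Y} (hy : y ∈ QQ cs h X r) (hyZ : y ∉ RGD.Sup X (Zs cs h d r)) {w : Y} (hw : w ∈ X r) :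
    ∃ g ∈ QQ cs h X r, ⁅y, g⁆ = w := by
  classical
  set Z := RGD.Sup X (Zs cs h d r) with hZ
  set S := Gt cs h r \ Zs cs h d r with hS
  have hZQ : Z ≤ QQ cs h X r := RGD.Sup_mono fun s hs => hs.1
  have hfin : S.Finite := (RGD.finite_roots (cs := cs) (h := h)).subset fun a ha => ha.1.1
  have h1 : (⨆ i ∈ hfin.toFinset, (fun i => if i ∈ S then X i else ⊥) i) ⊔ Z = QQ cs h X r := by
    apply le_antisymm
    · refine sup_le (iSup₂_le fun i hi => ?_) hZQ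
      rw [Set.Finite.mem_toFinset] at hi
      show (if i ∈ S then X i else ⊥) ≤ _
      rw [if_pos hi]
      exact RGD.le_Sup hi.1
    · refine RGD.Sup_le fun s hs => ?_
      by_cases hsS : s ∈ Zs cs h d r
      · exact le_trans (RGD.le_Sup hsS) le_sup_right
      · have hsS' : s ∈ S := ⟨hs, hsS⟩
        refine le_trans (le_trans ?_ (le_iSup₂ (f := fun i (_ : i ∈ hfin.toFinset) =>
          (fun i => if i ∈ S then X i else ⊥) i) s ((Set.Finite.mem_toFinset _).2 hsS'))) le_sup_left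
        show _ ≤ (if s ∈ S then X s else ⊥)
        rw [if_pos hsS']
  obtain ⟨s, hs, x, hx, hx1, y', hy', rfl⟩ := exists_component (Q := QQ cs h X r) (Z := Z)
    (fun a ha b hb => RGD.le_Sup H.r_mem_Zs (H.comm_mem ha hb)) hZQ (fun i => if i ∈ S then X i else ⊥) (fun i => by
      show (if i ∈ S then X i else ⊥) ≤ _
      split_ifs with hi
      · exact RGD.le_Sup hi.1
      · exact bot_le) hfin.toFinset (by rw [h1]; exact hy) hyZ
  have hsS : s ∈ S := (Set.Finite.mem_toFinset _).1 hs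
  have hx : x ∈ X s := by
    have h2 : x ∈ (if s ∈ S then X s else ⊥) := hx
    rwa [if_pos hsS] at h2
  have hy' : y' ∈ RGD.Sup X (Gt cs h r \ {s}) := by
    refine (sup_le (iSup₂_le fun i hi => ?_) (RGD.Sup_mono ?_) :
      (⨆ i ∈ hfin.toFinset.erase s, (fun i => if i ∈ S then X i else ⊥) i) ⊔ Z ≤ _) hy'
    · rw [Finset.mem_erase, Set.Finite.mem_toFinset] at hi
      show (if i ∈ S then X i else ⊥) ≤ _
      rw [if_pos hi.2]
      exact RGD.le_Sup (S := Gt cs h r \ {s}) ⟨hi.2.1, hi.1⟩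
    · intro t ht
      refine ⟨ht.1, ?_⟩
      rintro rfl
      exact hsS.2 ht
  have hsr : s ≠ r := by
    rintro rfl
    exact hsS.2 H.r_mem_Zs
  have hss : qf A d s s = qf A d r r := by
    by_contra hne
    exact hsS.2 ⟨hsS.1, Or.inr (lt_of_le_of_ne (H.qf_le hsS.1.1) hne)⟩
  have hr' := H.gr.sub_mem hsS.1 hsr
  obtain ⟨v, hv, hvw⟩ := (H.same s (r - s) hsS.1.1 hr'.1 (by rw [add_sub_cancel]; exact H.rr)
    (H.gr.len_sub hsS.1 hsr).symm (by rw [add_sub_cancel, hss])).2 x hx hx1 w (by rw [add_sub_cancel]; exact hw)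
  refine ⟨v, RGD.le_Sup hr' hv, ?_⟩
  have h2 : RGD.Sup X (Gt cs h r \ {s}) ≤ Subgroup.centralizer ({v} : Set Y) := by
    refine RGD.Sup_le ?_
    rintro t ⟨ht, hts⟩ u hu
    rw [Subgroup.mem_centralizer_iff]
    rintro _ rfl
    refine (H.nil t (r - s) ht.1 hr'.1 ?_ u hu _ hv).symm
    by_contra hcon
    push Not at hcon
    obtain ⟨h3, -⟩ := H.comm_ne ht hr' hcon
    apply hts
    show t = s
    have : t = t + (r - s) - (r - s) := by abel
    rw [this, h3]; abel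
  have h3 : v * y' = y' * v := Subgroup.mem_centralizer_iff.1 (h2 hy') v rfl
  rw [← hvw]
  simp only [commutatorElement_def]
  have h4 : x * y' * v * (x * y')⁻¹ * v⁻¹ = x * (y' * v) * y'⁻¹ * x⁻¹ * v⁻¹ := by group
  rw [h4, ← h3]; group

/-- **Subgroups of `Q_r` without root elements** -/
theorem bound' [Finite Y] {D W₀ : Subgroup Y} (hD : D ≤ QQ cs h X r) (hDr : D ⊓ X r = ⊥)
    (hW : W₀ ≤ RGD.Sup X (Zs cs h d r)) (hDW : D ⊓ W₀ = ⊥) :
    (Nat.card D * Nat.card W₀) ^ 2 ≤ Nat.card (QQ cs h X r) * Nat.card (RGD.Sup X (Zs cs h d r)) :=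
  bound (RGD.le_Sup H.r_mem_Zs) (RGD.Sup_mono fun _ hs => hs.1) (X_ne_bot R H.rr)
    (fun _ hz _ hg => H.central hz hg) (fun _ ha _ hb => H.comm_mem ha hb)
    (fun _ hy hyZ _ hw => H.surj hy hyZ hw) hD hDr hW hDW

theorem card_Z [Finite Y] {q : ℕ} (hq : ∀ s, IsRoot cs h s → Nat.card (X s) = q) {zs : List (Fin l → ℤ)}
    (hz : ∀ s, s ∈ zs ↔ s ∈ Zs cs h d r) : Nat.card (RGD.Sup X (Zs cs h d r)) ≤ q ^ zs.length := by
  have h1 : ∀ L : List (Fin l → ℤ), (∀ s ∈ L, s ∈ Zs cs h d r) → Nat.card (RGD.Sup X {s | s ∈ L}) ≤ q ^ L.length := by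
    intro L
    induction L with
    | nil =>
      intro _
      have h2 : RGD.Sup X {s | s ∈ ([] : List (Fin l → ℤ))} = ⊥ := by
        rw [eq_bot_iff]
        exact RGD.Sup_le fun z hz => absurd hz List.not_mem_nil
      rw [h2, Subgroup.card_bot, List.length_nil, pow_zero]
    | cons a L ih =>
      intro hL
      have h2 : RGD.Sup X {s | s ∈ a :: L} ≤ X a ⊔ RGD.Sup X {s | s ∈ L} := by
        refine RGD.Sup_le fun z hz => ?_
        rcases List.mem_cons.1 hz with rfl | hz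
        · exact le_sup_left
        · exact le_trans (RGD.le_Sup (S := {s | s ∈ L}) hz) le_sup_right
      refine le_trans (Subgroup.card_le_of_le h2) (le_trans (card_sup_le ?_) ?_)
      · intro x hx b hb
        exact H.central (RGD.le_Sup (hL a List.mem_cons_self) hx)
          (RGD.Sup_mono (S' := Gt cs h r) (fun s hs => (hL s (List.mem_cons_of_mem _ hs)).1) hb)
      · rw [hq a (hL a List.mem_cons_self).1.1, List.length_cons, pow_succ']
        exact Nat.mul_le_mul_left _ (ih fun s hs => hL s (List.mem_cons_of_mem _ hs))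
  have h2 : Zs cs h d r = {s | s ∈ zs} := by
    ext s
    exact (hz s).symm
  rw [h2]
  exact h1 zs fun s hs => (hz s).1 hs

/-! ### Subgroups consisting of root elements -/

/-- the root elements -/
def RE (X : (Fin l → ℤ) → Subgroup Y) (r r' : Fin l → ℤ) : Set Y := {x | ∃ g : Y, x ∈ cj g (X r) ∨ x ∈ cj g (X r')}

omit H [Finite W] in
theorem RE_conj (g : Y) (x : Y) (hx : x ∈ RE X r r') : g * x * g⁻¹ ∈ RE X r r' := by
  obtain ⟨k, hk⟩ := hx
  refine ⟨g * k, ?_⟩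
  rw [mem_cj, mem_cj] at hk ⊢
  have : (g * k)⁻¹ * (g * x * g⁻¹) * (g * k) = k⁻¹ * x * k := by group
  rw [this]
  exact hk

theorem X_RE {s : Fin l → ℤ} (hs : IsRoot cs h s) {x : Y} (hx : x ∈ X s) : x ∈ RE X r r' := by
  rcases H.norm_cases hs with ⟨-, w, rfl⟩ | ⟨-, w, rfl⟩
  · obtain ⟨k, hk⟩ := exists_rp cs R.nsys w
    exact ⟨k, Or.inl (by rw [R.conj_rp hk H.rr]; exact hx)⟩
  · obtain ⟨k, hk⟩ := exists_rp cs R.nsys w
    exact ⟨k, Or.inr (by rw [R.conj_rp hk H.rr']; exact hx)⟩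

/-- `s, t, t - s` roots of the same length -/
structure P2 (cs : CoxeterSystem M W) (h : IsCartan M A) (d s t : Fin l → ℤ) : Prop where
  rs : IsRoot cs h s
  rt : IsRoot cs h t
  re : IsRoot cs h (t - s)
  n1 : qf A d s s = qf A d (t - s) (t - s)
  n2 : qf A d t t = qf A d s s
  n3 : 0 ≤ qf A d s t

variable {s t s₁ s₂ s₃ : Fin l → ℤ}

theorem tr {s t : Fin l → ℤ} (P : P2 cs h d s t) {u k : Y} (hu : u ∈ X s) (hu1 : u ≠ 1) (hk : k ∈ X t) :
    ∃ v ∈ X (t - s), v * u * v⁻¹ = u * k := by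
  have h1 := (H.same s (t - s) P.rs P.re (by rw [add_sub_cancel]; exact P.rt) P.n1
    (by rw [add_sub_cancel, P.n2])).2 u hu hu1 k⁻¹ (by rw [add_sub_cancel]; exact inv_mem hk)
  obtain ⟨v, hv, e⟩ := h1
  refine ⟨v, hv, ?_⟩
  have h2 : v * u * v⁻¹ = (u⁻¹ * ⁅u, v⁆)⁻¹ := by rw [commutatorElement_def]; group
  rw [h2, e, mul_inv_rev, inv_inv, inv_inv]
  exact (H.nilq P.rs P.rt P.n3 hu hk).symm

theorem w2 [Finite Y] {q : ℕ} (hq : ∀ s, IsRoot cs h s → Nat.card (X s) = q) (P : P2 cs h d s t) :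
    Nat.card ↥(X s ⊔ X t) = q ^ 2 ∧ ∀ x ∈ X s ⊔ X t, x ≠ 1 → x ∈ RE X r r' := by
  have hne : s ≠ t := by
    intro h0
    exact P.re.ne_zero (by rw [h0, sub_self])
  constructor
  · rw [card_sup_eq (fun a ha b hb => H.nilq P.rs P.rt P.n3 ha hb) (X_inf_X R P.rs P.rt hne), hq s P.rs, hq t P.rt, sq]
  · refine cover_step (fun g x hx => RE_conj g x hx) (fun a ha b hb => H.nilq P.rs P.rt P.n3 ha hb)
      (fun x hx _ => H.X_RE P.rs hx) (fun x hx _ => H.X_RE P.rt hx) ?_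
    intro u hu hu1 k hk
    obtain ⟨v, -, hv⟩ := H.tr P hu hu1 hk
    exact ⟨v, hv⟩

theorem w3 [Finite Y] {q : ℕ} (hq : ∀ s, IsRoot cs h s → Nat.card (X s) = q) (P₁ : P2 cs h d s₁ s₂)
    (P₂ : P2 cs h d s₁ s₃) (P₃ : P2 cs h d s₂ s₃) (h1 : 0 ≤ qf A d s₂ (s₃ - s₁)) (h2 : 0 ≤ qf A d s₂ (s₂ - s₁))
    (h3 : 0 ≤ qf A d s₃ (s₂ - s₁)) :
    Nat.card ↥(X s₁ ⊔ (X s₂ ⊔ X s₃)) = q ^ 3 ∧ ∀ x ∈ X s₁ ⊔ (X s₂ ⊔ X s₃), x ≠ 1 → x ∈ RE X r r' := by
  obtain ⟨c1, c2⟩ := H.w2 hq P₃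
  have c23 : ∀ a ∈ X s₂, ∀ b ∈ X s₃, a * b = b * a := fun a ha b hb => H.nilq P₃.rs P₃.rt P₃.n3 ha hb
  have hcomm : ∀ a ∈ X s₁, ∀ b ∈ X s₂ ⊔ X s₃, a * b = b * a := by
    intro a ha b hb
    obtain ⟨k, hk, k', hk', rfl⟩ := (mem_sup_of_comm c23).1 hb
    have e1 : Commute a k := H.nilq P₁.rs P₁.rt P₁.n3 ha hk
    have e2 : Commute a k' := H.nilq P₂.rs P₂.rt P₂.n3 ha hk'
    exact (e1.mul_right e2).eq
  have hdis : X s₁ ⊓ (X s₂ ⊔ X s₃) = ⊥ := by
    rw [Subgroup.eq_bot_iff_forall]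
    rintro u ⟨hu, hu'⟩
    by_contra hu1
    obtain ⟨k, hk, k', hk', e⟩ := (mem_sup_of_comm c23).1 hu'
    obtain ⟨⟨w, hw⟩, hw1⟩ := (Subgroup.ne_bot_iff_exists_ne_one).1 (X_ne_bot R P₁.rt)
    have hw1 : w ≠ 1 := fun h0 => hw1 (Subtype.ext h0)
    obtain ⟨v, hv, hv'⟩ := H.tr P₁ hu hu1 hw
    have e1 : Commute v k := (H.nilq P₁.rt P₁.re h2 hk hv).symm
    have e2 : Commute v k' := (H.nilq P₂.rt P₁.re h3 hk' hv).symm
    have e3 : Commute v u := by
      rw [← e]; exact e1.mul_right e2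
    have e4 : v * u * v⁻¹ = u := by rw [e3.eq]; group
    rw [e4] at hv'
    exact hw1 (left_eq_mul.1 hv')
  constructor
  · rw [card_sup_eq hcomm hdis, c1, hq s₁ P₁.rs]
    ring
  · refine cover_step (fun g x hx => RE_conj g x hx) hcomm (fun x hx _ => H.X_RE P₁.rs hx) c2 ?_
    intro u hu hu1 b hb
    obtain ⟨k, hk, k', hk', rfl⟩ := (mem_sup_of_comm c23).1 hb
    obtain ⟨v, -, hv'⟩ := H.tr P₁ hu hu1 hk
    obtain ⟨v', hv, hv''⟩ := H.tr P₂ hu hu1 hk'
    refine ⟨v' * v, ?_⟩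
    have e1 : v' * k * v'⁻¹ = k := by
      have : Commute v' k := (H.nilq P₁.rt P₂.re h1 hk hv).symm
      rw [this.eq]; group
    calc v' * v * u * (v' * v)⁻¹ = v' * (v * u * v⁻¹) * v'⁻¹ := by group
      _ = v' * (u * k) * v'⁻¹ := by rw [hv']
      _ = (v' * u * v'⁻¹) * (v' * k * v'⁻¹) := by group
      _ = u * k' * k := by rw [hv'', e1]
      _ = u * (k * k') := by rw [mul_assoc, ← c23 k hk k' hk']

/-- the exponent count -/
theorem heis_data [Finite Y] {q a b w z : ℕ} (hq0 : 2 ≤ q) (hQ : Nat.card (QQ cs h X r) = q ^ (a + b))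
    (hZ : Nat.card (RGD.Sup X (Zs cs h d r)) ≤ q ^ z) (he : a + b + z = 2 * (b + w)) {W₀ : Subgroup Y}
    (hW : W₀ ≤ RGD.Sup X (Zs cs h d r)) (hWc : Nat.card W₀ = q ^ w) (hWR : ∀ x ∈ W₀, x ≠ 1 → x ∈ RE X r r') :
    ∃ (Q : Subgroup Y) (b : ℕ), Nat.card Q = q ^ (a + b) ∧
      ∀ D : Subgroup Y, D ≤ Q → (∀ x ∈ D, (∃ g : Y, x ∈ cj g (X r) ∨ x ∈ cj g (X r')) → x = 1) →
        Nat.card D ≤ q ^ b := by
  refine ⟨QQ cs h X r, b, hQ, fun D hD hDR => ?_⟩
  have h1 : D ⊓ X r = ⊥ := by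
    rw [Subgroup.eq_bot_iff_forall]
    rintro x ⟨h1, h2⟩
    exact hDR x h1 ⟨1, Or.inl (by rw [cj_one]; exact h2)⟩
  have h2 : D ⊓ W₀ = ⊥ := by
    rw [Subgroup.eq_bot_iff_forall]
    rintro x ⟨h1, h2⟩
    by_contra hx1
    exact hx1 (hDR x h1 (hWR x h2 hx1))
  have h3 := H.bound' hD h1 hW h2
  have h4 : (Nat.card D * q ^ w) ^ 2 ≤ (q ^ (b + w)) ^ 2 := by
    rw [hWc, hQ] at h3
    refine le_trans h3 (le_trans (Nat.mul_le_mul_left _ hZ) ?_)
    rw [← pow_add, he, mul_comm 2, pow_mul]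
  have h5 : Nat.card D * q ^ w ≤ q ^ (b + w) := (Nat.pow_le_pow_iff_left two_ne_zero).1 h4
  rw [pow_add] at h5
  exact Nat.le_of_mul_le_mul_right h5 (Nat.pow_pos (by omega))

/-- **The data of the two classes.** -/
theorem lr2 [Finite Y] [Fact p.Prime] (hG : GG cs h T X = ⊤) {i j : Fin l} (hi : pairing A i r = 0)
    (hi' : pairing A i r' ≠ 0) (hj : pairing A j r' = 0) (hj' : pairing A j r ≠ 0) {q f a b w z : ℕ} (hf : 1 ≤ f)
    (hqf : q = p ^ f) (hq : ∀ s, IsRoot cs h s → Nat.card (X s) = q) (hQ : Nat.card (QQ cs h X r) = q ^ (a + b))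
    {zs : List (Fin l → ℤ)} (hz : ∀ s, s ∈ zs ↔ s ∈ Zs cs h d r) (hzl : zs.length = z)
    (he : a + b + z = 2 * (b + w)) {W₀ : Subgroup Y} (hW : W₀ ≤ RGD.Sup X (Zs cs h d r))
    (hWc : Nat.card W₀ = q ^ w) (hWR : ∀ x ∈ W₀, x ≠ 1 → x ∈ RE X r r') {x y x' y' : Fin l → ℤ}
    (hx : IsRoot cs h x) (hy : IsRoot cs h y) (hxy : x + y = r) (hxq : qf A d x x = qf A d r r)
    (hyq : qf A d y y = qf A d r r) (hx' : IsRoot cs h x') (hy' : IsRoot cs h y') (hxy' : x' + y' = r')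
    (hxq' : qf A d x' x' = qf A d r' r') (hyq' : qf A d y' y' = qf A d r' r') {N₁ N₂ : ℕ}
    (hN₁ : (PS T X (Ge cs h r)).index = N₁) (hN₂ : (PS T X (Ge cs h r')).index = N₂) :
    LR2 p q a ((q - 1) * N₁ + (q - 1) * N₂) (X r) (X r') where
  prime := Fact.out
  qf := ⟨f, hf, hqf⟩
  ti := H.ti_data hG (Or.inl rfl) (hq r H.rr) hx hy hxy hxq hyq
  ti' := H.ti_data hG (Or.inr rfl) (hq r' H.rr') hx' hy' hxy' hxq' hyq'
  aut σ x hx := H.aut hG hi hi' hj hj' σ hx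
  heis := by
    have hp : p.Prime := Fact.out
    have hq2 : 2 ≤ q := by
      rw [hqf]
      calc 2 ≤ p := hp.two_le
        _ = p ^ 1 := (pow_one p).symm
        _ ≤ p ^ f := Nat.pow_le_pow_right hp.pos hf
    exact H.heis_data hq2 hQ (by rw [← hzl]; exact H.card_Z hq hz) he hW hWc hWR
  num := by
    rw [← hN₁, ← hN₂]
    exact H.num hG (hq r H.rr) (hq r' H.rr')

end SpR

end Cfsg.Agent.H400.TwoExc.Sp
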