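import Mathlib
import Cfsg.Agent.H400.TwoExcSpE
import Cfsg.Agent.H400.TwoExcChev

/-!
# 2-transitive groups with socle `F₄(2^f)`, `G₂(3^f)` (hub H1): the input (special characteristic), helper400

* `chkNp`, `chkSp` : the checks of the commutator formula modulo `p`;
* `nilC`, `sameC` : the root groups of `D.group K`;
* `lr2C` : the data `LR2`.
-/

set_option autoImplicit false
set_option linter.unusedSectionVars false

namespace Cfsg.Agent.H400.TwoExc.Sp

open CoxeterSystem Cfsg.Agent.ChevalleyStructure.CoxeterGeom Cfsg.Agent.Tits.Roots Cfsg.Agent.Tits.Core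
  Cfsg.Agent.Nodes.Reps Cfsg.Agent.Nodes.BNOf Cfsg.Agent.KFacts.RgdSL Cfsg.Agent.Nodes.RGDChev
  Cfsg.Agent.ChevalleyStructure.CoxeterGeomTypes Cfsg.Agent.Nodes.KindChev Cfsg.Agent.Nodes.Coroot
  Cfsg.Agent.KFacts.RgdTI Cfsg.Agent.KFacts.RgdPar
open Cfsg.Lie Cfsg.Agent.ChevalleyStructure Cfsg.Agent.ChevalleyStructure.Elts
open Cfsg.Agent.H384.TwoTrans
open scoped commutatorElement

universe u v w

/-- coordinates -/
def vL (D : ChevalleyDatum) (l r : ℕ) : List ℤ := (List.range l).map fun i => RootVec.rt D r i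

/-- the dual row -/
def rowL (D : ChevalleyDatum) (l : ℕ) (CA : List (List ℤ)) (dl : List ℤ) (r : ℕ) : List ℤ :=
  (List.range l).map fun i => dl.getD i 0 * dotL (CA.getD i []) (vL D l r)

theorem length_vL (D : ChevalleyDatum) (l r : ℕ) : (vL D l r).length = l := by simp [vL]

theorem toV_vL (D : ChevalleyDatum) (l r : ℕ) : (toV (vL D l r) : Fin l → ℤ) = vec D l r := by
  funext j
  unfold toV vL
  rw [List.getD_eq_getElem?_getD, List.getElem?_map, List.getElem?_range j.2]
  rfl

theorem qf_dot {D : ChevalleyDatum} {l : ℕ} {A : Fin l → Fin l → ℤ} {CA : List (List ℤ)}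
    (hA : ∀ i : Fin l, CA.getD i [] = List.ofFn (A i)) (dl : List ℤ) (r s : ℕ) :
    qf A (toV dl) (vec D l r) (vec D l s) = dotL (rowL D l CA dl r) (vL D l s) := by
  have h1 : rowL D l CA dl r = List.ofFn (fun i : Fin l => (toV dl : Fin l → ℤ) i * pairing A i (vec D l r)) := by
    refine List.ext_getElem (by simp [rowL]) fun j h7 h8 => ?_
    have hj : j < l := by simpa [rowL] using h7
    have h9 : pairing A ⟨j, hj⟩ (vec D l r) = dotL (CA.getD j []) (vL D l r) := by
      rw [← toV_vL, pairing_toV hA ⟨j, hj⟩ (length_vL D l r)]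
    simp only [rowL, List.getElem_map, List.getElem_range, List.getElem_ofFn]
    exact congrArg _ h9.symm
  rw [h1, dotL_ofFn _ _ (length_vL D l s), toV_vL]
  rfl

/-- the commutator terms of two roots with non-negative scalar product vanish modulo `p` -/
def chkNp (D : ChevalleyDatum) (l : ℕ) (CA : List (List ℤ)) (dl : List ℤ) (p : ℤ) : Bool :=
  (List.range D.nroots).all fun r => (List.range D.nroots).all fun s =>
    s == r || s == D.neg r || decide (dotL (rowL D l CA dl r) (vL D l s) < 0) ||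
      (D.commTerms r s).all fun c => decide (p ∣ c.2.1)

/-- one term of type `(1, 1)` -/
def shp1 : List (ℕ × ℤ × ℕ × ℕ) → Bool
  | [(_, _, 1, 1)] => true
  | _ => false

theorem of_shp1 {L : List (ℕ × ℤ × ℕ × ℕ)} (h : shp1 L = true) : ∃ v C, L = [(v, C, 1, 1)] := by
  unfold shp1 at h
  split at h
  · exact ⟨_, _, rfl⟩
  · exact absurd h (by decide)

/-- the commutator terms of two roots of the same length, whose sum is a root of the same length, modulo `p` -/
def chkSp (D : ChevalleyDatum) (l : ℕ) (CA : List (List ℤ)) (dl : List ℤ) (p : ℤ) : Bool :=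
  (List.range D.nroots).all fun a => (List.range D.nroots).all fun b =>
    !(decide (dotL (rowL D l CA dl b) (vL D l b) = dotL (rowL D l CA dl a) (vL D l a)) &&
      decide (2 * dotL (rowL D l CA dl a) (vL D l b) = - dotL (rowL D l CA dl a) (vL D l a))) ||
    (a != b && a != D.neg b && shp1 ((D.commTerms b a).filter fun c => !decide (p ∣ c.2.1)))

section Chev

variable {D : ChevalleyDatum} {l : ℕ} {M : CoxeterMatrix (Fin l)} (hp : IsType D l M) {K : Type u} [Field K]
  {W : Type*} [Group W] {cs : CoxeterSystem M W} {CA : List (List ℤ)} {dl : List ℤ} {p : ℕ} [CharP K p]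

omit [CharP K p] in
theorem wordG_filter (hD : InList D) (hp0 : ((p : ℤ) : K) = 0) (t u : K) (L : List (ℕ × ℤ × ℕ × ℕ)) :
    wordG hD (L.map fun c => (c.1, (c.2.1 : K) * (-t) ^ c.2.2.1 * u ^ c.2.2.2)) =
      wordG hD ((L.filter fun c => !decide ((p : ℤ) ∣ c.2.1)).map fun c =>
        (c.1, (c.2.1 : K) * (-t) ^ c.2.2.1 * u ^ c.2.2.2)) := by
  induction L with
  | nil => rfl
  | cons c L ih =>
    by_cases hc : (p : ℤ) ∣ c.2.1
    · have h1 : (c.2.1 : K) = 0 := by
        obtain ⟨k, hk⟩ := hc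
        rw [hk, Int.cast_mul, hp0, zero_mul]
      rw [List.map_cons, wordG_cons, ih, List.filter_cons_of_neg (by simpa using hc)]
      show xG hD c.1 ((c.2.1 : K) * _ * _) * _ = _
      rw [h1, zero_mul, zero_mul, xG_zero, one_mul]
    · rw [List.map_cons, wordG_cons, ih, List.filter_cons_of_pos (by simpa using hc), List.map_cons, wordG_cons]

include hp

omit [CharP K p] in
theorem nilI (hp0 : ((p : ℤ) : K) = 0) (hA : ∀ i : Fin l, CA.getD i [] = List.ofFn (cartanOf D l i))
    (hN : chkNp D l CA dl p = true) {r s : ℕ}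
    (hr : r < D.nroots) (hs : s < D.nroots) (hneg : s ≠ D.neg r)
    (h0 : 0 ≤ qf (cartanOf D l) (toV dl) (vec D l r) (vec D l s)) (a b : K) :
    xG hp.inList s a * xG hp.inList r b = xG hp.inList r b * xG hp.inList s a := by
  by_cases hsr : s = r
  · subst hsr
    rw [xG_add, xG_add, add_comm]
  have h1 := comm_xG hp (K := K) hr hs hsr hneg b a
  unfold chkNp at hN
  rw [List.all_eq_true] at hN
  have h3 := hN r (List.mem_range.2 hr)
  rw [List.all_eq_true] at h3
  have h4 := h3 s (List.mem_range.2 hs)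
  rw [← qf_dot hA] at h4
  simp only [Bool.or_eq_true, beq_iff_eq, List.all_eq_true, decide_eq_true_iff] at h4
  rcases h4 with ((h4 | h4) | h4) | h4
  · exact absurd h4 hsr
  · exact absurd h4 hneg
  · omega
  · have h5 : wordG hp.inList (D.commWord K r s b a) = 1 := by
      show wordG hp.inList ((D.commTerms r s).map _) = 1
      rw [wordG_filter hp.inList hp0, List.filter_eq_nil_iff.2, List.map_nil, wordG_nil]
      intro c hc
      simpa using h4 c hc
    rw [h5, commutatorElement_def, inv_inv, inv_inv] at h1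
    have h6 : xG hp.inList s a * xG hp.inList r b = (xG hp.inList r b * xG hp.inList s a) *
        ((xG hp.inList s a)⁻¹ * (xG hp.inList r b)⁻¹ * xG hp.inList s a * xG hp.inList r b) := by group
    rw [h6, h1, mul_one]

omit [CharP K p] in
theorem sameI (hp0 : ((p : ℤ) : K) = 0) (hA : ∀ i : Fin l, CA.getD i [] = List.ofFn (cartanOf D l i))
    (hS : chkSp D l CA dl p = true) {a b : ℕ} (ha : a < D.nroots) (hb : b < D.nroots)
    (h1 : qf (cartanOf D l) (toV dl) (vec D l b) (vec D l b) = qf (cartanOf D l) (toV dl) (vec D l a) (vec D l a))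
    (h2 : 2 * qf (cartanOf D l) (toV dl) (vec D l a) (vec D l b) =
      - qf (cartanOf D l) (toV dl) (vec D l a) (vec D l a)) :
    ∃ (v : ℕ) (C : ℤ), v < D.nroots ∧ vec D l a + vec D l b = vec D l v ∧ ¬ (p : ℤ) ∣ C ∧ ∀ t u : K,
      ⁅xG hp.inList a t, xG hp.inList b u⁆ = xG hp.inList v (-((C : K) * u * t)) := by
  unfold chkSp at hS
  rw [List.all_eq_true] at hS
  have h3 := hS a (List.mem_range.2 ha)
  rw [List.all_eq_true] at h3
  have h4 := h3 b (List.mem_range.2 hb)
  rw [← qf_dot hA, ← qf_dot hA, ← qf_dot hA, decide_eq_true h1, decide_eq_true h2, Bool.and_true, Bool.not_true,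
    Bool.false_or, Bool.and_eq_true, Bool.and_eq_true, bne_iff_ne, bne_iff_ne] at h4
  obtain ⟨⟨h5, h6⟩, h7⟩ := h4
  obtain ⟨v, C, h8⟩ := of_shp1 h7
  have h9 : (v, C, 1, 1) ∈ (D.commTerms b a).filter fun c => !decide ((p : ℤ) ∣ c.2.1) := by
    rw [h8]; exact List.mem_singleton_self _
  rw [List.mem_filter] at h9
  obtain ⟨h10, h11⟩ := h9
  have h11 : ¬ (p : ℤ) ∣ C := by simpa using h11
  obtain ⟨h12, -, -, -, -, h13⟩ := RootVec.commTerms_rt hp.checked h10
  refine ⟨v, C, h12, ?_, h11, fun t u => ?_⟩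
  · funext i
    rw [Pi.add_apply, vec_apply, vec_apply, vec_apply, h13]
    push_cast
    ring
  · have h14 := comm_xG hp (K := K) hb ha h5 h6 (-u) (-t)
    have h15 : wordG hp.inList (D.commWord K b a (-u) (-t)) = xG hp.inList v (-((C : K) * u * t)) := by
      show wordG hp.inList ((D.commTerms b a).map _) = _
      rw [wordG_filter hp.inList hp0, h8, List.map_cons, List.map_nil, wordG_cons, wordG_nil, mul_one]
      show xG hp.inList v ((C : K) * (- -u) ^ 1 * (-t) ^ 1) = _
      congr 1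
      ring
    rw [h15, ← xG_inv, ← xG_inv, inv_inv, inv_inv] at h14
    exact h14

/-- the input about the roots -/
structure Rt (cs : CoxeterSystem M W) {A : Fin l → Fin l → ℤ} (h : IsCartan M A) (d r r' : Fin l → ℤ) : Prop where
  hd : ∀ i j, d i * A i j = d j * A j i
  dpos : ∀ i, 0 < d i
  rr : IsRoot cs h r
  rr' : IsRoot cs h r'
  dom : ∀ i, 0 ≤ pairing A i r
  dom' : ∀ i, 0 ≤ pairing A i r'
  all : ∀ b, IsRoot cs h b → (∀ i, 0 ≤ pairing A i b) → b = r ∨ b = r'
  len : 2 * qf A d r' r' ≤ qf A d r r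

theorem spC [Finite K] [Finite W] [Fact p.Prime] (hA : ∀ i : Fin l, CA.getD i [] = List.ofFn (cartanOf D l i))
    (hN : chkNp D l CA dl p = true) (hS : chkSp D l CA dl p = true) {r r' : Fin l → ℤ}
    (H : Rt cs hp.isCartan (toV dl) r r') : SpR (rgd (K := K) hp cs p) (toV dl) r r' where
  hd := H.hd
  dpos := H.dpos
  nil x y hx hy h0 := by
    rintro ⟨u, hu'⟩ hu ⟨v, hv'⟩ hv
    refine Subtype.ext ?_
    show u * v = v * u
    have hp0 : ((p : ℤ) : K) = 0 := by rw [Int.cast_natCast]; exact CharP.cast_eq_zero K p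
    have hq0 : 0 ≤ qf (cartanOf D l) (toV dl) y x := by
      have hyy : 0 < qf (cartanOf D l) (toV dl) y y := by
        obtain ⟨w, i, rfl⟩ := hy
        rw [qf_root cs hp.isCartan H.hd]
        have := H.dpos i
        omega
      have h1 := (cpr_sign H.hd hy hyy x).1
      rw [qf_comm H.hd]
      by_contra hcon
      push Not at hcon
      have := h1.2 hcon
      omega
    obtain ⟨s, hs', rfl⟩ := (isRoot_iff hp cs x).1 hx
    obtain ⟨r, hr, rfl⟩ := (isRoot_iff hp cs y).1 hy
    rw [Subgroup.mem_subgroupOf, XV_vec hp K hs', mem_rootSubgroup_iff hp.inList] at hu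
    rw [Subgroup.mem_subgroupOf, XV_vec hp K hr, mem_rootSubgroup_iff hp.inList] at hv
    obtain ⟨a, ha⟩ := hu
    obtain ⟨b, hb⟩ := hv
    have ha' : u = xG hp.inList s a := ha
    have hb' : v = xG hp.inList r b := hb
    rw [ha', hb']
    refine nilI hp hp0 hA hN hr hs' ?_ hq0 a b
    rintro rfl
    have h2 := vec_neg hp hr
    rw [h2, cpr_neg cs hp.isCartan _ hy, cpr_self cs hp.isCartan hy] at h0
    omega
  same s t hs ht hst h1 h2 := by
    have hp0 : ((p : ℤ) : K) = 0 := by rw [Int.cast_natCast]; exact CharP.cast_eq_zero K p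
    have h3 : 2 * qf (cartanOf D l) (toV dl) s t = - qf (cartanOf D l) (toV dl) s s := by
      have h4 : qf (cartanOf D l) (toV dl) (s + t) (s + t) = qf (cartanOf D l) (toV dl) s s +
          qf (cartanOf D l) (toV dl) t t + 2 * qf (cartanOf D l) (toV dl) s t := by
        rw [qf_add_left, qf_comm H.hd s (s + t), qf_comm H.hd t (s + t), qf_add_left, qf_add_left,
          qf_comm H.hd t s]
        ring
      omega
    obtain ⟨a, ha, rfl⟩ := (isRoot_iff hp cs s).1 hs
    obtain ⟨b, hb, rfl⟩ := (isRoot_iff hp cs t).1 ht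
    obtain ⟨v, C, hv, e, hC, key⟩ := sameI hp hp0 hA hS ha hb h1.symm h3
    have hC0 : (C : K) ≠ 0 := fun h0 => hC ((CharP.intCast_eq_zero_iff K p C).1 h0)
    rw [e]
    constructor
    · rintro ⟨u, hu'⟩ hu ⟨w, hw'⟩ hw
      rw [Subgroup.mem_subgroupOf, XV_vec hp K ha, mem_rootSubgroup_iff hp.inList] at hu
      rw [Subgroup.mem_subgroupOf, XV_vec hp K hb, mem_rootSubgroup_iff hp.inList] at hw
      obtain ⟨c, hc⟩ := hu
      obtain ⟨c', hc'⟩ := hw
      have hc : u = xG hp.inList a c := hc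
      have hc' : w = xG hp.inList b c' := hc'
      subst hc
      subst hc'
      rw [Subgroup.mem_subgroupOf, XV_vec hp K hv]
      show ⁅xG hp.inList a c, xG hp.inList b c'⁆ ∈ _
      rw [key]
      exact xG_mem_rootSubgroup hp.inList _ _
    · rintro ⟨u, hu'⟩ hu hu1 ⟨w, hw'⟩ hw
      rw [Subgroup.mem_subgroupOf, XV_vec hp K ha, mem_rootSubgroup_iff hp.inList] at hu
      rw [Subgroup.mem_subgroupOf, XV_vec hp K hv, mem_rootSubgroup_iff hp.inList] at hw
      obtain ⟨c, hc⟩ := hu
      obtain ⟨c', hc'⟩ := hw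
      have hc : u = xG hp.inList a c := hc
      have hc' : w = xG hp.inList v c' := hc'
      subst hc
      subst hc'
      have hc0 : c ≠ 0 := by
        rintro rfl
        exact hu1 (Subtype.ext (xG_zero hp.inList a))
      refine ⟨⟨xG hp.inList b (-(C : K)⁻¹ * c' * c⁻¹), xG_mem_group hp.inList _ _⟩, ?_, Subtype.ext ?_⟩
      · rw [Subgroup.mem_subgroupOf, XV_vec hp K hb]
        exact xG_mem_rootSubgroup hp.inList _ _
      · show ⁅xG hp.inList a c, xG hp.inList b _⁆ = _
        rw [key]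
        congr 1
        field_simp
  rr := H.rr
  rr' := H.rr'
  dom := H.dom
  dom' := H.dom'
  all := H.all
  len := H.len

end Chev

/-- transport -/
theorem SpR.map {l : ℕ} {W Y Y' : Type*} [Group W] [Group Y] [Group Y'] {M : CoxeterMatrix (Fin l)}
    {cs : CoxeterSystem M W} {A : Fin l → Fin l → ℤ} {h : IsCartan M A} {p : ℕ} {T : Subgroup Y} {n : Fin l → Y}
    {X : (Fin l → ℤ) → Subgroup Y} {R : RGD cs h p T n X} {d r r' : Fin l → ℤ} (H : SpR R d r r') (f : Y ≃* Y')
    {T' : Subgroup Y'} {n' : Fin l → Y'} (R' : RGD cs h p T' n' (fun x => (X x).map f.toMonoidHom)) :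
    SpR R' d r r' where
  hd := H.hd
  dpos := H.dpos
  nil x y hx hy h0 := by
    rintro _ ⟨u, hu, rfl⟩ _ ⟨v, hv, rfl⟩
    have h1 := H.nil x y hx hy h0 u hu v hv
    show f u * f v = f v * f u
    rw [← map_mul, h1, map_mul]
  same s t hs ht hst h1 h2 := by
    obtain ⟨h3, h4⟩ := H.same s t hs ht hst h1 h2
    constructor
    · rintro _ ⟨u, hu, rfl⟩ _ ⟨v, hv, rfl⟩
      refine ⟨⁅u, v⁆, h3 u hu v hv, ?_⟩
      simp only [commutatorElement_def, map_mul, map_inv]
    · rintro _ ⟨u, hu, rfl⟩ hu1 _ ⟨w, hw, rfl⟩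
      obtain ⟨v, hv, e⟩ := h4 u hu (by rintro rfl; exact hu1 (map_one _)) w hw
      refine ⟨f v, ⟨v, hv, rfl⟩, ?_⟩
      rw [← e]
      simp only [commutatorElement_def, map_mul, map_inv]
      rfl
  rr := H.rr
  rr' := H.rr'
  dom := H.dom
  dom' := H.dom'
  all := H.all
  len := H.len

theorem chkNpF : chkNp chevF4 4 CAF4c dlF4c 2 = true := by decide +kernel
theorem chkSpF : chkSp chevF4 4 CAF4c dlF4c 2 = true := by decide +kernel
theorem chkNpG : chkNp chevG2 2 CAG2c dlG2c 3 = true := by decide +kernel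
theorem chkSpG : chkSp chevG2 2 CAG2c dlG2c 3 = true := by decide +kernel

end Cfsg.Agent.H400.TwoExc.Sp
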