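import Mathlib

/-!
# The arithmetic of the degrees in special characteristic (hub H1), helper400
-/

set_option autoImplicit false

namespace Cfsg.Agent.H400.TwoExc.Sp

/-- `b ∣ n`, `n - 1 ∣ 2 (b² - 1)` : `n = b` or `n = b²`. -/
theorem arithG2 {b n : ℕ} (hb : 2 ≤ b) (hn : 1 < n) (hQ : b ∣ n) (hd : (n - 1) ∣ 2 * (b ^ 2 - 1)) :
    n = b ∨ n = b ^ 2 := by
  obtain ⟨m, rfl⟩ := hQ
  obtain ⟨t, ht⟩ := hd
  have hm : 1 ≤ m := by
    rcases Nat.eq_zero_or_pos m with h | h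
    · subst h; omega
    · exact h
  have h1 : 1 ≤ b * m := by omega
  have h2 : 1 ≤ b ^ 2 := Nat.one_le_pow _ _ (by omega)
  have hz : 2 * ((b : ℤ) ^ 2 - 1) = ((b : ℤ) * m - 1) * t := by
    have := congrArg (fun x : ℕ => (x : ℤ)) ht
    push_cast [Nat.cast_sub h1, Nat.cast_sub h2] at this
    exact this
  have hbz : (2 : ℤ) ≤ b := by exact_mod_cast hb
  have hmz : (1 : ℤ) ≤ m := by exact_mod_cast hm
  have htz : (0 : ℤ) ≤ t := by positivity
  set j : ℤ := m * t - 2 * b with hj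
  have ht' : (t : ℤ) = 2 + b * j := by rw [hj]; linarith
  have key : (m : ℤ) * (2 + b * j) = 2 * b + j := by rw [← ht', hj]; ring
  have hj0 : 0 ≤ j := by
    by_contra hneg
    push Not at hneg
    have h3 : (b : ℤ) * j ≤ b * (-1) := mul_le_mul_of_nonneg_left (by omega) (by omega)
    have h4 : (b : ℤ) = 2 ∧ j = -1 := by
      have h5 : -2 ≤ (b : ℤ) * j := by omega
      have h6 : (b : ℤ) ≤ 2 := by linarith
      have h7 : (b : ℤ) = 2 := by omega
      rw [h7] at h5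
      exact ⟨h7, by omega⟩
    rw [h4.1, h4.2] at key
    omega
  rcases hj0.eq_or_lt with h3 | h3
  · right
    rw [← h3] at key
    have h4 : (m : ℤ) = b := by omega
    have h5 : m = b := by exact_mod_cast h4
    rw [h5]; ring
  · left
    have h4 : (m : ℤ) = 1 := by
      by_contra hne
      have h5 : (2 : ℤ) ≤ m := by omega
      have h6 : (b : ℤ) * j * 2 ≤ b * j * m := mul_le_mul_of_nonneg_left h5 (by positivity)
      have h7 : (b : ℤ) * 1 ≤ b * j := mul_le_mul_of_nonneg_left (by omega) (by omega)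
      have h8 : 2 * j ≤ b * j := mul_le_mul_of_nonneg_right hbz h3.le
      nlinarith
    have h5 : m = 1 := by exact_mod_cast h4
    rw [h5, mul_one]

/-- the diophantine equation -/
theorem dioph {q m j P a : ℤ} (hqz : 4 ≤ q) (hmz : 1 ≤ m) (ha : a = q * q) (h3 : 0 < j) (hP : P = j * m)
    (key2 : j = 2 * m * (1 + a ^ 2) + a ^ 2 * q * (a * P - 2 * a ^ 2 - 2)) : m = q := by
  have haz : 16 ≤ a := by
    rw [ha]
    calc (16 : ℤ) = 4 * 4 := by norm_num
      _ ≤ q * q := mul_le_mul hqz hqz (by norm_num) (by omega)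
  have ha0 : 0 < a := by omega
  have ha2 : 0 < a ^ 2 := by positivity
  have ha2q : 0 < a ^ 2 * q := by positivity
  have hP0 : 0 < P := by rw [hP]; positivity
  have hjP : j ≤ P := by
    rw [hP]
    exact le_mul_of_one_le_right h3.le hmz
  have hmP : m ≤ P := by
    rw [hP]
    exact le_mul_of_one_le_left (by omega) (by omega)
  have h16 : 16 * a ≤ a ^ 2 := by
    rw [sq]; exact mul_le_mul_of_nonneg_right haz ha0.le
  have h64 : 16 * a * 4 ≤ a ^ 2 * q := mul_le_mul h16 hqz (by norm_num) ha2.le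
  -- `P ≤ 2 a`
  have hPa : P ≤ 2 * a := by
    by_contra hcon
    push Not at hcon
    obtain ⟨u, hu⟩ : ∃ u, P = 2 * a + u := ⟨P - 2 * a, by ring⟩
    have hu1 : 1 ≤ u := by omega
    have e1 : a * P - 2 * a ^ 2 - 2 = a * u - 2 := by rw [hu]; ring
    have h4 : 16 * u ≤ a * u := mul_le_mul_of_nonneg_right haz (by omega)
    have h5 : a ^ 2 * q * (2 * u) ≤ a ^ 2 * q * (a * u - 2) := mul_le_mul_of_nonneg_left (by omega) ha2q.le
    have h6 : a ^ 2 * q * (2 * u) < P := by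
      rw [e1] at key2
      have : 0 < 2 * m * (1 + a ^ 2) := by positivity
      linarith
    have h7 : (16 * a * 4) * (2 * u) ≤ a ^ 2 * q * (2 * u) := mul_le_mul_of_nonneg_right h64 (by omega)
    have h8 : a * 1 ≤ a * u := mul_le_mul_of_nonneg_left hu1 ha0.le
    have h9 : (16 * a * 4) * (2 * u) = 128 * (a * u) := by ring
    rw [h9] at h7
    omega
  -- `P = 2 a`
  have hPe : P = 2 * a := by
    by_contra hne
    obtain ⟨u, hu⟩ : ∃ u, P = 2 * a - u := ⟨2 * a - P, by ring⟩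
    have hu1 : 1 ≤ u := by omega
    have e1 : a * P - 2 * a ^ 2 - 2 = -(a * u + 2) := by rw [hu]; ring
    rw [e1] at key2
    have h4 : a ^ 2 * q * (a * u + 2) < 2 * m * (1 + a ^ 2) := by linarith
    have h5 : 2 * m * (1 + a ^ 2) ≤ 2 * (2 * a - 1) * (1 + a ^ 2) := by
      apply mul_le_mul_of_nonneg_right _ (by positivity)
      omega
    have h6 : a ^ 2 * 4 * (a * 1 + 2) ≤ a ^ 2 * q * (a * u + 2) := by
      apply mul_le_mul
      · exact mul_le_mul_of_nonneg_left hqz ha2.le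
      · have : a * 1 ≤ a * u := mul_le_mul_of_nonneg_left hu1 ha0.le
        linarith
      · positivity
      · positivity
    have h7 : a ^ 2 * 4 * (a * 1 + 2) = 4 * a ^ 3 + 8 * a ^ 2 := by ring
    have h8 : 2 * (2 * a - 1) * (1 + a ^ 2) = 4 * a ^ 3 - 2 * a ^ 2 + 4 * a - 2 := by ring
    rw [h7] at h6
    rw [h8] at h5
    linarith
  -- `m = q`
  have h4 : P = (2 * m * (1 + a ^ 2) + a ^ 2 * q * (a * P - 2 * a ^ 2 - 2)) * m := by
    rw [← key2, hP]
  have hfin : m ^ 2 + a ^ 2 * m * (m - q) = a := by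
    rw [hPe] at h4
    have h5 : a * (2 * a) - 2 * a ^ 2 - 2 = -2 := by ring
    rw [h5] at h4
    linarith
  rcases lt_trichotomy m q with h4 | h4 | h4
  · exfalso
    have h6 : a ^ 2 * m * (m - q) ≤ a ^ 2 * m * (-1) := mul_le_mul_of_nonneg_left (by omega) (by positivity)
    have h7 : m ^ 2 < a := by
      rw [ha, sq]
      exact mul_lt_mul'' h4 h4 (by omega) (by omega)
    have h8 : 0 < a ^ 2 * m := by positivity
    linarith
  · exact h4
  · exfalso
    have h6 : 0 < a ^ 2 * m * (m - q) := by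
      have : 0 < m - q := by omega
      positivity
    have h7 : a < m ^ 2 := by
      rw [ha, sq]
      exact mul_lt_mul'' h4 h4 (by omega) (by omega)
    linarith

/-- `q⁷ ∣ n`, `n - 1 ∣ 2 (q¹² - 1) (q⁴ + 1)` : `n = q⁸` or `n = q¹²`. -/
theorem arithF2 {q n : ℕ} (hq : 4 ≤ q) (hn : 1 < n) (hQ : q ^ 7 ∣ n)
    (hd : (n - 1) ∣ 2 * ((q ^ 12 - 1) * (q ^ 4 + 1))) : n = q ^ 8 ∨ n = q ^ 12 := by
  obtain ⟨m, rfl⟩ := hQ
  obtain ⟨t, ht⟩ := hd
  have hm : 1 ≤ m := by
    rcases Nat.eq_zero_or_pos m with h | h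
    · subst h; omega
    · exact h
  have h1 : 1 ≤ q ^ 7 * m := by omega
  have h2 : 1 ≤ q ^ 12 := Nat.one_le_pow _ _ (by omega)
  have hz : 2 * (((q : ℤ) ^ 12 - 1) * (q ^ 4 + 1)) = ((q : ℤ) ^ 7 * m - 1) * t := by
    have := congrArg (fun x : ℕ => (x : ℤ)) ht
    push_cast [Nat.cast_sub h1, Nat.cast_sub h2] at this
    exact this
  have hqz : (4 : ℤ) ≤ q := by exact_mod_cast hq
  have hmz : (1 : ℤ) ≤ m := by exact_mod_cast hm
  have htz : (0 : ℤ) ≤ t := by positivity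
  obtain ⟨a, haq⟩ : ∃ a : ℤ, a = q * q := ⟨_, rfl⟩
  have haz : 16 ≤ a := by
    rw [haq]
    calc (16 : ℤ) = 4 * 4 := by norm_num
      _ ≤ q * q := mul_le_mul hqz hqz (by norm_num) (by omega)
  have e4 : (q : ℤ) ^ 4 = a ^ 2 := by rw [haq]; ring
  have e7 : (q : ℤ) ^ 7 = a ^ 3 * q := by rw [haq]; ring
  have e12 : (q : ℤ) ^ 12 = a ^ 6 := by rw [haq]; ring
  rw [e12, e4, e7] at hz
  -- `t = 2 + 2 q⁴ + q⁷ j`
  obtain ⟨j, hj⟩ : ∃ j : ℤ, m * t = 2 * a ^ 4 * q + 2 * a ^ 2 * q + j := ⟨m * t - 2 * a ^ 4 * q - 2 * a ^ 2 * q, by ring⟩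
  have ht' : (t : ℤ) = 2 + 2 * a ^ 2 + a ^ 3 * q * j := by
    have h3 : a ^ 3 * q * (m * t) = 2 * a ^ 7 * (q * q) + 2 * a ^ 5 * (q * q) + a ^ 3 * q * j := by rw [hj]; ring
    rw [← haq] at h3
    linarith [hz, h3]
  have key : (m : ℤ) * (2 + 2 * a ^ 2 + a ^ 3 * q * j) = 2 * a ^ 4 * q + 2 * a ^ 2 * q + j := by rw [← ht', hj]
  have ha2 : (0 : ℤ) < a ^ 2 := by positivity
  have hj0 : 0 ≤ j := by
    by_contra hneg
    push Not at hneg
    have h3 : a ^ 3 * q * j ≤ a ^ 3 * q * (-1) := mul_le_mul_of_nonneg_left (by omega) (by positivity)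
    have h4 : 16 * a ^ 2 * 4 ≤ a ^ 3 * q := by
      calc 16 * a ^ 2 * 4 ≤ a * a ^ 2 * q := by
            refine mul_le_mul ?_ hqz (by norm_num) (by positivity)
            exact mul_le_mul_of_nonneg_right haz (by positivity)
        _ = a ^ 3 * q := by ring
    have h5 : (256 : ℤ) ≤ a ^ 2 := by
      calc (256 : ℤ) = 16 * 16 := by norm_num
        _ ≤ a * a := mul_le_mul haz haz (by norm_num) (by omega)
        _ = a ^ 2 := by ring
    linarith
  have key2 : j = 2 * m * (1 + a ^ 2) + a ^ 2 * q * (a * (j * m) - 2 * a ^ 2 - 2) := by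
    linarith [key]
  rcases hj0.eq_or_lt with h3 | h3
  · right
    have hm' : (m : ℤ) * (2 + 2 * a ^ 2) = (a ^ 2 * q) * (2 + 2 * a ^ 2) := by
      rw [← h3, mul_zero, add_zero, add_zero] at key
      linarith
    have h4 : (m : ℤ) = a ^ 2 * q := mul_right_cancel₀ (by positivity) hm'
    have h5 : (m : ℤ) = (q : ℤ) ^ 5 := by rw [h4, haq]; ring
    have h6 : m = q ^ 5 := by exact_mod_cast h5
    rw [h6]; ring
  · left
    have h4 := dioph hqz hmz haq h3 rfl key2
    have h5 : m = q := by exact_mod_cast h4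
    rw [h5]; ring

end Cfsg.Agent.H400.TwoExc.Sp
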