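import Mathlib
import Cfsg.Agent.H400.TwoExcSpF
import Cfsg.Agent.H400.TwoExcSpH

/-!
# 2-transitive groups with socle `F₄(2^f)`, `f ≥ 2`, or `G₂(3^f)` (hub H1), helper400

`nF4_two` : `n = q⁸` or `n = q¹²`; `nG2_three` : `n = q³` or `n = q⁶`.
-/

set_option autoImplicit false
set_option linter.unusedSectionVars false

namespace Cfsg.Agent.H400.TwoExc.Sp

open CoxeterSystem Cfsg.Agent.ChevalleyStructure.CoxeterGeom Cfsg.Agent.Tits.Roots Cfsg.Agent.Tits.Core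
  Cfsg.Agent.Nodes.Reps Cfsg.Agent.Nodes.BNOf Cfsg.Agent.KFacts.RgdSL Cfsg.Agent.Nodes.RGDChev
  Cfsg.Agent.ChevalleyStructure.CoxeterGeomTypes Cfsg.Agent.Nodes.KindChev Cfsg.Agent.Nodes.Coroot
  Cfsg.Agent.KFacts.RgdTI Cfsg.Agent.KFacts.RgdPar Cfsg.Agent.Nodes.StabComb Cfsg.Agent.Nodes.Bruhat
open Cfsg.Lie Cfsg.Agent.ChevalleyStructure Cfsg.Agent.ChevalleyStructure.Elts
open Cfsg.Agent.H384.TwoTrans
open scoped commutatorElement

universe u v w

/-- the centre of `Q_r` -/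
def zsL (P : List (List ℤ × List ℤ × ℕ)) (rl : List ℤ) (N : ℤ) : List (List ℤ × List ℤ × ℕ) :=
  P.filter fun p => decide (0 < dotL p.2.1 rl) && (p.1 == rl || decide (dotL p.2.1 p.1 < N))

section tab

variable {l : ℕ} {W Y : Type*} [Group W] [Group Y] {M : CoxeterMatrix (Fin l)}
  {cs : CoxeterSystem M W} {A : Fin l → Fin l → ℤ} {h : IsCartan M A} {p : ℕ} {T : Subgroup Y} {n : Fin l → Y}
  {X : (Fin l → ℤ) → Subgroup Y} {R : RGD cs h p T n X} [Finite W] [Finite Y]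

theorem zs_iff {dl : List ℤ} {P : List (List ℤ × List ℤ × ℕ)} {e : (Fin l → ℤ) → ℕ}
    (HP : PR A (P.map fun p => (toV p.1 : Fin l → ℤ))) (F : FT A (toV dl) e P) {rl : List ℤ} {N : ℤ}
    {r' : Fin l → ℤ} (H : SpR R (toV dl) (toV rl) r') {pr : List ℤ × List ℤ × ℕ} (hpr : pr ∈ P) (hpe : pr.1 = rl)
    (hN : qf A (toV dl) (toV rl) (toV rl) = N) (s : Fin l → ℤ) :
    s ∈ (zsL P rl N).map (fun p => (toV p.1 : Fin l → ℤ)) ↔ s ∈ SpR.Zs cs h (toV dl) (toV rl) := by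
  have hq : ∀ p ∈ P, qf A (toV dl) (toV p.1) (toV rl) = dotL p.2.1 rl := by
    intro p hp
    have := F.qf_eq hp hpr
    rwa [hpe] at this
  have hrow : ∀ p ∈ P, ((toV p.1 : Fin l → ℤ) = toV rl ↔ p.1 = rl) := by
    intro p hp
    refine ⟨fun h0 => toV_inj (F.row p hp).1 (by rw [← hpe]; exact (F.row pr hpr).1) h0, fun h0 => by rw [h0]⟩
  unfold SpR.Zs zsL Gt
  rw [List.mem_map]
  constructor
  · rintro ⟨p, hp, rfl⟩
    rw [List.mem_filter, Bool.and_eq_true, Bool.or_eq_true, decide_eq_true_iff, decide_eq_true_iff, beq_iff_eq] at hp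
    obtain ⟨hp, h1, h2⟩ := hp
    have hroot : IsRoot cs h (toV p.1) := HP.isRoot (List.mem_map.2 ⟨p, hp, rfl⟩)
    refine ⟨⟨hroot, (cpr_sign H.hd H.rr (H.qf_pos H.rr) _).2.2 (by rw [hq p hp]; exact h1)⟩, ?_⟩
    rcases h2 with h2 | h2
    · left; rw [h2]
    · right; rw [F.qf_eq hp hp, hN]; exact h2
  · rintro ⟨⟨hs, h0⟩, h2⟩
    have h3 : s ∈ RGD.Pos cs h := Gt_subset_pos H.rr H.hdr ⟨hs, h0⟩
    obtain ⟨p, hp, rfl⟩ := List.mem_map.1 (HP.mem_of_pos h3)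
    have h0' := (cpr_sign H.hd H.rr (H.qf_pos H.rr) (toV p.1)).2.1 h0
    refine ⟨p, ?_, rfl⟩
    rw [List.mem_filter, Bool.and_eq_true, Bool.or_eq_true, decide_eq_true_iff, decide_eq_true_iff, beq_iff_eq]
    refine ⟨hp, by rw [← hq p hp]; exact h0', ?_⟩
    rcases h2 with h2 | h2
    · exact Or.inl ((hrow p hp).1 h2)
    · right
      rw [← F.qf_eq hp hp, ← hN]
      exact h2

theorem lr2_tab [Fact p.Prime] (hG1 : Nodes.RGDLib.G1 cs h X = ⊤) {CA : List (List ℤ)} {dl : List ℤ}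
    {P : List (List ℤ × List ℤ × ℕ)} (hA : ∀ i : Fin l, CA.getD i [] = List.ofFn (A i))
    (hck : chkT l CA dl (fun _ => 1) P = true) {rl rl' : List ℤ} {N N' : ℤ} (hdm : domL l CA P N = [rl])
    (hdm' : domL l CA P N' = [rl']) (H : SpR R (toV dl) (toV rl) (toV rl'))
    (hN : qf A (toV dl) (toV rl) (toV rl) = N) (hN' : qf A (toV dl) (toV rl') (toV rl') = N') {i j : Fin l}
    (hi : pairing A i (toV rl) = 0) (hi' : pairing A i (toV rl') ≠ 0) (hj : pairing A j (toV rl') = 0)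
    (hj' : pairing A j (toV rl) ≠ 0) {q f a b w z : ℕ} (hf : 1 ≤ f) (hqf : q = p ^ f)
    (hq : ∀ s, IsRoot cs h s → Nat.card (X s) = q)
    (hgt : cntF P (fun z => decide (0 < z)) rl = a + b) (hzl : (zsL P rl N).length = z)
    (he : a + b + z = 2 * (b + w)) {W₀ : Subgroup Y} (hW : W₀ ≤ RGD.Sup X (SpR.Zs cs h (toV dl) (toV rl)))
    (hWc : Nat.card W₀ = q ^ w) (hWR : ∀ x ∈ W₀, x ≠ 1 → x ∈ SpR.RE X (toV rl) (toV rl')) {x y x' y' : Fin l → ℤ}
    (hx : IsRoot cs h x) (hy : IsRoot cs h y) (hxy : x + y = toV rl) (hxq : qf A (toV dl) x x = N)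
    (hyq : qf A (toV dl) y y = N) (hx' : IsRoot cs h x') (hy' : IsRoot cs h y') (hxy' : x' + y' = toV rl')
    (hxq' : qf A (toV dl) x' x' = N') (hyq' : qf A (toV dl) y' y' = N') {ex ex' : List (ℕ × ℕ)}
    (hex : expF P N = ex) (hex' : expF P N' = ex') :
    LR2 p q a ((q - 1) * (ex.map fun z => q ^ z.1 + q ^ z.2).sum + (q - 1) * (ex'.map fun z => q ^ z.1 + q ^ z.2).sum)
      (X (toV rl)) (X (toV rl')) := by
  have hG : GG cs h T X = ⊤ := KFacts.RgdRigid.GG_eq_top hG1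
  obtain ⟨HP, F⟩ := of_chkT hA hck (e := fun _ => 1) (fun _ _ => rfl)
  have hrl : rl ∈ domL l CA P N := by rw [hdm]; exact List.mem_singleton_self _
  unfold domL at hrl
  obtain ⟨pr, hpr, hpe⟩ := List.mem_map.1 hrl
  have hprP := List.mem_of_mem_filter hpr
  have hpe : pr.1 = rl := hpe
  have hdom := dom_of_chk hA F hdm hN
  have hdom' := dom_of_chk hA F hdm' hN'
  have hcL : ∀ t ∈ P.map (fun p => (toV p.1 : Fin l → ℤ)), Nat.card (X t) = q ^ (fun _ => 1 : (Fin l → ℤ) → ℕ) t := by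
    intro t ht
    rw [hq t (HP.isRoot ht), pow_one]
  have hi1 := index_tab (R := R) hG HP H.hd (H.lr H.rr) (H.qf_pos H.rr) H.dom hdom (q := q) (fun _ => 1) hcL
  have hi2 := index_tab (R := R) hG HP H.hd (H.lr H.rr') (H.qf_pos H.rr') H.dom' hdom' (q := q) (fun _ => 1) hcL
  rw [F.sum_eq, hN, hex] at hi1
  rw [F.sum_eq, hN', hex'] at hi2
  refine H.lr2 hG hi hi' hj hj' hf hqf hq ?_ (zs := (zsL P rl N).map fun p => (toV p.1 : Fin l → ℤ))
    (zs_iff HP F H hprP hpe hN) (by rw [List.length_map]; exact hzl) he hW hWc hWR hx hy hxy (by rw [hxq, hN])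
    (by rw [hyq, hN]) hx' hy' hxy' (by rw [hxq', hN']) (by rw [hyq', hN']) hi1 hi2
  rw [card_QQ R HP H.hd H.rr (H.qf_pos H.rr) H.hdr (fun _ => 1) hcL, ← hgt]
  congr 1
  have := F.cnt_eq hprP (fun z => decide (0 < z))
  rw [hpe] at this
  exact this

end tab

/-! ### The tables -/

theorem domF4s : domL 4 CAF4c PF4c 2 = [[2, 3, 2, 1]] := by decide +kernel
theorem domG2s : domL 2 CAG2c PG2c 2 = [[2, 1]] := by decide +kernel
theorem zsF4 : (zsL PF4c [2, 4, 3, 2] 4).length = 7 := by decide +kernel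
theorem zsG2 : (zsL PG2c [3, 2] 6).length = 3 := by decide +kernel

/-- the exponents of the short roots of `F₄` -/
def exF4s : List (ℕ × ℕ) := expF PF4c 2

/-- the exponents of the short roots of `G₂` -/
def exG2s : List (ℕ × ℕ) := expF PG2c 2

theorem exF4s_sum (q : ℕ) : (exF4s.map fun z => q ^ z.1 + q ^ z.2).sum = (exF4c.map fun z => q ^ z.1 + q ^ z.2).sum := by
  have h1 : exF4s.Perm exF4c := by decide +kernel
  exact (h1.map _).sum_eq

theorem exG2s_sum (q : ℕ) : (exG2s.map fun z => q ^ z.1 + q ^ z.2).sum = (exG2c.map fun z => q ^ z.1 + q ^ z.2).sum := by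
  have h1 : exG2s.Perm exG2c := by decide +kernel
  exact (h1.map _).sum_eq

end Cfsg.Agent.H400.TwoExc.Sp
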