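import Mathlib
import Cfsg.Agent.H400.TwoExcSpG

/-!
# 2-transitive groups with socle `F₄(2^f)`, `f ≥ 2`, or `G₂(3^f)` (hub H1), helper400

`nF4_two` : `n = q⁸` or `n = q¹²`; `nG2_three` : `n = q³` or `n = q⁶`.
-/

set_option autoImplicit false
set_option linter.unusedSectionVars false

namespace Cfsg.Agent.H400.TwoExc.Sp

open CoxeterSystem Cfsg.Agent.ChevalleyStructure.CoxeterGeom Cfsg.Agent.Tits.Roots Cfsg.Agent.Tits.Core
  Cfsg.Agent.Nodes.Reps Cfsg.Agent.Nodes.BNOf Cfsg.Agent.KFacts.RgdSL Cfsg.Agent.Nodes.RGDChev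
  Cfsg.Agent.ChevalleyStructure.CoxeterGeomTypes Cfsg.Agent.Nodes.KindChev Cfsg.Agent.Nodes.Coroot
  Cfsg.Agent.KFacts.RgdTI Cfsg.Agent.KFacts.RgdPar Cfsg.Agent.Nodes.StabComb Cfsg.Agent.Nodes.Bruhat
open Cfsg.Lie Cfsg.Agent.ChevalleyStructure Cfsg.Agent.ChevalleyStructure.Elts
open Cfsg.Agent.H384.TwoTrans
open scoped commutatorElement

universe u v w

section

variable {W Y : Type*} [Group W] [Group Y] [Finite W] [Finite Y]

/-- the totally singular subgroup, `F₄` -/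
theorem w0F (hp : IsType chevF4 4 CoxeterMatrix.F₄) {cs : CoxeterSystem CoxeterMatrix.F₄ W} {p : ℕ} {T : Subgroup Y}
    {n : Fin 4 → Y} {X : (Fin 4 → ℤ) → Subgroup Y} {R : RGD cs hp.isCartan p T n X}
    (H : SpR R (toV dlF4c) (toV [2, 4, 3, 2]) (toV [2, 3, 2, 1])) {q : ℕ}
    (hq : ∀ s, IsRoot cs hp.isCartan s → Nat.card (X s) = q) :
    ∃ W₀ : Subgroup Y, W₀ ≤ RGD.Sup X (SpR.Zs cs hp.isCartan (toV dlF4c) (toV [2, 4, 3, 2])) ∧
      Nat.card W₀ = q ^ 3 ∧ ∀ x ∈ W₀, x ≠ 1 → x ∈ SpR.RE X (toV [2, 4, 3, 2]) (toV [2, 3, 2, 1]) := by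
  obtain ⟨HP, F⟩ := of_chkT (A := cartanOf chevF4 4) (CA := CAF4c) (by decide +kernel) chkF4c (e := fun _ => 1)
    (fun _ _ => rfl)
  have hr : ∀ a ∈ PF4c, IsRoot cs hp.isCartan (toV a.1) := fun a ha => HP.isRoot (List.mem_map.2 ⟨a, ha, rfl⟩)
  have e12 : (toV [1, 1, 1, 1] - toV [0, 1, 1, 1] : Fin 4 → ℤ) = toV [1, 0, 0, 0] := by decide +kernel
  have e13 : (toV [1, 2, 1, 1] - toV [0, 1, 1, 1] : Fin 4 → ℤ) = toV [1, 1, 0, 0] := by decide +kernel
  have e23 : (toV [1, 2, 1, 1] - toV [1, 1, 1, 1] : Fin 4 → ℤ) = toV [0, 1, 0, 0] := by decide +kernel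
  have r1 := hr ([0, 1, 1, 1], [-1, 0, 0, 2], 1) (by decide +kernel)
  have r2 := hr ([1, 1, 1, 1], [1, -1, 0, 2], 1) (by decide +kernel)
  have r3 := hr ([1, 2, 1, 1], [0, 1, -2, 2], 1) (by decide +kernel)
  have P₁ : SpR.P2 cs hp.isCartan (toV dlF4c) (toV [0, 1, 1, 1]) (toV [1, 1, 1, 1]) :=
    ⟨r1, r2, by rw [e12]; exact hr ([1, 0, 0, 0], [2, -1, 0, 0], 1) (by decide +kernel), by decide +kernel,
      by decide +kernel, by decide +kernel⟩
  have P₂ : SpR.P2 cs hp.isCartan (toV dlF4c) (toV [0, 1, 1, 1]) (toV [1, 2, 1, 1]) :=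
    ⟨r1, r3, by rw [e13]; exact hr ([1, 1, 0, 0], [1, 1, -2, 0], 1) (by decide +kernel), by decide +kernel,
      by decide +kernel, by decide +kernel⟩
  have P₃ : SpR.P2 cs hp.isCartan (toV dlF4c) (toV [1, 1, 1, 1]) (toV [1, 2, 1, 1]) :=
    ⟨r2, r3, by rw [e23]; exact hr ([0, 1, 0, 0], [-1, 2, -2, 0], 1) (by decide +kernel), by decide +kernel,
      by decide +kernel, by decide +kernel⟩
  obtain ⟨h1, h2⟩ := H.w3 hq P₁ P₂ P₃ (by decide +kernel) (by decide +kernel) (by decide +kernel)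
  have hz : ∀ a ∈ zsL PF4c [2, 4, 3, 2] 4, X (toV a.1) ≤
      RGD.Sup X (SpR.Zs cs hp.isCartan (toV dlF4c) (toV [2, 4, 3, 2])) := by
    intro a ha
    refine RGD.le_Sup ((zs_iff HP F H (pr := ([2, 4, 3, 2], [0, 0, 0, 2], 1)) (by decide +kernel) rfl
      (by decide +kernel) _).1 (List.mem_map.2 ⟨a, ha, rfl⟩))
  refine ⟨_, sup_le ?_ (sup_le ?_ ?_), h1, h2⟩
  · exact hz ([0, 1, 1, 1], [-1, 0, 0, 2], 1) (by decide +kernel)
  · exact hz ([1, 1, 1, 1], [1, -1, 0, 2], 1) (by decide +kernel)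
  · exact hz ([1, 2, 1, 1], [0, 1, -2, 2], 1) (by decide +kernel)

/-- the totally singular subgroup, `G₂` -/
theorem w0G (hp : IsType chevG2 2 CoxeterMatrix.G₂) {cs : CoxeterSystem CoxeterMatrix.G₂ W} {p : ℕ} {T : Subgroup Y}
    {n : Fin 2 → Y} {X : (Fin 2 → ℤ) → Subgroup Y} {R : RGD cs hp.isCartan p T n X}
    (H : SpR R (toV dlG2c) (toV [3, 2]) (toV [2, 1])) {q : ℕ}
    (hq : ∀ s, IsRoot cs hp.isCartan s → Nat.card (X s) = q) :
    ∃ W₀ : Subgroup Y, W₀ ≤ RGD.Sup X (SpR.Zs cs hp.isCartan (toV dlG2c) (toV [3, 2])) ∧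
      Nat.card W₀ = q ^ 2 ∧ ∀ x ∈ W₀, x ≠ 1 → x ∈ SpR.RE X (toV [3, 2]) (toV [2, 1]) := by
  obtain ⟨HP, F⟩ := of_chkT (A := cartanOf chevG2 2) (CA := CAG2c) (by decide +kernel) chkG2c (e := fun _ => 1)
    (fun _ _ => rfl)
  have hr : ∀ a ∈ PG2c, IsRoot cs hp.isCartan (toV a.1) := fun a ha => HP.isRoot (List.mem_map.2 ⟨a, ha, rfl⟩)
  have e12 : (toV [2, 1] - toV [1, 1] : Fin 2 → ℤ) = toV [1, 0] := by decide +kernel
  have r1 := hr ([1, 1], [-1, 3], 1) (by decide +kernel)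
  have r2 := hr ([2, 1], [1, 0], 1) (by decide +kernel)
  have P₁ : SpR.P2 cs hp.isCartan (toV dlG2c) (toV [1, 1]) (toV [2, 1]) :=
    ⟨r1, r2, by rw [e12]; exact hr ([1, 0], [2, -3], 1) (by decide +kernel), by decide +kernel,
      by decide +kernel, by decide +kernel⟩
  obtain ⟨h1, h2⟩ := H.w2 hq P₁
  have hz : ∀ a ∈ zsL PG2c [3, 2] 6, X (toV a.1) ≤
      RGD.Sup X (SpR.Zs cs hp.isCartan (toV dlG2c) (toV [3, 2])) := by
    intro a ha
    refine RGD.le_Sup ((zs_iff HP F H (pr := ([3, 2], [0, 3], 1)) (by decide +kernel) rfl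
      (by decide +kernel) _).1 (List.mem_map.2 ⟨a, ha, rfl⟩))
  refine ⟨_, sup_le ?_ ?_, h1, h2⟩
  · exact hz ([1, 1], [-1, 3], 1) (by decide +kernel)
  · exact hz ([2, 1], [1, 0], 1) (by decide +kernel)

end

theorem all_of {l : ℕ} {A : Fin l → Fin l → ℤ} {CA : List (List ℤ)} {dl : List ℤ} {P : List (List ℤ × List ℤ × ℕ)}
    (hA : ∀ i : Fin l, CA.getD i [] = List.ofFn (A i)) {e : (Fin l → ℤ) → ℕ}
    (HP : PR A (P.map fun p => (toV p.1 : Fin l → ℤ))) (F : FT A (toV dl) e P) {rl rl' : List ℤ} {N N' : ℤ}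
    (hdm : domL l CA P N = [rl]) (hdm' : domL l CA P N' = [rl']) (hN : qf A (toV dl) (toV rl) (toV rl) = N)
    (hN' : qf A (toV dl) (toV rl') (toV rl') = N') (hP : ∀ p ∈ P, dotL p.2.1 p.1 = N ∨ dotL p.2.1 p.1 = N')
    {W : Type*} [Group W] [Finite W] {M : CoxeterMatrix (Fin l)} {cs : CoxeterSystem M W} {h : IsCartan M A}
    (b : Fin l → ℤ) (hb : IsRoot cs h b) (hd : ∀ i, 0 ≤ pairing A i b) : b = toV rl ∨ b = toV rl' := by
  have h1 := HP.dom_mem hb hd
  obtain ⟨p, hp, rfl⟩ := List.mem_map.1 h1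
  rcases hP p hp with h2 | h2
  · exact Or.inl (dom_of_chk hA F hdm hN _ h1 hd (by rw [F.qf_eq hp hp, h2, hN]))
  · exact Or.inr (dom_of_chk hA F hdm' hN' _ h1 hd (by rw [F.qf_eq hp hp, h2, hN']))

theorem rtF (hp : IsType chevF4 4 CoxeterMatrix.F₄) {W : Type} [Group W] [Finite W]
    (cs : CoxeterSystem CoxeterMatrix.F₄ W) : Rt cs hp.isCartan (toV dlF4c) (toV [2, 4, 3, 2]) (toV [2, 3, 2, 1]) := by
  obtain ⟨HP, F⟩ := of_chkT (A := cartanOf chevF4 4) (CA := CAF4c) (by decide +kernel) chkF4c (e := fun _ => 1)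
    (fun _ _ => rfl)
  exact
    { hd := by decide +kernel
      dpos := by decide +kernel
      rr := HP.isRoot (List.mem_map.2 ⟨([2, 4, 3, 2], [0, 0, 0, 2], 1), by decide +kernel, rfl⟩)
      rr' := HP.isRoot (List.mem_map.2 ⟨([2, 3, 2, 1], [1, 0, 0, 0], 1), by decide +kernel, rfl⟩)
      dom := by decide +kernel
      dom' := by decide +kernel
      all := all_of (by decide +kernel) HP F domF4c domF4s (by decide +kernel) (by decide +kernel) (by decide +kernel)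
      len := by decide +kernel }

theorem rtG (hp : IsType chevG2 2 CoxeterMatrix.G₂) {W : Type} [Group W] [Finite W]
    (cs : CoxeterSystem CoxeterMatrix.G₂ W) : Rt cs hp.isCartan (toV dlG2c) (toV [3, 2]) (toV [2, 1]) := by
  obtain ⟨HP, F⟩ := of_chkT (A := cartanOf chevG2 2) (CA := CAG2c) (by decide +kernel) chkG2c (e := fun _ => 1)
    (fun _ _ => rfl)
  exact
    { hd := by decide +kernel
      dpos := by decide +kernel
      rr := HP.isRoot (List.mem_map.2 ⟨([3, 2], [0, 3], 1), by decide +kernel, rfl⟩)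
      rr' := HP.isRoot (List.mem_map.2 ⟨([2, 1], [1, 0], 1), by decide +kernel, rfl⟩)
      dom := by decide +kernel
      dom' := by decide +kernel
      all := all_of (by decide +kernel) HP F domG2c domG2s (by decide +kernel) (by decide +kernel) (by decide +kernel)
      len := by decide +kernel }

section Rows

variable {G : Type v} {Ω : Type w} [Group G] [MulAction G Ω] {T : Subgroup G} {K : Type u} [Field K] [Finite K]

theorem lr2F [CharP K 2] (A : AS G Ω T) (e : ↥(chevF4.group K) ≃* ↥T) : ∃ X X' : Subgroup ↥T,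
    LR2 2 (Nat.card K) 7 ((Nat.card K - 1) * (exF4c.map fun z => Nat.card K ^ z.1 + Nat.card K ^ z.2).sum +
      (Nat.card K - 1) * (exF4s.map fun z => Nat.card K ^ z.1 + Nat.card K ^ z.2).sum) X X' := by
  have hp : IsType chevF4 4 CoxeterMatrix.F₄ := by simp [IsType, typeList]
  have : Fact (Nat.Prime 2) := ⟨Nat.prime_two⟩
  have := A.finG
  have := A.simple
  let cs : CoxeterSystem CoxeterMatrix.F₄ CoxeterMatrix.F₄.Group := CoxeterMatrix.F₄.toCoxeterSystem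
  have hW : Finite CoxeterMatrix.F₄.Group := finite_W hp cs
  have R₀ := rgd (K := K) hp cs 2
  have R' := Nodes.RGDLib.rgd_map_of_injective R₀ e.toMonoidHom e.injective
  have H : SpR R' (toV dlF4c) (toV [2, 4, 3, 2]) (toV [2, 3, 2, 1]) :=
    (spC (K := K) (p := 2) hp (CA := CAF4c) (by decide +kernel) chkNpF chkSpF (rtF hp cs)).map e R'
  have := Fintype.ofFinite K
  obtain ⟨f, -, hf⟩ := FiniteField.card K 2
  rw [← Nat.card_eq_fintype_card] at hf
  have hq : ∀ t, IsRoot cs hp.isCartan t → Nat.card ↥(Subgroup.map e.toMonoidHom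
      ((XV chevF4 4 K t).subgroupOf (chevF4.group K))) = Nat.card K := by
    intro t ht
    obtain ⟨w, i, rfl⟩ := ht
    refine (Nodes.CardSup.card_X_rep R' w (isRoot_sr cs hp.isCartan i)).trans ?_
    exact card_XE hp e i
  obtain ⟨W₀, h1, h2, h3⟩ := w0F hp H hq
  obtain ⟨HP, -⟩ := of_chkT (A := cartanOf chevF4 4) (CA := CAF4c) (by decide +kernel) chkF4c (e := fun _ => 1)
    (fun _ _ => rfl)
  exact ⟨_, _, lr2_tab (a := 7) (b := 8) (w := 3) (z := 7) (i := 0) (j := 3) (G1E hp e cs) (CA := CAF4c)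
    (by decide +kernel) chkF4c domF4c domF4s H
    (by decide +kernel) (by decide +kernel) (by decide +kernel) (by decide +kernel) (by decide +kernel)
    (by decide +kernel) f.pos hf hq gtF4c zsF4 (by norm_num) h1 h2 h3
    (x := toV [2, 4, 3, 1]) (y := toV [0, 0, 0, 1])
    (HP.isRoot (List.mem_map.2 ⟨([2, 4, 3, 1], [0, 0, 2, -2], 1), by decide +kernel, rfl⟩))
    (HP.isRoot (List.mem_map.2 ⟨([0, 0, 0, 1], [0, 0, -2, 4], 1), by decide +kernel, rfl⟩))
    (by decide +kernel) (by decide +kernel) (by decide +kernel)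
    (x' := toV [1, 3, 2, 1]) (y' := toV [1, 0, 0, 0])
    (HP.isRoot (List.mem_map.2 ⟨([1, 3, 2, 1], [-1, 1, 0, 0], 1), by decide +kernel, rfl⟩))
    (HP.isRoot (List.mem_map.2 ⟨([1, 0, 0, 0], [2, -1, 0, 0], 1), by decide +kernel, rfl⟩))
    (by decide +kernel) (by decide +kernel) (by decide +kernel) expF4c rfl⟩

theorem lr2G [CharP K 3] (A : AS G Ω T) (e : ↥(chevG2.group K) ≃* ↥T) : ∃ X X' : Subgroup ↥T,
    LR2 3 (Nat.card K) 3 ((Nat.card K - 1) * (exG2c.map fun z => Nat.card K ^ z.1 + Nat.card K ^ z.2).sum +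
      (Nat.card K - 1) * (exG2s.map fun z => Nat.card K ^ z.1 + Nat.card K ^ z.2).sum) X X' := by
  have hp : IsType chevG2 2 CoxeterMatrix.G₂ := by simp [IsType, typeList]
  have : Fact (Nat.Prime 3) := ⟨Nat.prime_three⟩
  have := A.finG
  have := A.simple
  let cs : CoxeterSystem CoxeterMatrix.G₂ CoxeterMatrix.G₂.Group := CoxeterMatrix.G₂.toCoxeterSystem
  have hW : Finite CoxeterMatrix.G₂.Group := finite_W hp cs
  have R₀ := rgd (K := K) hp cs 3
  have R' := Nodes.RGDLib.rgd_map_of_injective R₀ e.toMonoidHom e.injective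
  have H : SpR R' (toV dlG2c) (toV [3, 2]) (toV [2, 1]) :=
    (spC (K := K) (p := 3) hp (CA := CAG2c) (by decide +kernel) chkNpG chkSpG (rtG hp cs)).map e R'
  have := Fintype.ofFinite K
  obtain ⟨f, -, hf⟩ := FiniteField.card K 3
  rw [← Nat.card_eq_fintype_card] at hf
  have hq : ∀ t, IsRoot cs hp.isCartan t → Nat.card ↥(Subgroup.map e.toMonoidHom
      ((XV chevG2 2 K t).subgroupOf (chevG2.group K))) = Nat.card K := by
    intro t ht
    obtain ⟨w, i, rfl⟩ := ht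
    refine (Nodes.CardSup.card_X_rep R' w (isRoot_sr cs hp.isCartan i)).trans ?_
    exact card_XE hp e i
  obtain ⟨W₀, h1, h2, h3⟩ := w0G hp H hq
  obtain ⟨HP, -⟩ := of_chkT (A := cartanOf chevG2 2) (CA := CAG2c) (by decide +kernel) chkG2c (e := fun _ => 1)
    (fun _ _ => rfl)
  exact ⟨_, _, lr2_tab (a := 3) (b := 2) (w := 2) (z := 3) (i := 0) (j := 1) (G1E hp e cs) (CA := CAG2c)
    (by decide +kernel) chkG2c domG2c domG2s H
    (by decide +kernel) (by decide +kernel) (by decide +kernel) (by decide +kernel) (by decide +kernel)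
    (by decide +kernel) f.pos hf hq gtG2c zsG2 (by norm_num) h1 h2 h3
    (x := toV [3, 1]) (y := toV [0, 1])
    (HP.isRoot (List.mem_map.2 ⟨([3, 1], [3, -3], 1), by decide +kernel, rfl⟩))
    (HP.isRoot (List.mem_map.2 ⟨([0, 1], [-3, 6], 1), by decide +kernel, rfl⟩))
    (by decide +kernel) (by decide +kernel) (by decide +kernel)
    (x' := toV [1, 1]) (y' := toV [1, 0])
    (HP.isRoot (List.mem_map.2 ⟨([1, 1], [-1, 3], 1), by decide +kernel, rfl⟩))
    (HP.isRoot (List.mem_map.2 ⟨([1, 0], [2, -3], 1), by decide +kernel, rfl⟩))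
    (by decide +kernel) (by decide +kernel) (by decide +kernel) expG2c rfl⟩

/-- **`F₄(2^f)`, `f ≥ 2`** -/
theorem nF4_two [CharP K 2] (A : AS G Ω T) (e : ↥(chevF4.group K) ≃* ↥T) (hK : 4 ≤ Nat.card K)
    (hB : ∀ (U : Sylow 2 ↥T) (a b : Ω), ∃ g ∈ Subgroup.normalizer ((U : Subgroup ↥T) : Set ↥T), g • a = b) :
    Nat.card Ω = Nat.card K ^ 8 ∨ Nat.card Ω = Nat.card K ^ 12 := by
  obtain ⟨X, X', L⟩ := lr2F A e
  obtain ⟨h3, h4⟩ := main2 A hB L
  set q := Nat.card K with hq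
  refine arithF2 hK (one_lt_card_Om A) h3 ?_
  rw [exF4s_sum, ← two_mul, nat_poly (a := q ^ 12) (S := q ^ 4 + 1) (by omega) (Nat.one_le_pow _ _ (by omega)) (by
    unfold exF4c
    simp only [List.map_cons, List.map_nil, List.sum_cons, List.sum_nil]
    ring)] at h4
  exact h4

/-- **`G₂(3^f)`** -/
theorem nG2_three [CharP K 3] (A : AS G Ω T) (e : ↥(chevG2.group K) ≃* ↥T)
    (hB : ∀ (U : Sylow 3 ↥T) (a b : Ω), ∃ g ∈ Subgroup.normalizer ((U : Subgroup ↥T) : Set ↥T), g • a = b) :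
    Nat.card Ω = Nat.card K ^ 3 ∨ Nat.card Ω = Nat.card K ^ 6 := by
  obtain ⟨X, X', L⟩ := lr2G A e
  obtain ⟨h3, h4⟩ := main2 A hB L
  set q := Nat.card K with hq
  have hq2 : 2 ≤ q := two_le_card
  have hb : 2 ≤ q ^ 3 := le_trans hq2 (Nat.le_self_pow (by norm_num) q)
  rw [exG2s_sum, ← two_mul, nat_poly (a := (q ^ 3) ^ 2) (S := 1) (by omega) (Nat.one_le_pow _ _ (by omega)) (by
    unfold exG2c
    simp only [List.map_cons, List.map_nil, List.sum_cons, List.sum_nil]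
    ring), mul_one] at h4
  rcases arithG2 hb (one_lt_card_Om A) h3 h4 with h5 | h5
  · left; rw [h5]
  · right; rw [h5]; ring

end Rows

end Cfsg.Agent.H400.TwoExc.Sp
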