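import Cfsg.Agent.H400.FprE6Row
import Cfsg.Agent.H448.FprMers.E6Two

/-!
# Fixed point ratios of `p`-elements: all rows of `²E₆(q)`, final form (helper400, TEAM FPR)
-/

set_option autoImplicit false

namespace Cfsg.Agent.H400.Fpr.E6Row

open Cfsg.Lie
open Cfsg.Agent.H409 (FprRow)

universe u

variable {K : Type u} [Field K] [Fintype K] {q : ℕ}

/-- **All rows of S3578 for `²E₆(q)`.** -/
theorem row_sharp (hq : IsPrimePow q) (hK : Fintype.card K = q ^ 2) {p : ℕ} [hp : Fact p.Prime] (hch : (p : K) ≠ 0)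
    (hpG : p ∣ Nat.card ↥(twistedE6 K q)) : FprRow (p + 1) 1 p ↥(twistedE6 K q) :=
  row_sharp' (fun _ hφ hK2 => Cfsg.Agent.H448.FprMers.row_2E6_two_eleven hK2 hφ) hq hK hch hpG

/-- **All rows of S3569 for `²E₆(q)`.** -/
theorem row569 (hq : IsPrimePow q) (hK : Fintype.card K = q ^ 2) {p : ℕ} [hp : Fact p.Prime] (hch : (p : K) ≠ 0)
    (hpG : p ∣ Nat.card ↥(twistedE6 K q)) : FprRow (2 * p - 1) (p - 1) p ↥(twistedE6 K q) :=
  row569' (fun _ hφ hK2 => Cfsg.Agent.H448.FprMers.row_2E6_two_eleven hK2 hφ) hq hK hch hpG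

end Cfsg.Agent.H400.Fpr.E6Row
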