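import Cfsg.Agent.H400.FprD4E

/-!
# Fixed point ratios of `p`-elements: `³D₄(q)`, primes dividing `q² + q + 1` (helper400, TEAM FPR)
-/

set_option autoImplicit false
set_option linter.unusedSectionVars false
set_option linter.unusedVariables false

namespace Cfsg.Agent.H400.Fpr.D4

open CoxeterSystem Cfsg.Agent.ChevalleyStructure.CoxeterGeom Cfsg.Agent.Tits.Roots Cfsg.Agent.Tits.Core
  Cfsg.Agent.Nodes.Reps Cfsg.Agent.Nodes.BNOf Cfsg.Agent.Nodes.RGDTwGen Cfsg.Agent.Nodes.RGDChev Cfsg.Agent.Nodes.RGDFold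
  Cfsg.Agent.Nodes.KindChev Cfsg.Agent.Nodes.Coroot Cfsg.Agent.Nodes.PosPair Cfsg.Agent.Nodes.LeviDec
  Cfsg.Agent.Nodes.StabComb Cfsg.Agent.Nodes.Bruhat Cfsg.Agent.Nodes.Unique
open Cfsg.Lie Cfsg.Agent.ChevalleyStructure
open Cfsg.Agent.Nodes.RGDTwD4 (A isCartan foldData hp)
open Cfsg.Agent.Hexagon.TwD4Par Cfsg.Agent.Hexagon.TwD4Rel
open Cfsg.Agent.SplitTwo
open Cfsg.Agent.Omega.EH3.Kf
open Cfsg.Agent.H400.TwoExc Cfsg.Agent.H400.TwoExc.TwD
open Cfsg.Agent.H398.FPR (CommFull UGood Pair)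
open Cfsg.Agent.Nodes.RGDFoldSL
open scoped commutatorElement MatrixGroups

universe u

variable {K : Type u} [Field K] [Fintype K] {q : ℕ} {φ : K →+* K}

section

variable {W : Type*} [Group W] [Finite W] {cs : CoxeterSystem CoxeterMatrix.G₂ W}

/-- reflecting root groups inside a subgroup -/
theorem refl_le (hK : Fintype.card K = q ^ 3) (hφ : ∀ x, φ x = x ^ q) {K0 : Subgroup ↥(twistedD4 K q)}
    {z y w : Fin 2 → ℤ} (hz : IsRoot cs isCartan z) (hy : IsRoot cs isCartan y)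
    (h1 : Nodes.RGDTwD4.X φ q z ≤ K0) (h2 : Nodes.RGDTwD4.X φ q (-z) ≤ K0) (h3 : Nodes.RGDTwD4.X φ q y ≤ K0)
    (c : ℤ) (hc : 2 * qf AG2t (toV dlG2t) y z = c * qf AG2t (toV dlG2t) z z) (h0 : qf AG2t (toV dlG2t) z z ≠ 0)
    (hw : y - c • z = w) : Nodes.RGDTwD4.X φ q w ≤ K0 := by
  obtain ⟨p, hp'⟩ := CharP.exists K
  have : Fact p.Prime := ⟨CharP.char_is_prime K p⟩
  have h4 : cpr cs isCartan y z = c := cpr_val (gr (cs := cs)).hd hz hc h0
  have h5 := X_refl_le (Nodes.RGDTwD4.rgd cs hK hφ p) hz hy h1 h2 h3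
  rw [h4, hw] at h5
  exact h5

/-- the image of a root group under a reflecting element -/
theorem refl_eq {m : ↥(twistedD4 K q)} {r : Fin 2 → ℤ} (hr : IsRoot cs isCartan r)
    (hm : ∀ z, IsRoot cs isCartan z → Cfsg.Agent.Nodes.Reps.cj m (Nodes.RGDTwD4.X φ q z) =
      Nodes.RGDTwD4.X φ q (z - cpr cs isCartan z r • r)) {y w : Fin 2 → ℤ} (hy : IsRoot cs isCartan y)
    (c : ℤ) (hc : 2 * qf AG2t (toV dlG2t) y r = c * qf AG2t (toV dlG2t) r r) (h0 : qf AG2t (toV dlG2t) r r ≠ 0)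
    (hw : y - c • r = w) : cj m (Nodes.RGDTwD4.X φ q y) = Nodes.RGDTwD4.X φ q w := by
  rw [hm y hy, cpr_val (gr (cs := cs)).hd hr hc h0, hw]

end

theorem gen23 {W : Type*} [Group W] [Finite W] {cs : CoxeterSystem CoxeterMatrix.G₂ W}
    (hK : Fintype.card K = q ^ 3) (hφ : ∀ x, φ x = x ^ q) {m : ↥(twistedD4 K q)}
    (hmX : ∀ z, IsRoot cs isCartan z → Cfsg.Agent.Nodes.Reps.cj m (Nodes.RGDTwD4.X φ q z) =
      Nodes.RGDTwD4.X φ q (z - cpr cs isCartan z (toV [2, 3]) • toV [2, 3])) :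
    Vr (Hexagon.TwD4RGD.X K q) ⊔ cc m (Vr (Hexagon.TwD4RGD.X K q)) = ⊤ := by
  have hG1 := Nodes.RGDTwD4.G1_eq_top cs hK hφ
  set K0 := Vr (Hexagon.TwD4RGD.X K q) ⊔ cc m (Vr (Hexagon.TwD4RGD.X K q)) with hK0
  have hV : ∀ z ∈ s5, Nodes.RGDTwD4.X φ q z ≤ K0 := by
    intro z hz
    refine le_trans ?_ le_sup_left
    rw [Vr_eq (cs := cs) hK hφ]
    unfold VJ
    rw [notJ_eq]
    exact RGD.le_Sup (S := (s5 : Set (Fin 2 → ℤ))) (Finset.mem_coe.2 hz)
  have hV' : ∀ z ∈ s5, cj m (Nodes.RGDTwD4.X φ q z) ≤ K0 := by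
    intro z hz
    refine le_trans ?_ le_sup_right
    rw [Vr_eq (cs := cs) hK hφ]
    unfold VJ
    rw [notJ_eq]
    exact cc_mono (RGD.le_Sup (S := (s5 : Set (Fin 2 → ℤ))) (Finset.mem_coe.2 hz))
  have a01 := hV (toV [0, 1]) (by decide +kernel)
  have a11 := hV (toV [1, 1]) (by decide +kernel)
  have a12 := hV (toV [1, 2]) (by decide +kernel)
  have a13 := hV (toV [1, 3]) (by decide +kernel)
  have a23 := hV (toV [2, 3]) (by decide +kernel)
  have n12 : Nodes.RGDTwD4.X φ q (-toV [1, 2]) ≤ K0 := by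
    rw [← refl_eq (cs := cs) r23 hmX (y := toV [1, 1]) r11 1 (by decide +kernel) (by decide +kernel) (by decide +kernel)]
    exact hV' _ (by decide +kernel)
  have n11 : Nodes.RGDTwD4.X φ q (-toV [1, 1]) ≤ K0 := by
    rw [← refl_eq (cs := cs) r23 hmX (y := toV [1, 2]) r12 1 (by decide +kernel) (by decide +kernel) (by decide +kernel)]
    exact hV' _ (by decide +kernel)
  have n10 : Nodes.RGDTwD4.X φ q (-toV [1, 0]) ≤ K0 := by
    rw [← refl_eq (cs := cs) r23 hmX (y := toV [1, 3]) r13 1 (by decide +kernel) (by decide +kernel) (by decide +kernel)]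
    exact hV' _ (by decide +kernel)
  have n23 : Nodes.RGDTwD4.X φ q (-toV [2, 3]) ≤ K0 := by
    rw [← refl_eq (cs := cs) r23 hmX (y := toV [2, 3]) r23 2 (by decide +kernel) (by decide +kernel) (by decide +kernel)]
    exact hV' _ (by decide +kernel)
  have n01 : Nodes.RGDTwD4.X φ q (-toV [0, 1]) ≤ K0 :=
    refl_le (cs := cs) hK hφ (z := toV [1, 1]) (y := -toV [1, 2]) r11 r12.neg a11 n11 n12 (-1) (by decide +kernel)
      (by decide +kernel) (by decide +kernel)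
  have a10 : Nodes.RGDTwD4.X φ q (toV [1, 0]) ≤ K0 :=
    refl_le (cs := cs) hK hφ (z := toV [1, 1]) (y := -toV [2, 3]) r11 r23.neg a11 n11 n23 (-3) (by decide +kernel)
      (by decide +kernel) (by decide +kernel)
  have n13 : Nodes.RGDTwD4.X φ q (-toV [1, 3]) ≤ K0 :=
    refl_le (cs := cs) hK hφ (z := toV [1, 2]) (y := toV [2, 3]) r12 r23 a12 n12 a23 3 (by decide +kernel)
      (by decide +kernel) (by decide +kernel)
  rw [eq_top_iff, ← hG1]
  refine RGD.Sup_le fun z hz => ?_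
  have hz' : IsRoot cs isCartan z := hz
  rcases hz'.pos_or_neg with h0 | h0
  · rcases six hz' h0 with rfl | rfl | rfl | rfl | rfl | rfl
    · exact a01
    · exact a13
    · exact a12
    · exact a23
    · exact a11
    · exact a10
  · have h1 : 0 ≤ -z := fun i => by
      have := h0 i
      simp only [Pi.neg_apply, Pi.zero_apply] at this ⊢
      omega
    have key : ∀ y : Fin 2 → ℤ, -z = y → Nodes.RGDTwD4.X φ q (-y) ≤ K0 → Nodes.RGDTwD4.X φ q z ≤ K0 := by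
      rintro y rfl h
      rwa [neg_neg] at h
    rcases six hz'.neg h1 with h2 | h2 | h2 | h2 | h2 | h2
    · exact key _ h2 n01
    · exact key _ h2 n13
    · exact key _ h2 n12
    · exact key _ h2 n23
    · exact key _ h2 n11
    · exact key _ h2 n10

/-- **The primes dividing `q² + q + 1`.** -/
theorem twoPair_C (hK : Fintype.card K = q ^ 3) (hφ : ∀ x, φ x = x ^ q)
    (hq1 : 1 < q) (p : ℕ) [Fact p.Prime] [CharP K p] {ℓ : ℕ} (hℓ : ℓ.Prime) (hℓ2 : ℓ ≠ 2)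
    (hd : ℓ ∣ q ^ 2 + q + 1) : TwoPair ↥(twistedD4 K q) ℓ 0 p := by
  obtain ⟨σ, hσ, hB, P⟩ := exists_sigma hK hφ
  let cs : CoxeterSystem CoxeterMatrix.G₂ _ := CoxeterMatrix.G₂.toCoxeterSystem
  have hW : Finite CoxeterMatrix.G₂.Group := Nodes.RGDFold.finite_W (hp := Nodes.RGDTwD4.hp) cs isCartan foldData
  have R := Nodes.RGDTwD4.rgd cs hK hφ p
  have hG1 := Nodes.RGDTwD4.G1_eq_top cs hK hφ
  have hle := D4Fixed.twisted_le_fix hK hφ
  have : Fact ℓ.Prime := ⟨hℓ⟩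
  classical
  -- the element of order `ℓ` of the field
  have hd3 : ℓ ∣ Nat.card Kˣ := by
    rw [Nat.card_units, Nat.card_eq_fintype_card, hK]
    refine hd.trans ⟨q - 1, ?_⟩
    obtain ⟨m, rfl⟩ : ∃ m, q = m + 1 := ⟨q - 1, by omega⟩
    rw [Nat.add_sub_cancel]
    have e : (m + 1) ^ 3 = ((m + 1) ^ 2 + (m + 1) + 1) * m + 1 := by ring
    rw [e, Nat.add_sub_cancel]
  obtain ⟨v, hv⟩ := exists_prime_orderOf_dvd_card' ℓ hd3
  have hv1 : (v : K) ^ ℓ = 1 := by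
    rw [← Units.val_pow_eq_pow_val, ← hv, pow_orderOf_eq_one, Units.val_one]
  have hv0 : (v : K) ≠ 0 := v.ne_zero
  have hN : (v : K) * φ v * φ (φ v) = 1 := by
    rw [hφ, hφ, ← pow_mul, ← pow_succ', ← pow_add]
    have e : q + 1 + q * q = q ^ 2 + q + 1 := by ring
    obtain ⟨c, hc⟩ := hd
    rw [e, hc, pow_mul, hv1, one_pow]
  have hv2 : (v : K) ^ 2 ≠ 1 := by
    intro h
    have h1 : v ^ 2 = 1 := Units.ext (by rw [Units.val_pow_eq_pow_val, h, Units.val_one])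
    have h2 := orderOf_dvd_of_pow_eq_one h1
    rw [hv] at h2
    exact hℓ2 ((Nat.prime_dvd_prime_iff_eq hℓ Nat.prime_two).1 h2)
  have hxT : hβ hφ hle hK (v : K) ∈ Nodes.RGDTwD4.T K q :=
    Phi_hS (Nodes.RGDTwD4.foldGrp hφ hle) (Nodes.RGDTwNode.D4.nodeOK 1) (hf φ 1) (fun h => hv0 (congrArg Subtype.val h))
  have hxℓ : hβ hφ hle hK (v : K) ^ ℓ = 1 := hβ_pow hφ hle hK hv0 hv1
  have hxL : hβ hφ hle hK (v : K) ∈ Nodes.RGDTwD4.X φ q (sr 1) ⊔ Nodes.RGDTwD4.X φ q (-sr 1) := Ph_mem hφ hle hK 1 _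
  have e1 := hβ_x1 hφ hle hσ hK hv0
  have e5 := hβ_x5 hφ hle hσ hK hN
  revert hxT hxℓ hxL e1 e5
  generalize hβ hφ hle hK (v : K) = x
  intro hxT hxℓ hxL e1 e5
  have hE : ∀ w : Fin 2 → K, x * Em (ev (X1 σ)) (ev (X5 σ)) w * x⁻¹ = Em (ev (X1 σ)) (ev (X5 σ)) ((v : K) ^ 2 • w) := by
    intro w
    unfold Em
    rw [Pi.smul_apply, Pi.smul_apply, smul_eq_mul, smul_eq_mul, ← e1, ← e5]
    simp only [mul_assoc, inv_mul_cancel_left]
  have hPG := isPGroup_Vr hK hφ hq1 p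
  have hxV : x ∈ Subgroup.normalizer (Vr (Hexagon.TwD4RGD.X K q) : Set ↥(twistedD4 K q)) := by
    rw [Vr_eq (cs := cs) hK hφ]
    exact LJ_le_normalizer_VJ R _ (le_sup_left (a := Nodes.RGDTwD4.T K q) hxT)
  have hP1 : Pair ℓ 0 x (Vr (Hexagon.TwD4RGD.X K q)) := by
    refine (isMod_Vr hK hφ hσ hq1 P).pair_fun (f := fun w => ((v : K) ^ 2) • w) ?_ ?_ ?_ hPG.isNilpotent
      (comm_Vr P hB).ge
    · intro z hz
      rw [← comm_Vr P hB] at hz ⊢
      exact (comm_iff hxV z).1 hz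
    · intro w
      exact ⟨1, one_mem _, by rw [hE w, one_mul]⟩
    · intro w hw
      have h1 : ((v : K) ^ 2 - 1) • w = 0 := by rw [sub_smul, one_smul, hw, sub_self]
      exact (smul_eq_zero.1 h1).resolve_left (sub_ne_zero.2 hv2)
  obtain ⟨m, hm, hmX⟩ := exists_refl R (r23 (cs := cs))
  have hmx : m * x = x * m := by
    refine (root_comm (cs := cs) hG1 hK hφ (isRoot_sr cs isCartan 1) r23 ?_ ?_ ?_ ?_ hxL hm).symm
    · exact not_root (by decide +kernel)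
    · exact not_root (by decide +kernel)
    · decide +kernel
    · decide +kernel
  have hP2 := pair_cc hP1 hmx
  exact ⟨x, 1, _, _, by rw [pow_one]; exact hxℓ, hP1, hP2, hPG, hPG.map _, gen23 hK hφ hmX⟩

end Cfsg.Agent.H400.Fpr.D4
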