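import Cfsg.Agent.H400.FprPar

/-!
# Fixed point ratios of `p`-elements: arithmetic of orders (helper400, TEAM FPR)
-/

set_option autoImplicit false

namespace Cfsg.Agent.H400.Fpr

open Cfsg.Agent.H398.FPR (UGood Good)

/-- `q = p ^ a` of order `e` modulo `ℓ`: there is a power `s` of `p` of order `e` modulo `ℓ` such that `s ^ e` is the
least power of `p` which is `1` modulo `ℓ`. -/
theorem exists_base {p ℓ a e : ℕ} (hp : p.Prime) (hℓ : ℓ.Prime) (hℓp : ℓ ≠ p)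
    (h : orderOf ((p ^ a : ℕ) : ZMod ℓ) = e) :
    ∃ b : ℕ, orderOf ((p ^ b : ℕ) : ZMod ℓ) = e ∧ (a ≠ 0 → b ≠ 0 ∧ b ∣ a) ∧
      ∀ t : ℕ, t ≠ 0 → p ^ t ≡ 1 [MOD ℓ] → (p ^ b) ^ e ≤ p ^ t := by
  have : Fact ℓ.Prime := ⟨hℓ⟩
  have hp0 : (p : ZMod ℓ) ≠ 0 := by
    rw [Ne, ZMod.natCast_eq_zero_iff]
    intro h1
    exact hℓp ((Nat.prime_dvd_prime_iff_eq hℓ hp).1 h1)
  have hfin : IsOfFinOrder (p : ZMod ℓ) := by
    rw [isOfFinOrder_iff_pow_eq_one]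
    exact ⟨ℓ - 1, by have := hℓ.two_le; omega, ZMod.pow_card_sub_one_eq_one hp0⟩
  set N := orderOf (p : ZMod ℓ) with hN
  have hN0 : 0 < N := hfin.orderOf_pos
  have ho : ∀ b : ℕ, orderOf ((p ^ b : ℕ) : ZMod ℓ) = N / Nat.gcd N b := by
    intro b
    rw [Nat.cast_pow]
    rw [hfin.orderOf_pow]
  set g := Nat.gcd N a with hg
  have hgN : g ∣ N := Nat.gcd_dvd_left _ _
  have hg1 : Nat.gcd N g = g := Nat.gcd_eq_right hgN
  rw [ho, ← hg] at h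
  refine ⟨g, by rw [ho, hg1, h], ?_, ?_⟩
  · intro ha
    exact ⟨(Nat.gcd_pos_of_pos_left a hN0).ne', Nat.gcd_dvd_right _ _⟩
  · intro t ht hpt
    have h1 : (p : ZMod ℓ) ^ t = 1 := by
      have := (ZMod.natCast_eq_natCast_iff _ _ _).2 hpt
      rwa [Nat.cast_pow, Nat.cast_one] at this
    have h2 : N ∣ t := orderOf_dvd_of_pow_eq_one h1
    have h3 : g * e = N := by rw [← h]; exact Nat.mul_div_cancel' hgN
    rw [← pow_mul, h3]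
    exact Nat.pow_le_pow_right hp.pos (Nat.le_of_dvd (Nat.pos_of_ne_zero ht) h2)

/-- the least power -/
theorem exists_least {p ℓ : ℕ} (hp : p.Prime) (hℓ : ℓ.Prime) (hℓp : ℓ ≠ p) :
    ∃ N : ℕ, 0 < N ∧ p ^ N ≡ 1 [MOD ℓ] ∧ ∀ t : ℕ, t ≠ 0 → p ^ t ≡ 1 [MOD ℓ] → p ^ N ≤ p ^ t := by
  have : Fact ℓ.Prime := ⟨hℓ⟩
  have hp0 : (p : ZMod ℓ) ≠ 0 := by
    rw [Ne, ZMod.natCast_eq_zero_iff]
    intro h1
    exact hℓp ((Nat.prime_dvd_prime_iff_eq hℓ hp).1 h1)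
  have hfin : IsOfFinOrder (p : ZMod ℓ) := by
    rw [isOfFinOrder_iff_pow_eq_one]
    exact ⟨ℓ - 1, by have := hℓ.two_le; omega, ZMod.pow_card_sub_one_eq_one hp0⟩
  refine ⟨orderOf (p : ZMod ℓ), hfin.orderOf_pos, ?_, ?_⟩
  · rw [← ZMod.natCast_eq_natCast_iff, Nat.cast_pow, Nat.cast_one, pow_orderOf_eq_one]
  · intro t ht hpt
    have h1 : (p : ZMod ℓ) ^ t = 1 := by
      have := (ZMod.natCast_eq_natCast_iff _ _ _).2 hpt
      rwa [Nat.cast_pow, Nat.cast_one] at this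
    exact Nat.pow_le_pow_right hp.pos (Nat.le_of_dvd (Nat.pos_of_ne_zero ht) (orderOf_dvd_of_pow_eq_one h1))

/-- a divisor of `Φ_e(q)`, `q` of order `e` -/
theorem orderOf_eq_of_prime_test {ℓ q e : ℕ} (he : 0 < e) (h1 : ((q : ZMod ℓ)) ^ e = 1)
    (h2 : ∀ r : ℕ, r.Prime → r ∣ e → ((q : ZMod ℓ)) ^ (e / r) ≠ 1) : orderOf (q : ZMod ℓ) = e :=
  orderOf_eq_of_pow_and_pow_div_prime he h1 h2

/-- order `6` -/
theorem orderOf_six {ℓ q : ℕ} (hℓ : ℓ.Prime) (h2 : ℓ ≠ 2) (h3 : ℓ ≠ 3) (hd : ℓ ∣ q ^ 2 - q + 1) (hq : 1 ≤ q) :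
    orderOf (q : ZMod ℓ) = 6 := by
  have : Fact ℓ.Prime := ⟨hℓ⟩
  have h0 : (q : ZMod ℓ) ^ 2 - q + 1 = 0 := by
    have h4 := (ZMod.natCast_eq_zero_iff _ _).2 hd
    rw [Nat.cast_add, Nat.cast_sub (by nlinarith), Nat.cast_pow, Nat.cast_one] at h4
    exact h4
  have hn : ∀ k : ℕ, k < 5 → k ≠ 0 → ℓ ≠ 2 → ℓ ≠ 3 → ((k : ℕ) : ZMod ℓ) ≠ 0 := by
    intro k hk hk0 _ _ h5
    rw [ZMod.natCast_eq_zero_iff] at h5
    have h6 := Nat.le_of_dvd (Nat.pos_of_ne_zero hk0) h5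
    have h7 := hℓ.two_le
    have h8 : ℓ = 4 := by omega
    rw [h8] at hℓ
    exact absurd hℓ (by norm_num)
  have h20 := hn 2 (by norm_num) (by norm_num) h2 h3
  have h30 := hn 3 (by norm_num) (by norm_num) h2 h3
  push_cast at h20 h30
  have hcube : (q : ZMod ℓ) ^ 3 = -1 := by linear_combination ((q : ZMod ℓ) + 1) * h0
  refine orderOf_eq_of_prime_test (by norm_num) ?_ ?_
  · have : (q : ZMod ℓ) ^ 6 = ((q : ZMod ℓ) ^ 3) ^ 2 := by ring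
    rw [this, hcube]; ring
  · intro r hr hr6
    have : r = 2 ∨ r = 3 := by
      have h5 := Nat.le_of_dvd (by norm_num) hr6
      interval_cases r <;> first | omega | (exact absurd hr (by norm_num))
    rcases this with rfl | rfl
    · show (q : ZMod ℓ) ^ 3 ≠ 1
      rw [hcube]
      intro h5
      apply h20
      linear_combination -h5
    · show (q : ZMod ℓ) ^ 2 ≠ 1
      intro h5
      have h6 : (q : ZMod ℓ) = 2 := by linear_combination h5 - h0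
      rw [h6] at h5
      apply h30
      linear_combination h5

/-- the converse, order `6` -/
theorem phi_six {ℓ s : ℕ} (hℓ : ℓ.Prime) (h : orderOf (s : ZMod ℓ) = 6) : (s : ZMod ℓ) ^ 2 - s + 1 = 0 := by
  have : Fact ℓ.Prime := ⟨hℓ⟩
  have h1 : (s : ZMod ℓ) ^ 6 = 1 := by rw [← h]; exact pow_orderOf_eq_one _
  have h2 : (s : ZMod ℓ) ^ 3 ≠ 1 := pow_ne_one_of_lt_orderOf (by norm_num) (by rw [h]; norm_num)
  have h3 : (s : ZMod ℓ) ^ 2 ≠ 1 := pow_ne_one_of_lt_orderOf (by norm_num) (by rw [h]; norm_num)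
  have h4 : ((s : ZMod ℓ) ^ 3 - 1) * (((s : ZMod ℓ) + 1) * ((s : ZMod ℓ) ^ 2 - s + 1)) = 0 := by
    linear_combination h1
  rcases mul_eq_zero.1 h4 with h5 | h5
  · exact absurd (sub_eq_zero.1 h5) h2
  rcases mul_eq_zero.1 h5 with h6 | h6
  · exfalso
    apply h3
    linear_combination ((s : ZMod ℓ) - 1) * h6
  · exact h6

theorem le_of_zmod {ℓ : ℕ} {z : ℤ} (hz : 0 < z) (h : ((z : ℤ) : ZMod ℓ) = 0) : (ℓ : ℤ) ≤ z := by
  rw [ZMod.intCast_zmod_eq_zero_iff_dvd] at h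
  exact Int.le_of_dvd hz h

/-- both ratios from a `UGood` with a large modulus -/
theorem good_of_uGood {Y : Type*} [Group Y] [Finite Y] {ℓ k D M' : ℕ} (hℓ : ℓ.Prime) {x : Y} (hx : x ^ ℓ ^ k = 1)
    (h : UGood (D + 2) (M' + D + 1) x) (hM : (D + 2) * (ℓ + 1) ≤ M' + D + 1) : Good 1 (ℓ + 1) ℓ Y := by
  obtain ⟨m, -, hm⟩ := (Nat.dvd_prime_pow hℓ).1 (orderOf_dvd_of_pow_eq_one hx)
  exact (h.mono (by omega) (by omega)).good ⟨m, hm⟩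

/-- the ratio of S3578 implies the ratio of S3569 -/
theorem Good.weaken {Y : Type*} [Group Y] [Finite Y] {ℓ : ℕ} (hℓ : ℓ.Prime)
    (h : Good 1 (ℓ + 1) ℓ Y) : Good (ℓ - 1) (2 * ℓ - 1) ℓ Y := by
  intro H hH
  obtain ⟨x, hx, h1⟩ := h H hH
  refine ⟨x, hx, ?_⟩
  obtain ⟨m, rfl⟩ : ∃ m, ℓ = m + 2 := ⟨ℓ - 2, by have := hℓ.two_le; omega⟩
  have e1 : 2 * (m + 2) - 1 = 2 * m + 3 := by omega
  have e2 : m + 2 - 1 = m + 1 := by omega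
  rw [e1, e2]
  set f := Nat.card (MulAction.fixedBy (Y ⧸ H) x)
  set n := Nat.card (Y ⧸ H)
  calc (2 * m + 3) * f ≤ (m + 1) * ((m + 2 + 1) * f) := by nlinarith [Nat.zero_le (m * f), Nat.zero_le (m * m * f)]
    _ ≤ (m + 1) * (1 * n) := Nat.mul_le_mul_left _ h1
    _ = (m + 1) * n := by ring

/-- `e = 1`: the least power of `p` which is `1` modulo `ℓ`. -/
theorem exists_least_le {p ℓ a : ℕ} (hp : p.Prime) (hℓ : ℓ.Prime) (hℓp : ℓ ≠ p) (h : ℓ ∣ p ^ a - 1) (ha : a ≠ 0) :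
    ∃ M' : ℕ, ℓ + 1 ≤ M' ∧ M' ≤ p ^ a ∧ ∀ t : ℕ, t ≠ 0 → p ^ t ≡ 1 [MOD ℓ] → M' ≤ p ^ t := by
  obtain ⟨N, hN, hN1, hN2⟩ := exists_least hp hℓ hℓp
  have h1 : p ^ a ≡ 1 [MOD ℓ] := ((Nat.modEq_iff_dvd' (Nat.one_le_pow _ _ hp.pos)).2 h).symm
  refine ⟨p ^ N, ?_, hN2 a ha h1, hN2⟩
  have h2 : 1 < p ^ N := Nat.one_lt_pow hN.ne' hp.one_lt
  have h3 : ℓ ∣ p ^ N - 1 := (Nat.modEq_iff_dvd' h2.le).1 hN1.symm
  have h4 := Nat.le_of_dvd (by omega) h3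
  omega

end Cfsg.Agent.H400.Fpr
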