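import Cfsg.Agent.H400.TwoExcTab
import Cfsg.Agent.Nodes.CardSup

/-!
# Closed sets of positive roots by computation (helper400, TEAM FPR)
-/

set_option autoImplicit false
set_option linter.unusedSectionVars false
set_option linter.unusedVariables false

namespace Cfsg.Agent.H400.Fpr

open CoxeterSystem Cfsg.Agent.ChevalleyStructure.CoxeterGeom Cfsg.Agent.Tits.Roots Cfsg.Agent.Tits.Core
  Cfsg.Agent.Tits.Exchange Cfsg.Agent.Nodes.Reps Cfsg.Agent.Nodes.BNOf Cfsg.Agent.Nodes.StabComb
  Cfsg.Agent.Nodes.Bruhat Cfsg.Agent.Nodes.OppDec Cfsg.Agent.Nodes.PosPair Cfsg.Agent.Nodes.Coroot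
  Cfsg.Agent.Nodes.Unique
open Cfsg.Agent.H400.TwoExc

variable {l : ℕ} {W Y : Type*} [Group W] [Group Y] {M : CoxeterMatrix (Fin l)}
  {cs : CoxeterSystem M W} {A : Fin l → Fin l → ℤ} {h : IsCartan M A} {p : ℕ} {T : Subgroup Y} {n : Fin l → Y}
  {X : (Fin l → ℤ) → Subgroup Y}

/-- the sign conditions satisfied by a positive combination -/
def btw (x y z : Fin l → ℤ) : Prop := ∀ k m, (y k * z m - y m * z k).sign = (y k * x m - y m * x k).sign ∧
  (x k * z m - x m * z k).sign = (x k * y m - x m * y k).sign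

instance (x y z : Fin l → ℤ) : Decidable (btw x y z) := by unfold btw; infer_instance

theorem btw_of_btwn {x y z : Fin l → ℤ} (hb : Btwn cs h x y z) : btw x y z := by
  obtain ⟨-, m, i, j, hm, hi, hj, he⟩ := hb
  have hc : ∀ k, m * z k = i * x k + j * y k := fun k => by
    have := congrFun he k
    simpa using this
  have sg : ∀ {a b c d : ℤ}, 0 < a → 0 < b → a * c = b * d → c.sign = d.sign := by
    intro a b c d ha hb hcd
    have h1 : (a * c).sign = (b * d).sign := by rw [hcd]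
    rwa [Int.sign_mul, Int.sign_mul, Int.sign_eq_one_of_pos ha, Int.sign_eq_one_of_pos hb, one_mul, one_mul] at h1
  intro k k'
  constructor
  · refine sg hm hi ?_
    calc m * (y k * z k' - y k' * z k) = y k * (m * z k') - y k' * (m * z k) := by ring
      _ = i * (y k * x k' - y k' * x k) := by rw [hc, hc]; ring
  · refine sg hm hj ?_
    calc m * (x k * z k' - x k' * z k) = x k * (m * z k') - x k' * (m * z k) := by ring
      _ = j * (x k * y k' - x k' * y k) := by rw [hc, hc]; ring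

theorem closed_of_check {L : List (Fin l → ℤ)} (H : PR A L) {S : Finset (Fin l → ℤ)} (hS : ∀ x ∈ S, x ∈ L)
    (hc : ∀ x ∈ S, ∀ y ∈ S, ∀ z ∈ L, btw x y z → z ∈ S) : Closed cs h (S : Set (Fin l → ℤ)) := by
  intro x hx y hy z hz
  have hx' := Finset.mem_coe.1 hx
  have hy' := Finset.mem_coe.1 hy
  have h1 := btw_of_btwn hz
  refine Finset.mem_coe.2 (hc x hx' y hy' z ?_ h1)
  obtain ⟨hzr, m, i, j, hm, hi, hj, he⟩ := hz
  refine H.mem_of_pos (cs := cs) (h := h) ⟨hzr, fun k => ?_⟩
  have h2 : m * z k = i * x k + j * y k := by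
    have := congrFun he k
    simpa using this
  have h3 := H.pos x (hS x hx') k
  have h4 := H.pos y (hS y hy') k
  simp only [Pi.zero_apply] at h3 h4 ⊢
  by_contra h5
  push Not at h5
  have h6 : m * z k < 0 := mul_neg_of_pos_of_neg hm h5
  have h7 : 0 ≤ i * x k + j * y k := add_nonneg (mul_nonneg hi.le h3) (mul_nonneg hj.le h4)
  omega

/-- the order of a product of root groups -/
theorem card_sup_check (R : RGD cs h p T n X) [Finite W] {L : List (Fin l → ℤ)} (H : PR A L)
    {S : Finset (Fin l → ℤ)} (hS : ∀ x ∈ S, x ∈ L) (hc : ∀ x ∈ S, ∀ y ∈ S, ∀ z ∈ L, btw x y z → z ∈ S) :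
    Nat.card (RGD.Sup X (S : Set (Fin l → ℤ))) = ∏ x ∈ S, Nat.card (X x) :=
  Nodes.CardSup.card_sup R (fun x hx => (H.mem_iff (cs := cs) (h := h) x).1 (hS x hx)) (closed_of_check H hS hc)

end Cfsg.Agent.H400.Fpr
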