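import Cfsg.Agent.H400.FprFree

/-!
# Fixed point ratios of `p`-elements: coprime action on special groups (helper400, TEAM FPR)
-/

set_option autoImplicit false
set_option linter.unusedSectionVars false
open Subgroup MulAction
open scoped Pointwise commutatorElement

namespace Cfsg.Agent.H400.Fpr

open Cfsg.Agent.H398.FPR (CommFull UGood Pair)
open Cfsg.Agent.H435.Fpr (PairM T3M_uGood)

variable {Y : Type*} [Group Y]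

/-- An element two coprime powers of which lie in a subgroup. -/
theorem mem_of_coprime_pow {Z : Subgroup Y} {v : Y} {m n : ℕ} (hmn : m.Coprime n) (h1 : v ^ m ∈ Z) (h2 : v ^ n ∈ Z) :
    v ∈ Z := by
  have h3 : v ^ ((Nat.gcd m n : ℕ) : ℤ) ∈ Z := by
    rw [Nat.gcd_eq_gcd_ab, zpow_add, zpow_mul, zpow_mul, zpow_natCast, zpow_natCast]
    exact mul_mem (zpow_mem h1 _) (zpow_mem h2 _)
  rw [hmn.gcd_eq_one, Nat.cast_one, zpow_one] at h3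
  exact h3

/-- The Heisenberg type group `Q` with centre `Z`, and the `p`-element `x` centralising `Z`. -/
structure HX (r m : ℕ) (Z Q : Subgroup Y) (x : Y) : Prop where
  c2 : C2 Z Q
  sur : ∀ a ∈ Q, a ∉ Z → ∀ z ∈ Z, ∃ b ∈ Q, ⁅a, b⁆ = z
  rg : IsPGroup r Q
  xm : x ^ m = 1
  cop : ∀ s : ℕ, m.Coprime (r ^ s)
  xZ : ∀ z ∈ Z, x * z = z * x
  xQ : ∀ y ∈ Q, x * y * x⁻¹ ∈ Q

namespace HX

variable {r m : ℕ} {Z Q : Subgroup Y} {x : Y} (H : HX r m Z Q x)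

include H

theorem comm_mem {w : Y} (hw : w ∈ Q) : ⁅x, w⁆ ∈ Q := by
  rw [commutatorElement_def]
  exact mul_mem (H.xQ w hw) (inv_mem hw)

theorem exists_pow {v : Y} (hv : v ∈ Q) : ∃ s : ℕ, v ^ r ^ s = 1 := by
  obtain ⟨s, hs⟩ := H.rg ⟨v, hv⟩
  exact ⟨s, congrArg Subtype.val hs⟩

theorem conjZ {z : Y} (hz : z ∈ Z) : x * z * x⁻¹ = z := by
  rw [H.xZ z hz, mul_inv_cancel_right]

/-- linearity of the commutator -/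
theorem lin {a b c : Y} (ha : a ∈ Q) (hb : b ∈ Q) (hc : c ∈ Q) : ⁅c, a * b⁆ = ⁅c, a⁆ * ⁅c, b⁆ := by
  have h1 : ⁅c, a * b⁆ = ⁅c, a⁆ * (a * ⁅c, b⁆ * a⁻¹) := by
    simp only [commutatorElement_def]; group
  have h2 := H.c2.cen _ (H.c2.com c hc b hb) a ha
  rw [h1, ← h2, mul_inv_cancel_right]

theorem lin_inv {b c : Y} (hb : b ∈ Q) (hc : c ∈ Q) : ⁅c, b⁻¹⁆ = ⁅c, b⁆⁻¹ := by
  have h1 := H.lin hb (inv_mem hb) hc
  rw [mul_inv_cancel, commutatorElement_one_right] at h1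
  exact (inv_eq_of_mul_eq_one_right h1.symm).symm

theorem lin_z {a z c : Y} (ha : a ∈ Q) (hz : z ∈ Z) (hc : c ∈ Q) : ⁅c, z * a⁆ = ⁅c, a⁆ := by
  rw [H.lin (H.c2.le hz) ha hc, commutatorElement_eq_one_iff_mul_comm.2 (H.c2.cen z hz c hc).symm, one_mul]

theorem lin_z' {a z c : Y} (ha : a ∈ Q) (hz : z ∈ Z) (hc : c ∈ Q) : ⁅z * a, c⁆ = ⁅a, c⁆ := by
  rw [← commutatorElement_inv, H.lin_z ha hz hc, commutatorElement_inv]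

/-- powers -/
theorem pow_conj {w v z0 : Y} (hw : w ∈ Q) (hz0 : z0 ∈ Z) (hv : v ∈ Q) (hvw : ⁅x, w⁆ = z0 * v) (hxv : ⁅x, v⁆ ∈ Z)
    (i : ℕ) : ∃ z ∈ Z, x ^ i * w * (x ^ i)⁻¹ = z * (v ^ i * w) := by
  induction i with
  | zero => exact ⟨1, one_mem _, by simp⟩
  | succ i ih =>
    obtain ⟨z, hz, h1⟩ := ih
    have h2 : x ^ (i + 1) * w * (x ^ (i + 1))⁻¹ = x * (x ^ i * w * (x ^ i)⁻¹) * x⁻¹ := by
      rw [pow_succ']; group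
    have h3 : x * v * x⁻¹ = ⁅x, v⁆ * v := by rw [commutatorElement_def]; group
    have h4 : x * w * x⁻¹ = z0 * v * w := by
      have : x * w * x⁻¹ = ⁅x, w⁆ * w := by rw [commutatorElement_def]; group
      rw [this, hvw]
    have h5 : x * v ^ i * x⁻¹ = ⁅x, v⁆ ^ i * v ^ i := by
      have h6 : x * v ^ i * x⁻¹ = (x * v * x⁻¹) ^ i := (conj_pow (i := i) (a := x) (b := v)).symm
      rw [h6, h3]
      exact (show Commute (⁅x, v⁆) v from H.c2.cen _ hxv v hv).mul_pow i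
    have h6 := H.c2.cen z0 hz0 (v ^ i) (pow_mem hv i)
    refine ⟨z * ⁅x, v⁆ ^ i * z0, mul_mem (mul_mem hz (pow_mem hxv i)) hz0, ?_⟩
    calc x ^ (i + 1) * w * (x ^ (i + 1))⁻¹ = x * (z * (v ^ i * w)) * x⁻¹ := by rw [h2, h1]
      _ = (x * z * x⁻¹) * (x * v ^ i * x⁻¹) * (x * w * x⁻¹) := by group
      _ = z * (⁅x, v⁆ ^ i * v ^ i) * (z0 * v * w) := by rw [H.conjZ hz, h5, h4]
      _ = z * ⁅x, v⁆ ^ i * (v ^ i * z0) * v * w := by group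
      _ = z * ⁅x, v⁆ ^ i * (z0 * v ^ i) * v * w := by rw [h6]
      _ = z * ⁅x, v⁆ ^ i * z0 * (v ^ (i + 1) * w) := by rw [pow_succ]; group

/-- `C_V(x) ∩ [V, x] = 0`. -/
theorem mem_Z {w v z0 : Y} (hw : w ∈ Q) (hz0 : z0 ∈ Z) (hv : v ∈ Q) (hvw : ⁅x, w⁆ = z0 * v) (hxv : ⁅x, v⁆ ∈ Z) :
    v ∈ Z := by
  obtain ⟨z, hz, h1⟩ := H.pow_conj hw hz0 hv hvw hxv m
  rw [H.xm, inv_one, one_mul, mul_one, ← mul_assoc] at h1
  have h2 : z * v ^ m = 1 := right_eq_mul.1 h1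
  have h3 : v ^ m ∈ Z := by
    rw [← inv_eq_of_mul_eq_one_right h2]
    exact inv_mem hz
  obtain ⟨s, hs⟩ := H.exists_pow hv
  exact mem_of_coprime_pow (H.cop s) h3 (by rw [hs]; exact one_mem _)

/-- `C_V(x)` is the image of `C_Q(x)`. -/
theorem comm_of_mem {c : Y} (hc : c ∈ Q) (h : ⁅x, c⁆ ∈ Z) : x * c = c * x := by
  have h1 : ∀ i : ℕ, x ^ i * c * (x ^ i)⁻¹ = ⁅x, c⁆ ^ i * c := by
    intro i
    induction i with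
    | zero => simp
    | succ i ih =>
      have h2 : x ^ (i + 1) * c * (x ^ (i + 1))⁻¹ = x * (x ^ i * c * (x ^ i)⁻¹) * x⁻¹ := by
        rw [pow_succ']; group
      have h3 : x * c * x⁻¹ = ⁅x, c⁆ * c := by rw [commutatorElement_def]; group
      calc x ^ (i + 1) * c * (x ^ (i + 1))⁻¹ = x * (⁅x, c⁆ ^ i * c) * x⁻¹ := by rw [h2, ih]
        _ = (x * ⁅x, c⁆ ^ i * x⁻¹) * (x * c * x⁻¹) := by group
        _ = ⁅x, c⁆ ^ i * (⁅x, c⁆ * c) := by rw [H.conjZ (pow_mem h i), h3]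
        _ = _ := by rw [pow_succ]; group
  have h2 := h1 m
  rw [H.xm, inv_one, one_mul, mul_one] at h2
  have h3 : ⁅x, c⁆ ^ m = 1 := right_eq_mul.1 h2
  obtain ⟨s, hs⟩ := H.exists_pow (H.c2.le h)
  have h4 : ⁅x, c⁆ ∈ (⊥ : Subgroup Y) :=
    mem_of_coprime_pow (H.cop s) (by rw [h3]; exact one_mem _) (by rw [hs]; exact one_mem _)
  exact commutatorElement_eq_one_iff_mul_comm.1 (mem_bot.1 h4)

end HX

/-- The preimage of `[Q/Z, x]`. -/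
def RQ {r m : ℕ} {Z Q : Subgroup Y} {x : Y} (H : HX r m Z Q x) : Subgroup Y where
  carrier := {v | ∃ w ∈ Q, ∃ z ∈ Z, v = z * ⁅x, w⁆}
  one_mem' := ⟨1, one_mem _, 1, one_mem _, by simp⟩
  mul_mem' := by
    rintro _ _ ⟨w, hw, z, hz, rfl⟩ ⟨w', hw', z', hz', rfl⟩
    have h1 := H.c2.cen z' hz' _ (H.comm_mem hw)
    obtain ⟨y, hy, hy'⟩ := H.c2.mul_comm_mod hw (H.comm_mem hw')
    -- `⁅x, w w'⁆ = ⁅x, w⁆ w ⁅x, w'⁆ w⁻¹`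
    refine ⟨w * w', mul_mem hw hw', z * z' * y⁻¹, mul_mem (mul_mem hz hz') (inv_mem hy), ?_⟩
    have h2 : ⁅x, w * w'⁆ = ⁅x, w⁆ * (w * ⁅x, w'⁆) * w⁻¹ := by
      simp only [commutatorElement_def]; group
    have h3 := H.c2.cen y hy _ (H.comm_mem hw)
    have h4 : z * ⁅x, w⁆ * (z' * ⁅x, w'⁆) = z * z' * (⁅x, w⁆ * ⁅x, w'⁆) := by
      calc z * ⁅x, w⁆ * (z' * ⁅x, w'⁆) = z * (⁅x, w⁆ * z') * ⁅x, w'⁆ := by group
        _ = z * (z' * ⁅x, w⁆) * ⁅x, w'⁆ := by rw [h1]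
        _ = _ := by group
    rw [h4, h2, hy']
    calc z * z' * (⁅x, w⁆ * ⁅x, w'⁆) = z * z' * y⁻¹ * ((y * ⁅x, w⁆) * (⁅x, w'⁆ * w) * w⁻¹) := by group
      _ = _ := by rw [h3]; group
  inv_mem' := by
    rintro _ ⟨w, hw, z, hz, rfl⟩
    -- `⁅x, w⁻¹⁆ = w⁻¹ ⁅x, w⁆⁻¹ w`
    obtain ⟨y, hy, hy'⟩ := H.c2.mul_comm_mod (inv_mem hw) (inv_mem (H.comm_mem hw))
    refine ⟨w⁻¹, inv_mem hw, z⁻¹ * y⁻¹, mul_mem (inv_mem hz) (inv_mem hy), ?_⟩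
    have h2 : ⁅x, w⁻¹⁆ = w⁻¹ * ⁅x, w⁆⁻¹ * w := by
      simp only [commutatorElement_def]; group
    rw [h2, hy']
    have h1 := H.c2.cen z hz _ (H.comm_mem hw)
    rw [h1]
    have h3 := H.c2.cen z⁻¹ (inv_mem hz) _ (inv_mem (H.comm_mem hw))
    rw [mul_inv_rev, h3]
    have h4 := H.c2.cen z⁻¹ (inv_mem hz) _ (inv_mem (H.comm_mem hw))
    rw [← h4]
    group

namespace HX

variable {r m : ℕ} {Z Q : Subgroup Y} {x : Y} (H : HX r m Z Q x)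

theorem mem_RQ {v : Y} : v ∈ RQ H ↔ ∃ w ∈ Q, ∃ z ∈ Z, v = z * ⁅x, w⁆ := Iff.rfl

theorem RQ_le : RQ H ≤ Q := by
  rintro _ ⟨w, hw, z, hz, rfl⟩
  exact mul_mem (H.c2.le hz) (H.comm_mem hw)

theorem Z_le_RQ : Z ≤ RQ H := fun z hz => ⟨1, one_mem _, z, hz, by simp⟩

theorem comm_mem_RQ {w : Y} (hw : w ∈ Q) : ⁅x, w⁆ ∈ RQ H := ⟨w, hw, 1, one_mem _, by simp⟩

theorem xRQ : ∀ y ∈ RQ H, x * y * x⁻¹ ∈ RQ H := by
  rintro _ ⟨w, hw, z, hz, rfl⟩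
  refine ⟨x * w * x⁻¹, H.xQ w hw, z, hz, ?_⟩
  have h1 : x * (z * ⁅x, w⁆) * x⁻¹ = (x * z * x⁻¹) * (x * ⁅x, w⁆ * x⁻¹) := by group
  rw [h1, H.conjZ hz]
  simp only [commutatorElement_def]
  group

theorem free {v : Y} (hv : v ∈ RQ H) (h : ⁅x, v⁆ ∈ Z) : v ∈ Z := by
  obtain ⟨w, hw, z, hz, hvz⟩ := hv
  refine H.mem_Z hw (inv_mem hz) (H.RQ_le ⟨w, hw, z, hz, hvz⟩) ?_ h
  rw [hvz]; group

/-- `V = C_V(x) + [V, x]` -/
theorem decomp [Finite Y] {w : Y} (hw : w ∈ Q) : ∃ c ∈ Q, ∃ v ∈ RQ H, x * c = c * x ∧ w = c * v := by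
  obtain ⟨v, hv, z, hz, h1⟩ := (H.c2.mono H.Z_le_RQ H.RQ_le).surj (g := x) H.xRQ
    (fun y hy => by rw [H.conjZ hy]; exact hy) (fun y hy h => H.free hy h) (H.comm_mem_RQ hw)
  have hvQ := H.RQ_le hv
  have hcQ : w * v⁻¹ ∈ Q := mul_mem hw (inv_mem hvQ)
  refine ⟨w * v⁻¹, hcQ, v, hv, ?_, by group⟩
  apply H.comm_of_mem hcQ
  have h2 : ⁅x, w * v⁻¹⁆ = ⁅x, w⁆ * ((w * v⁻¹) * (⁅x, v⁆)⁻¹ * (w * v⁻¹)⁻¹) := by
    simp only [commutatorElement_def]; group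
  rw [h2, h1]
  set c := ⁅x, w⁆
  set d := w * v⁻¹ with hd
  have h3 : c * (d * (z * c)⁻¹ * d⁻¹) = ⁅c, d⁆ * (d * z⁻¹ * d⁻¹) := by
    have h4 : (z * c)⁻¹ = c⁻¹ * z⁻¹ := mul_inv_rev _ _
    rw [h4, commutatorElement_def]
    group
  rw [h3]
  refine mul_mem (H.c2.com c (H.comm_mem hw) d hcQ) ?_
  have h4 := H.c2.cen z⁻¹ (inv_mem hz) d hcQ
  rw [← h4, mul_inv_cancel_right]
  exact inv_mem hz

/-- `C_V(x)` is orthogonal to `[V, x]`. -/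
theorem orth {c v : Y} (hc : c ∈ Q) (hxc : x * c = c * x) (hv : v ∈ RQ H) : ⁅c, v⁆ = 1 := by
  obtain ⟨w, hw, z, hz, rfl⟩ := hv
  rw [H.lin_z (H.comm_mem hw) hz hc]
  have h1 : ⁅x, w⁆ = (x * w * x⁻¹) * w⁻¹ := by rw [commutatorElement_def]
  rw [h1, H.lin (H.xQ w hw) (inv_mem hw) hc, H.lin_inv hw hc]
  have h2 : ⁅c, x * w * x⁻¹⁆ = x * ⁅c, w⁆ * x⁻¹ := by
    have h3 : x * ⁅c, w⁆ * x⁻¹ = ⁅x * c * x⁻¹, x * w * x⁻¹⁆ := by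
      simp only [commutatorElement_def]; group
    rw [h3, hxc, mul_inv_cancel_right]
  rw [h2, H.conjZ (H.c2.com c hc w hw), mul_inv_cancel]

/-- `[R, x] = R` -/
theorem commFull [Finite Y] (hne : ∃ v ∈ RQ H, v ∉ Z) : CommFull (RQ H) x := by
  refine (H.c2.mono H.Z_le_RQ H.RQ_le).commFull H.xRQ (fun y hy => by rw [H.conjZ hy]; exact hy)
    (fun y hy h => H.free hy h) ?_
  intro V hV hVZ z hz
  obtain ⟨v, hv, hvZ⟩ := hne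
  obtain ⟨b, hb, hbz⟩ := H.sur v (H.RQ_le hv) hvZ z hz
  obtain ⟨c, hc, v', hv', hxc, rfl⟩ := H.decomp hb
  have h1 : ⁅v, c * v'⁆ = ⁅v, v'⁆ := by
    rw [H.lin hc (H.RQ_le hv') (H.RQ_le hv), ← commutatorElement_inv, H.orth hc hxc hv, inv_one, one_mul]
  obtain ⟨v1, hv1, z1, hz1, e1⟩ := hVZ v hv
  obtain ⟨v2, hv2, z2, hz2, e2⟩ := hVZ v' hv'
  have h2 : ⁅v1, v2⁆ = ⁅v, v'⁆ := by
    rw [e1, e2, H.lin_z' (H.RQ_le hv) hz1 (mul_mem (H.c2.le hz2) (H.RQ_le hv')),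
      H.lin_z (H.RQ_le hv') hz2 (H.RQ_le hv)]
  rw [← hbz, h1, ← h2, commutatorElement_def]
  exact mul_mem (mul_mem (mul_mem hv1 hv2) (inv_mem hv1)) (inv_mem hv2)

theorem pairM [Finite Y] (hr : r.Prime) {p k M : ℕ} (hp : p.Prime) (hm : m = p ^ k) (hne : ∃ v ∈ RQ H, v ∉ Z)
    (hM : ∀ t : ℕ, t ≠ 0 → r ^ t ≡ 1 [MOD p] → M ≤ r ^ t) : PairM M x (RQ H) := by
  have h1 : IsPGroup r (RQ H) := H.rg.to_le H.RQ_le
  have hxm : x ^ p ^ k = 1 := hm ▸ H.xm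
  exact PairM.of_pGroup hp hr hxm h1 (norm_iff.2 H.xRQ) (H.commFull hne) hM

/-- If `x` does not centralise `Q`, then `[V, x] ≠ 0`. -/
theorem exists_ne (hx : ∃ w ∈ Q, x * w ≠ w * x) : ∃ v ∈ RQ H, v ∉ Z := by
  obtain ⟨w, hw, hne⟩ := hx
  refine ⟨⁅x, w⁆, H.comm_mem_RQ hw, fun h => hne (H.comm_of_mem hw h)⟩

end HX

end Cfsg.Agent.H400.Fpr
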