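import Cfsg.Agent.H400.FprNat
import Cfsg.Agent.H26.UFChev

/-!
# Fixed point ratios of `p`-elements: elements of root `SL₂`s (helper400, TEAM FPR)
-/

set_option autoImplicit false
set_option linter.unusedSectionVars false
set_option linter.unusedVariables false

namespace Cfsg.Agent.H400.Fpr

open scoped MatrixGroups
open Cfsg.Agent.ChevalleyStructure.SL2Hom (up lo)

theorem sq_eq_one_of_center {F : Type*} [Field F] {z : Matrix.SpecialLinearGroup (Fin 2) F}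
    (hz : z ∈ Subgroup.center (Matrix.SpecialLinearGroup (Fin 2) F)) : z ^ 2 = 1 := by
  obtain ⟨r, hr, hz'⟩ := Matrix.SpecialLinearGroup.mem_center_iff.1 hz
  rw [Fintype.card_fin] at hr
  apply Subtype.ext
  show (z ^ 2).1 = 1
  have h1 : (z ^ 2).1 = z.1 ^ 2 := rfl
  rw [h1, ← hz', ← map_pow, hr, map_one]

/-- A homomorphism from `SL₂(F)` which is injective on the root groups. -/
theorem exists_sl_elt {F : Type*} [Field F] [Finite F] {Y : Type*} [Group Y]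
    (s : Matrix.SpecialLinearGroup (Fin 2) F →* Y) (hup : ∀ t, s (up t) = 1 → t = 0)
    (hdis : ∀ a b : F, s (up a) = s (lo b) → a = 0 ∧ b = 0) {ℓ : ℕ} (hℓ : ℓ.Prime) (hℓ2 : ℓ ≠ 2)
    (hk : ¬ ℓ ∣ Nat.card F) (hd : ℓ ∣ Nat.card F ^ 2 - 1) : ∃ M, s M ^ ℓ = 1 ∧ s M ≠ 1 := by
  obtain ⟨M, h1, h2⟩ := exists_fpf_two hℓ hℓ2 hk hd
  refine ⟨M, by rw [← map_pow, h1, map_one], fun h => ?_⟩
  have h3 := sq_eq_one_of_center (Cfsg.Agent.H26.UFChev.ker_le_center s hup hdis h)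
  have h4 : M = 1 := by
    have hc : Nat.Coprime 2 ℓ := (Nat.coprime_primes Nat.prime_two hℓ).2 (Ne.symm hℓ2)
    have h5 : orderOf M ∣ Nat.gcd 2 ℓ := Nat.dvd_gcd (orderOf_dvd_of_pow_eq_one h3) (orderOf_dvd_of_pow_eq_one h1)
    rw [hc.gcd_eq_one] at h5
    exact orderOf_eq_one_iff.1 (Nat.dvd_one.1 h5)
  rw [h4] at h2
  have h5 := h2 ![1, 0] (by show (1 : Matrix (Fin 2) (Fin 2) F).mulVec _ = _; rw [Matrix.one_mulVec])
  have h6 := congrFun h5 0
  simp at h6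

end Cfsg.Agent.H400.Fpr
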