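import Cfsg.Agent.H400.FprD4D
import Cfsg.Agent.H400.FprSL
import Cfsg.Agent.H121.TwD4
import Cfsg.Agent.Nodes.RGDFoldSL
import Cfsg.Agent.Nodes.RGDTwNode

/-!
# Fixed point ratios of `p`-elements: `³D₄(q)`, primes dividing `q² + q + 1` (helper400, TEAM FPR)
-/

set_option autoImplicit false
set_option linter.unusedSectionVars false
set_option linter.unusedVariables false

namespace Cfsg.Agent.H400.Fpr.D4

open CoxeterSystem Cfsg.Agent.ChevalleyStructure.CoxeterGeom Cfsg.Agent.Tits.Roots Cfsg.Agent.Tits.Core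
  Cfsg.Agent.Nodes.Reps Cfsg.Agent.Nodes.BNOf Cfsg.Agent.Nodes.RGDTwGen Cfsg.Agent.Nodes.RGDChev Cfsg.Agent.Nodes.RGDFold
  Cfsg.Agent.Nodes.KindChev Cfsg.Agent.Nodes.Coroot Cfsg.Agent.Nodes.PosPair Cfsg.Agent.Nodes.LeviDec
  Cfsg.Agent.Nodes.StabComb Cfsg.Agent.Nodes.Bruhat Cfsg.Agent.Nodes.Unique
open Cfsg.Lie Cfsg.Agent.ChevalleyStructure
open Cfsg.Agent.ChevalleyStructure.TwistedU Cfsg.Agent.ChevalleyStructure.D4U
  Cfsg.Agent.ChevalleyStructure.D4Comm Cfsg.Agent.ChevalleyStructure.D4RGD Cfsg.Agent.ChevalleyStructure.D4Twisted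
open Cfsg.Agent.ChevalleyStructure.D4NConj (nR nR_def nG nG_def nG_conj hR hR_def)
open Cfsg.Agent.KFacts.Mult.D4Base (hT hT_conj hT_mem)
open Cfsg.Agent.H121.TwD4 (hT_c)
open Cfsg.Agent.Nodes.RGDTwD4 (A isCartan foldData hp)
open Cfsg.Agent.Hexagon.TwD4Par Cfsg.Agent.Hexagon.TwD4Rel
open Cfsg.Agent.SplitTwo
open Cfsg.Agent.Omega.EH3.Kf
open Cfsg.Agent.H400.TwoExc Cfsg.Agent.H400.TwoExc.TwD
open Cfsg.Agent.H398.FPR (CommFull UGood Pair)
open Cfsg.Agent.TitsThree.RankTwoZ (Maps)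
open Cfsg.Agent.Nodes.RGDFoldSL
open Cfsg.Agent.ChevalleyStructure.SL2Hom (up lo mem_closure_SL2)
open scoped commutatorElement MatrixGroups

universe u

section SL

variable {F : Type*} [Field F]

theorem hS_mul {c d : F} (hc : c ≠ 0) (hd : d ≠ 0) :
    (hS c : Matrix.SpecialLinearGroup (Fin 2) F) * hS d = hS (c * d) := by
  apply Subtype.ext
  change (hS c : Matrix.SpecialLinearGroup (Fin 2) F).1 * (hS d).1 = (hS (c * d)).1
  have h1 : (hS c : Matrix.SpecialLinearGroup (Fin 2) F).1 = !![c, 0; 0, c⁻¹] := coe_hS hc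
  have h2 : (hS d : Matrix.SpecialLinearGroup (Fin 2) F).1 = !![d, 0; 0, d⁻¹] := coe_hS hd
  have h3 : (hS (c * d) : Matrix.SpecialLinearGroup (Fin 2) F).1 = !![c * d, 0; 0, (c * d)⁻¹] :=
    coe_hS (mul_ne_zero hc hd)
  rw [h1, h2, h3]
  ext i j
  fin_cases i <;> fin_cases j <;> simp [mul_comm]

theorem hS_one : (hS 1 : Matrix.SpecialLinearGroup (Fin 2) F) = 1 := by
  apply Subtype.ext
  have h1 : (hS 1 : Matrix.SpecialLinearGroup (Fin 2) F).1 = !![1, 0; 0, 1⁻¹] := coe_hS one_ne_zero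
  rw [h1, inv_one]
  exact Matrix.one_fin_two.symm

theorem hS_pow {c : F} (hc : c ≠ 0) (i : ℕ) : (hS c : Matrix.SpecialLinearGroup (Fin 2) F) ^ i = hS (c ^ i) := by
  induction i with
  | zero => rw [pow_zero, pow_zero, hS_one]
  | succ i ih => rw [pow_succ, pow_succ, ih, hS_mul (pow_ne_zero i hc) hc]

end SL

variable {K : Type u} [Field K] [Fintype K] {q : ℕ} {φ : K →+* K}

section Nodes

variable (hφ : ∀ x, φ x = x ^ q) (hle : twistedD4 K q ≤ D4Fixed.fix φ)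

theorem hf (φ : K →+* K) (i : Fin 2) : ∀ s ∈ Nodes.RGDTwNode.D4.rep i :: Nodes.RGDTwNode.D4.rest i, ∀ t,
    ((Nodes.RGDTwD4.eps s : ℤ) : K) * φ t = φ t :=
  fun s hs t => by rw [Nodes.RGDTwNode.D4.eps_one i s hs, Int.cast_one, one_mul]

/-- the homomorphism of the node `i` -/
noncomputable def Ph (i : Fin 2) :
    Matrix.SpecialLinearGroup (Fin 2) (Fx φ ((Nodes.RGDTwNode.D4.rest i).length + 1)) →* ↥(twistedD4 K q) :=
  Phi (Nodes.RGDTwD4.foldGrp hφ hle) (Nodes.RGDTwNode.D4.nodeOK i) (hf φ i)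

theorem mem_X_Ph (i : Fin 2) (g : ↥(twistedD4 K q)) : g ∈ Nodes.RGDTwD4.X φ q (sr i) ↔ ∃ a, g = Ph hφ hle i (up a) :=
  mem_X_iff (Nodes.RGDTwD4.foldGrp hφ hle) (Nodes.RGDTwNode.D4.nodeOK i) (hf φ i) g

theorem Ph_wS (i : Fin 2) : Ph hφ hle i (wS 1) = Nodes.RGDTwD4.n hφ i :=
  Phi_wS (Nodes.RGDTwD4.foldGrp hφ hle) (Nodes.RGDTwNode.D4.nodeOK i) (hf φ i)

theorem Ph_up_lo (hK : Fintype.card K = q ^ 3) (i : Fin 2)
    (t : Fx φ ((Nodes.RGDTwNode.D4.rest i).length + 1)) : Ph hφ hle i (lo t) ∈ Nodes.RGDTwD4.X φ q (-sr i) := by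
  obtain ⟨p, hp'⟩ := CharP.exists K
  have : Fact p.Prime := ⟨CharP.char_is_prime K p⟩
  have R := Nodes.RGDTwD4.rgd (K := K) CoxeterMatrix.G₂.toCoxeterSystem hK hφ p
  have hcj : cj (Nodes.RGDTwD4.n hφ i) (Nodes.RGDTwD4.X φ q (sr i)) = Nodes.RGDTwD4.X φ q (-sr i) := by
    rw [R.conj i _ (isRoot_sr CoxeterMatrix.G₂.toCoxeterSystem Nodes.RGDTwD4.isCartan i), rep_simple_sr]
  rw [lo_eq, map_mul, map_mul, map_inv, Ph_wS, ← hcj]
  exact conj_mem_cj.2 ((mem_X_Ph hφ hle i _).2 ⟨_, rfl⟩)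

theorem Ph_mem (hK : Fintype.card K = q ^ 3) (i : Fin 2)
    (g : Matrix.SpecialLinearGroup (Fin 2) (Fx φ ((Nodes.RGDTwNode.D4.rest i).length + 1))) :
    Ph hφ hle i g ∈ Nodes.RGDTwD4.X φ q (sr i) ⊔ Nodes.RGDTwD4.X φ q (-sr i) := by
  have h1 : Subgroup.closure (Set.range (up (F := Fx φ ((Nodes.RGDTwNode.D4.rest i).length + 1))) ∪
      Set.range (lo (F := Fx φ ((Nodes.RGDTwNode.D4.rest i).length + 1)))) ≤
      (Nodes.RGDTwD4.X φ q (sr i) ⊔ Nodes.RGDTwD4.X φ q (-sr i)).comap (Ph hφ hle i) := by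
    refine (Subgroup.closure_le _).2 ?_
    rintro x (⟨t, rfl⟩ | ⟨t, rfl⟩)
    · exact Subgroup.mem_sup_left ((mem_X_Ph hφ hle i _).2 ⟨t, rfl⟩)
    · exact Subgroup.mem_sup_right (Ph_up_lo hφ hle hK i t)
  exact h1 (mem_closure_SL2 g)

theorem up_inj (i : Fin 2) {a b : Fx φ ((Nodes.RGDTwNode.D4.rest i).length + 1)}
    (h : Ph hφ hle i (up a) = Ph hφ hle i (up b)) : a = b :=
  Phi_up_injective (Nodes.RGDTwD4.foldGrp hφ hle) (Nodes.RGDTwNode.D4.nodeOK i) (hf φ i) h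

theorem up_zero {F : Type*} [Field F] : (up 0 : Matrix.SpecialLinearGroup (Fin 2) F) = 1 := by
  apply Subtype.ext
  show !![1, 0; 0, 1] = (1 : Matrix (Fin 2) (Fin 2) F)
  exact Matrix.one_fin_two.symm

theorem Ph_disj (hK : Fintype.card K = q ^ 3) (i : Fin 2) (a b : Fx φ ((Nodes.RGDTwNode.D4.rest i).length + 1))
    (h : Ph hφ hle i (up a) = Ph hφ hle i (lo b)) : a = 0 ∧ b = 0 := by
  obtain ⟨p, hp'⟩ := CharP.exists K
  have : Fact p.Prime := ⟨CharP.char_is_prime K p⟩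
  have hW : Finite CoxeterMatrix.G₂.Group := Nodes.RGDFold.finite_W (hp := Nodes.RGDTwD4.hp)
    CoxeterMatrix.G₂.toCoxeterSystem isCartan foldData
  have R := Nodes.RGDTwD4.rgd (K := K) CoxeterMatrix.G₂.toCoxeterSystem hK hφ p
  have h1 : Ph hφ hle i (lo b) ∈ Nodes.RGDTwD4.X φ q (-sr i) ⊓ RGD.B CoxeterMatrix.G₂.toCoxeterSystem isCartan
      (Nodes.RGDTwD4.T K q) (Nodes.RGDTwD4.X φ q) := by
    refine ⟨Ph_up_lo hφ hle hK i b, ?_⟩
    rw [← h]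
    exact RGD.X_le_B (isRoot_sr _ isCartan i) (sr_nonneg i) ((mem_X_Ph hφ hle i _).2 ⟨a, rfl⟩)
  rw [neg_inf_B R i, Subgroup.mem_bot] at h1
  have ha : a = 0 := by
    apply up_inj hφ hle i
    rw [h, h1, up_zero, map_one]
  refine ⟨ha, ?_⟩
  rw [lo_eq, map_mul, map_mul, map_inv, conj_eq_one_iff] at h1
  have h2 := up_inj hφ hle i (a := -b) (b := 0) (by rw [h1, up_zero, map_one])
  exact neg_eq_zero.1 h2

include hφ hle in
/-- an element of odd prime order in a rank one group -/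
theorem exists_elt (hK : Fintype.card K = q ^ 3) (i : Fin 2) {ℓ : ℕ} (hℓ : ℓ.Prime) (hℓ2 : ℓ ≠ 2)
    (hk : ¬ ℓ ∣ Nat.card (Fx φ ((Nodes.RGDTwNode.D4.rest i).length + 1)))
    (hd : ℓ ∣ Nat.card (Fx φ ((Nodes.RGDTwNode.D4.rest i).length + 1)) ^ 2 - 1) :
    ∃ x ∈ Nodes.RGDTwD4.X φ q (sr i) ⊔ Nodes.RGDTwD4.X φ q (-sr i), x ^ ℓ = 1 ∧ x ≠ 1 := by
  obtain ⟨M, h1, h2⟩ := exists_sl_elt (Ph hφ hle i) (fun t ht => up_inj hφ hle i (by rw [ht, up_zero, map_one]))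
    (Ph_disj hφ hle hK i) hℓ hℓ2 hk hd
  exact ⟨_, Ph_mem hφ hle hK i M, h1, h2⟩

/-! ### The torus of the short node -/

theorem hG_eq {r : ℕ} (hr : r < 24) (t : K) : Elts.hG hp.inList r t = hR r t := by
  rw [Elts.hG_def, Elts.nG_def, Elts.nG_def, hR_def, nR_def, nR_def, Nodes.RGDTwD4.xG_eq, D4NConj.neg_eq hr]

theorem mem_Fx3 (hK : Fintype.card K = q ^ 3) (hφ : ∀ x, φ x = x ^ q) (u : K) :
    u ∈ Fx φ ((Nodes.RGDTwNode.D4.rest 1).length + 1) := by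
  rw [mem_Fx]
  show φ (φ (φ u)) = u
  rw [hφ, hφ, hφ, ← pow_mul, ← pow_mul]
  have : q * (q * q) = q ^ 3 := by ring
  rw [this, ← hK]
  exact FiniteField.pow_card u

/-- the torus element `h_β(u)` -/
noncomputable def hβ (hK : Fintype.card K = q ^ 3) (u : K) : ↥(twistedD4 K q) :=
  Ph hφ hle 1 (hS ⟨u, mem_Fx3 hK hφ u⟩)

theorem coe_hβ (hK : Fintype.card K = q ^ 3) (u : K) :
    ((hβ hφ hle hK u : ↥(twistedD4 K q)) : GL chevD4.Idx K) = hb φ u := by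
  show Nodes.RGDFoldSL.Ph hp K (Nodes.RGDTwNode.D4.nodeOK 1) φ
    (Matrix.SpecialLinearGroup.map (Fx φ ((Nodes.RGDTwNode.D4.rest 1).length + 1)).subtype (hS ⟨u, _⟩)) = _
  rw [map_hS]
  show psi hp.inList K 18 (hS u) * (psi hp.inList K 13 (Matrix.SpecialLinearGroup.map φ (hS u)) *
    (psi hp.inList K 12 (Matrix.SpecialLinearGroup.map φ (Matrix.SpecialLinearGroup.map φ (hS u))) * 1)) = hb φ u
  rw [map_hS, map_hS, psi_hS hp.inList (by decide), psi_hS hp.inList (by decide), psi_hS hp.inList (by decide),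
    hG_eq (by norm_num), hG_eq (by norm_num), hG_eq (by norm_num), mul_one, ← mul_assoc]
  rfl

theorem hβ_pow (hK : Fintype.card K = q ^ 3) {u : K} (hu : u ≠ 0) {i : ℕ} (hi : u ^ i = 1) :
    hβ hφ hle hK u ^ i = 1 := by
  unfold hβ
  rw [← map_pow, hS_pow (fun h => hu (congrArg Subtype.val h))]
  have h1 : (⟨u, mem_Fx3 hK hφ u⟩ : Fx φ ((Nodes.RGDTwNode.D4.rest 1).length + 1)) ^ i = 1 := Subtype.ext hi
  rw [h1, hS_one, map_one]

omit [Fintype K] in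
theorem hR_one {r : ℕ} : (hR r 1 : GL chevD4.Idx K) = 1 := by
  rw [D4NConj.hR_eq, mul_inv_cancel]

omit [Fintype K] in
theorem hb_c {y : K} (hy : y ≠ 0) {r : ℕ} (hr : r < 24) {c1 c2 c3 c4 : ℤ}
    (h : (SparseHDiag.cartanRS chevD4 14 r, SparseHDiag.cartanRS chevD4 18 r, SparseHDiag.cartanRS chevD4 13 r,
      SparseHDiag.cartanRS chevD4 12 r) = (c1, c2, c3, c4)) (u : K) :
    hb φ y * xG r u * (hb φ y)⁻¹ = xG r (y ^ c2 * (φ y ^ c3 * (φ (φ y) ^ c4 * u))) := by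
  have h1 := hT_c (φ := φ) one_ne_zero hy hr h u
  unfold hT at h1
  rw [hR_one, one_mul, one_zpow, one_mul] at h1
  exact h1

variable {σ : K ≃+* K} (hσ : ∀ x, σ x = φ x)

include hσ

theorem hβ_x1 (hK : Fintype.card K = q ^ 3) {y : K} (hy : y ≠ 0) (a : K) :
    hβ hφ hle hK y * ev (X1 σ) a * (hβ hφ hle hK y)⁻¹ = ev (X1 σ) (y ^ 2 * a) := by
  apply Subtype.ext
  rw [Subgroup.coe_mul, Subgroup.coe_mul, Subgroup.coe_inv, coe_hβ, c1 hφ hσ, c1 hφ hσ, X1, X1, w3_eq, w3_eq, conj3,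
    hb_c hy (r := 18) (c1 := -1) (c2 := 2) (c3 := 0) (c4 := 0) (by norm_num) (by decide +kernel),
    hb_c hy (r := 13) (c1 := -1) (c2 := 0) (c3 := 2) (c4 := 0) (by norm_num) (by decide +kernel),
    hb_c hy (r := 12) (c1 := -1) (c2 := 0) (c3 := 0) (c4 := 2) (by norm_num) (by decide +kernel)]
  simp only [pow_zero, one_mul, zpow_ofNat, hσ, map_mul, map_pow]

theorem hβ_x5 (hK : Fintype.card K = q ^ 3) {y : K} (hN : y * φ y * φ (φ y) = 1) (a : K) :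
    hβ hφ hle hK y * ev (X5 σ) a * (hβ hφ hle hK y)⁻¹ = ev (X5 σ) (y ^ 2 * a) := by
  have hy : y ≠ 0 := by
    rintro rfl
    simp at hN
  have hy1 : φ y ≠ 0 := (map_ne_zero φ).2 hy
  have hy2 : φ (φ y) ≠ 0 := (map_ne_zero φ).2 hy1
  apply Subtype.ext
  rw [Subgroup.coe_mul, Subgroup.coe_mul, Subgroup.coe_inv, coe_hβ, c5 hφ hσ, c5 hφ hσ, X5, X5, w3_eq, w3_eq, conj3,
    hb_c hy (r := 19) (c1 := 1) (c2 := 1) (c3 := -1) (c4 := -1) (by norm_num) (by decide +kernel),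
    hb_c hy (r := 16) (c1 := 1) (c2 := -1) (c3 := 1) (c4 := -1) (by norm_num) (by decide +kernel),
    hb_c hy (r := 15) (c1 := 1) (c2 := -1) (c3 := -1) (c4 := 1) (by norm_num) (by decide +kernel)]
  simp only [zpow_neg_one, zpow_one, hσ, map_mul, map_pow]
  congr 2
  · field_simp
    linear_combination (-a) * hN
  · congr 1
    field_simp
    linear_combination (φ a) * hN
  · congr 1
    field_simp
    linear_combination (φ (φ a)) * hN

end Nodes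

end Cfsg.Agent.H400.Fpr.D4
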