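import Cfsg.Agent.H400.FprD4F

/-!
# Fixed point ratios of `p`-elements: `³D₄(q)`, primes dividing `q² - q + 1` (helper400, TEAM FPR)
-/

set_option autoImplicit false
set_option linter.unusedSectionVars false
set_option linter.unusedVariables false

namespace Cfsg.Agent.H400.Fpr.D4

open CoxeterSystem Cfsg.Agent.ChevalleyStructure.CoxeterGeom Cfsg.Agent.Tits.Roots Cfsg.Agent.Tits.Core
  Cfsg.Agent.Nodes.Reps Cfsg.Agent.Nodes.BNOf Cfsg.Agent.Nodes.RGDTwGen Cfsg.Agent.Nodes.RGDChev Cfsg.Agent.Nodes.RGDFold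
  Cfsg.Agent.Nodes.KindChev Cfsg.Agent.Nodes.Coroot Cfsg.Agent.Nodes.PosPair Cfsg.Agent.Nodes.LeviDec
  Cfsg.Agent.Nodes.StabComb Cfsg.Agent.Nodes.Bruhat Cfsg.Agent.Nodes.Unique
open Cfsg.Lie Cfsg.Agent.ChevalleyStructure
open Cfsg.Agent.ChevalleyStructure.TwistedU Cfsg.Agent.ChevalleyStructure.D4U
  Cfsg.Agent.ChevalleyStructure.D4Comm Cfsg.Agent.ChevalleyStructure.D4RGD Cfsg.Agent.ChevalleyStructure.D4Twisted
open Cfsg.Agent.ChevalleyStructure.D4NConj (nR nR_def nG nG_def nG_conj hR hR_def)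
open Cfsg.Agent.ChevalleyStructure.D4HConj (hR_conj)
open Cfsg.Agent.ChevalleyStructure.SparseHDiag (cartanRS)
open Cfsg.Agent.Nodes.RGDTwD4 (A isCartan foldData hp)
open Cfsg.Agent.Hexagon.TwD4Par Cfsg.Agent.Hexagon.TwD4Rel
open Cfsg.Agent.SplitTwo
open Cfsg.Agent.Omega.EH3.Kf
open Cfsg.Agent.H400.TwoExc Cfsg.Agent.H400.TwoExc.TwD
open Cfsg.Agent.H398.FPR (CommFull UGood Pair)
open Cfsg.Agent.Nodes.RGDFoldSL
open scoped commutatorElement MatrixGroups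

universe u

variable {K : Type u} [Field K] [Fintype K] {q : ℕ} {φ : K →+* K}

section

variable (hφ : ∀ x, φ x = x ^ q) (hle : twistedD4 K q ≤ D4Fixed.fix φ) {σ : K ≃+* K} (hσ : ∀ x, σ x = φ x)

include hφ

theorem x9_tw {t : K} (ht : φ t = t) : xG 9 t ∈ twistedD4 K q := by
  rw [← xU_eq]
  exact D4Fixed.x9_mem (by rw [← hφ]; exact ht)

theorem x0_tw {t : K} (ht : φ t = t) : xG 0 t ∈ twistedD4 K q := by
  have h1 : nb K * xG 9 t * (nb K)⁻¹ ∈ twistedD4 K q :=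
    mul_mem (mul_mem (nb_mem hφ) (x9_tw hφ ht)) (inv_mem (nb_mem hφ))
  have h2 := mul_mem (mul_mem (na_mem hφ) h1) (inv_mem (na_mem hφ))
  have h3 : na K * (nb K * xG 9 t * (nb K)⁻¹) * (na K)⁻¹ = xG 0 t ∨
      na K * (nb K * xG 9 t * (nb K)⁻¹) * (na K)⁻¹ = xG 0 (-t) := by
    rw [nb_c (s := 9) (s1 := 8) (s2 := 6) (s3 := 1) (e1 := 1) (e2 := 1) (e3 := -1) (by norm_num) (by norm_num)
      (by norm_num) (by decide +kernel) (by decide +kernel) (by decide +kernel),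
      na_c (s := 1) (s' := 0) (e := 1) (by norm_num) (by decide +kernel)]
    simp
  rcases h3 with h3 | h3
  · rwa [h3] at h2
  · rw [h3, D4Comm.xG_neg] at h2
    have := inv_mem h2
    rwa [inv_inv] at this

include hσ

theorem x23_tw {t : K} (ht : φ t = t) : xG 23 t ∈ twistedD4 K q := by
  have h1 := X4_mem hφ hσ (t := -t) (by rw [map_neg, hσ, ht])
  rw [X4, w1_eq, neg_neg] at h1
  exact h1

include hle in
theorem x23_X {t : K} (ht : φ t = t) :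
    (⟨xG 23 t, x23_tw hφ hσ ht⟩ : ↥(twistedD4 K q)) ∈ Nodes.RGDTwD4.X φ q (toV [2, 3]) := by
  rw [X4' hle]
  rw [Hexagon.TwD4RGD.mem_X]
  exact mem_rspan xG (S := {k | k ∈ Hexagon.TwD4RGD.L 4}) (by
    show 23 ∈ Hexagon.TwD4RGD.L 4
    decide +kernel) _

omit hφ hσ in
theorem cls_m23 : ∀ k < chevD4.nroots, (V chevD4 Nodes.RGDTwD4.J k = -toV [2, 3] ↔ k ∈ [0]) := by decide +kernel

omit hσ in
include hle in
theorem x0_X {t : K} (ht : φ t = t) :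
    (⟨xG 0 t, x0_tw hφ ht⟩ : ↥(twistedD4 K q)) ∈ Nodes.RGDTwD4.X φ q (-toV [2, 3]) := by
  show xG 0 t ∈ R chevD4 hp K Nodes.RGDTwD4.J (D4Fixed.sig φ) (-toV [2, 3])
  rw [R_eq cls_m23 (by decide +kernel), Nodes.RGDTwD4.xG_eq, Nodes.RGDTwD4.fixS_eq]
  exact ⟨mem_rspan xG (S := {k | k ∈ [0]}) (by simp) _, hle (x0_tw hφ ht)⟩

theorem hr_tw {t : K} (ht : φ t = t) : hR 23 t ∈ twistedD4 K q := by
  have h1 : φ (-t⁻¹) = -t⁻¹ := by rw [map_neg, map_inv₀, ht]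
  have h2 : φ (-1 : K) = -1 := by rw [map_neg, map_one]
  have h3 : φ (-(-1 : K)⁻¹) = -(-1 : K)⁻¹ := by rw [map_neg, map_inv₀, h2]
  rw [hR_def, nR_def, nR_def]
  exact mul_mem (mul_mem (x23_tw hφ hσ ht) (mul_mem (x0_tw hφ h1) (x23_tw hφ hσ ht)))
    (mul_mem (x23_tw hφ hσ h2) (mul_mem (x0_tw hφ h3) (x23_tw hφ hσ h2)))

include hle in
theorem hr_mem {t : K} (ht : φ t = t) : (⟨hR 23 t, hr_tw hφ hσ ht⟩ : ↥(twistedD4 K q)) ∈
    Nodes.RGDTwD4.X φ q (toV [2, 3]) ⊔ Nodes.RGDTwD4.X φ q (-toV [2, 3]) := by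
  have h1 : φ (-t⁻¹) = -t⁻¹ := by rw [map_neg, map_inv₀, ht]
  have h2 : φ (-1 : K) = -1 := by rw [map_neg, map_one]
  have h3 : φ (-(-1 : K)⁻¹) = -(-1 : K)⁻¹ := by rw [map_neg, map_inv₀, h2]
  have e : (⟨hR 23 t, hr_tw hφ hσ ht⟩ : ↥(twistedD4 K q)) =
      (⟨xG 23 t, x23_tw hφ hσ ht⟩ * (⟨xG 0 (-t⁻¹), x0_tw hφ h1⟩ * ⟨xG 23 t, x23_tw hφ hσ ht⟩)) *
      (⟨xG 23 (-1), x23_tw hφ hσ h2⟩ * (⟨xG 0 (-(-1 : K)⁻¹), x0_tw hφ h3⟩ * ⟨xG 23 (-1), x23_tw hφ hσ h2⟩)) := by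
    apply Subtype.ext
    show hR 23 t = _
    rw [hR_def, nR_def, nR_def]
    rfl
  rw [e]
  exact mul_mem (mul_mem (Subgroup.mem_sup_left (x23_X hφ hle hσ ht))
      (mul_mem (Subgroup.mem_sup_right (x0_X hφ hle h1)) (Subgroup.mem_sup_left (x23_X hφ hle hσ ht))))
    (mul_mem (Subgroup.mem_sup_left (x23_X hφ hle hσ h2))
      (mul_mem (Subgroup.mem_sup_right (x0_X hφ hle h3)) (Subgroup.mem_sup_left (x23_X hφ hle hσ h2))))

omit hφ hσ in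
theorem hr_c {t : K} (ht0 : t ≠ 0) {r : ℕ} (hr : r < 24) (h : cartanRS chevD4 23 r = 1) (a : K) :
    hR 23 t * xG r a * (hR 23 t)⁻¹ = xG r (t * a) := by
  rw [hR_conj (by norm_num) hr ht0, h, zpow_one]

/-- the action of `h_r(t)` on the root groups of level one -/
theorem hr_x2 {t : K} (ht : φ t = t) (ht0 : t ≠ 0) {a : K} (ha : σ a = a) :
    (⟨hR 23 t, hr_tw hφ hσ ht⟩ : ↥(twistedD4 K q)) * ev X2 a * (⟨hR 23 t, hr_tw hφ hσ ht⟩)⁻¹ = ev X2 (t * a) := by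
  apply Subtype.ext
  rw [Subgroup.coe_mul, Subgroup.coe_mul, Subgroup.coe_inv, c2 hφ hσ ha,
    c2 hφ hσ (by rw [map_mul, ha, hσ, ht]), X2, X2, w1_eq, w1_eq,
    hr_c ht0 (by norm_num) (by decide +kernel)]

theorem hr_x6 {t : K} (ht : φ t = t) (ht0 : t ≠ 0) {a : K} (ha : σ a = a) :
    (⟨hR 23 t, hr_tw hφ hσ ht⟩ : ↥(twistedD4 K q)) * ev X6 a * (⟨hR 23 t, hr_tw hφ hσ ht⟩)⁻¹ = ev X6 (t * a) := by
  apply Subtype.ext
  rw [Subgroup.coe_mul, Subgroup.coe_mul, Subgroup.coe_inv, c6 hφ hσ ha,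
    c6 hφ hσ (by rw [map_mul, ha, hσ, ht]), X6, X6, w1_eq, w1_eq,
    hr_c ht0 (by norm_num) (by decide +kernel)]

theorem hr_x3 {t : K} (ht : φ t = t) (ht0 : t ≠ 0) (a : K) :
    (⟨hR 23 t, hr_tw hφ hσ ht⟩ : ↥(twistedD4 K q)) * ev (X3 σ) a * (⟨hR 23 t, hr_tw hφ hσ ht⟩)⁻¹ =
      ev (X3 σ) (t * a) := by
  apply Subtype.ext
  rw [Subgroup.coe_mul, Subgroup.coe_mul, Subgroup.coe_inv, c3 hφ hσ, c3 hφ hσ, X3, X3, w3_eq, w3_eq, conj3,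
    hr_c ht0 (by norm_num) (by decide +kernel), hr_c ht0 (by norm_num) (by decide +kernel),
    hr_c ht0 (by norm_num) (by decide +kernel)]
  simp only [hσ, map_mul, ht, mul_neg]

theorem hr_x5 {t : K} (ht : φ t = t) (ht0 : t ≠ 0) (a : K) :
    (⟨hR 23 t, hr_tw hφ hσ ht⟩ : ↥(twistedD4 K q)) * ev (X5 σ) a * (⟨hR 23 t, hr_tw hφ hσ ht⟩)⁻¹ =
      ev (X5 σ) (t * a) := by
  apply Subtype.ext
  rw [Subgroup.coe_mul, Subgroup.coe_mul, Subgroup.coe_inv, c5 hφ hσ, c5 hφ hσ, X5, X5, w3_eq, w3_eq, conj3,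
    hr_c ht0 (by norm_num) (by decide +kernel), hr_c ht0 (by norm_num) (by decide +kernel),
    hr_c ht0 (by norm_num) (by decide +kernel)]
  simp only [hσ, map_mul, ht, mul_neg]

theorem hr_x4 {t : K} (ht : φ t = t) (ht0 : t ≠ 0) {a : K} (ha : σ a = a) :
    (⟨hR 23 t, hr_tw hφ hσ ht⟩ : ↥(twistedD4 K q)) * ev X4 a * (⟨hR 23 t, hr_tw hφ hσ ht⟩)⁻¹ =
      ev X4 (t ^ 2 * a) := by
  apply Subtype.ext
  rw [Subgroup.coe_mul, Subgroup.coe_mul, Subgroup.coe_inv, c4 hφ hσ ha,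
    c4 hφ hσ (by rw [map_mul, map_pow, ha, hσ, ht]), X4, X4, w1_eq, w1_eq,
    hR_conj (by norm_num) (by norm_num) ht0, (by decide +kernel : cartanRS chevD4 23 23 = 2), mul_neg,
    show (2 : ℤ) = ((2 : ℕ) : ℤ) from rfl, zpow_natCast]

end

end Cfsg.Agent.H400.Fpr.D4
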