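import Cfsg.Agent.H400.FprD4G
import Cfsg.Agent.H400.FprOne
import Cfsg.Agent.H400.FprArith

/-!
# Fixed point ratios of `p`-elements: `³D₄(q)`, primes dividing `q² - q + 1` and `q - 1` (helper400, TEAM FPR)
-/

set_option autoImplicit false
set_option linter.unusedSectionVars false
set_option linter.unusedVariables false

namespace Cfsg.Agent.H400.Fpr.D4

open CoxeterSystem Cfsg.Agent.ChevalleyStructure.CoxeterGeom Cfsg.Agent.Tits.Roots Cfsg.Agent.Tits.Core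
  Cfsg.Agent.Nodes.Reps Cfsg.Agent.Nodes.BNOf Cfsg.Agent.Nodes.RGDTwGen Cfsg.Agent.Nodes.RGDChev Cfsg.Agent.Nodes.RGDFold
  Cfsg.Agent.Nodes.KindChev Cfsg.Agent.Nodes.Coroot Cfsg.Agent.Nodes.PosPair Cfsg.Agent.Nodes.LeviDec
  Cfsg.Agent.Nodes.StabComb Cfsg.Agent.Nodes.Bruhat Cfsg.Agent.Nodes.Unique
open Cfsg.Lie Cfsg.Agent.ChevalleyStructure
open Cfsg.Agent.ChevalleyStructure.TwistedU Cfsg.Agent.ChevalleyStructure.D4U
  Cfsg.Agent.ChevalleyStructure.D4Comm Cfsg.Agent.ChevalleyStructure.D4RGD Cfsg.Agent.ChevalleyStructure.D4Twisted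
open Cfsg.Agent.ChevalleyStructure.D4NConj (nR nR_def nG nG_def nG_conj hR hR_def)
open Cfsg.Agent.ChevalleyStructure.D4HConj (hR_conj)
open Cfsg.Agent.ChevalleyStructure.SparseHDiag (cartanRS)
open Cfsg.Agent.Nodes.RGDTwD4 (A isCartan foldData hp)
open Cfsg.Agent.Hexagon.TwD4Par Cfsg.Agent.Hexagon.TwD4Rel
open Cfsg.Agent.SplitTwo
open Cfsg.Agent.Omega.EH3.Kf
open Cfsg.Agent.H400.TwoExc Cfsg.Agent.H400.TwoExc.TwD
open Cfsg.Agent.H398.FPR (CommFull UGood Pair)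
open Cfsg.Agent.Nodes.RGDFoldSL
open scoped commutatorElement MatrixGroups

universe u

variable {K : Type u} [Field K] [Fintype K] {q : ℕ} {φ : K →+* K}

section

variable {W : Type*} [Group W] [Finite W] {cs : CoxeterSystem CoxeterMatrix.G₂ W}

/-- the action of `h_r(t)` on the root groups `X s`, `s ∈ Gt r` -/
theorem spar (hφ : ∀ x, φ x = x ^ q) (hle : twistedD4 K q ≤ D4Fixed.fix φ) {σ : K ≃+* K} (hσ : ∀ x, σ x = φ x)
    (P : HexPar σ (Hexagon.TwD4RGD.X K q) (ev (X1 σ)) (ev X2) (ev (X3 σ)) (ev X4) (ev (X5 σ)) (ev X6))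
    {t : K} (ht : φ t = t) (ht0 : t ≠ 0) {s : Fin 2 → ℤ} (hs : s ∈ Gt cs isCartan (toV [2, 3])) (hsr : s ≠ toV [2, 3]) :
    SPar (Nodes.RGDTwD4.X φ q s) (⟨hR 23 t, hr_tw hφ hσ ht⟩ : ↥(twistedD4 K q)) t := by
  have htF : t ∈ Fk σ := mem_Fk.2 (by rw [hσ, ht])
  rcases gt_cases hs hsr with rfl | rfl | rfl | rfl
  · rw [X2' hle]
    exact ⟨Fk σ, ev X2, htF, fun u => by rw [P.mem2]; rfl, fun a ha b hb => P.rel.add2 a b ha hb,
      fun a ha b hb => P.inj2 a b ha hb, fun a ha => hr_x2 hφ hσ ht ht0 ha⟩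
  · rw [X3' hle]
    exact ⟨⊤, ev (X3 σ), Subfield.mem_top _, fun u => by rw [P.mem3]; simp, fun a _ b _ => P.rel.add3 a b,
      fun a _ b _ => P.inj3 a b, fun a _ => hr_x3 hφ hσ ht ht0 a⟩
  · rw [X5' hle]
    exact ⟨⊤, ev (X5 σ), Subfield.mem_top _, fun u => by rw [P.mem5]; simp, fun a _ b _ => P.rel.add5 a b,
      fun a _ b _ => P.inj5 a b, fun a _ => hr_x5 hφ hσ ht ht0 a⟩
  · rw [X6' hle]
    exact ⟨Fk σ, ev X6, htF, fun u => by rw [P.mem6]; rfl, fun a ha b hb => P.rel.add6 a b ha hb,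
      fun a ha b hb => P.inj6 a b ha hb, fun a ha => hr_x6 hφ hσ ht ht0 ha⟩

theorem spar_r (hφ : ∀ x, φ x = x ^ q) (hle : twistedD4 K q ≤ D4Fixed.fix φ) {σ : K ≃+* K} (hσ : ∀ x, σ x = φ x)
    (P : HexPar σ (Hexagon.TwD4RGD.X K q) (ev (X1 σ)) (ev X2) (ev (X3 σ)) (ev X4) (ev (X5 σ)) (ev X6))
    {t : K} (ht : φ t = t) (ht0 : t ≠ 0) :
    SPar (Nodes.RGDTwD4.X φ q (toV [2, 3])) (⟨hR 23 t, hr_tw hφ hσ ht⟩ : ↥(twistedD4 K q)) (t ^ 2) := by
  rw [X4' hle]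
  exact ⟨Fk σ, ev X4, pow_mem (mem_Fk.2 (by rw [hσ, ht])) 2, fun u => by rw [P.mem4]; rfl,
    fun a ha b hb => P.rel.add4 a b ha hb, fun a ha b hb => P.inj4 a b ha hb, fun a ha => hr_x4 hφ hσ ht ht0 ha⟩

theorem card_QQ4 (hK : Fintype.card K = q ^ 3) (hφ : ∀ x, φ x = x ^ q) (hq1 : 1 < q) (p : ℕ) [Fact p.Prime]
    [CharP K p] : Nat.card (QQ cs isCartan (Nodes.RGDTwD4.X φ q) (toV [2, 3])) = q ^ 9 := by
  have hc := card_QQ (Nodes.RGDTwD4.rgd cs hK hφ p) (pr cs).1 (gr (cs := cs)).hd (gr (cs := cs)).rr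
    (by decide +kernel) ((gr (cs := cs)).hdr) (q := q) eG2t
    (fun t ht => card_X (cs := cs) p hK hφ hq1 ((pr cs).1.isRoot ht))
  rw [hc]
  congr 1

end

theorem exists_pow (hK : Fintype.card K = q ^ 3) (p : ℕ) [Fact p.Prime] [CharP K p] : ∃ f, q = p ^ f := by
  have hp : p.Prime := Fact.out
  obtain ⟨n, -, hn⟩ := FiniteField.card K p
  have h1 : q ∣ p ^ (n : ℕ) := by
    rw [← hn, hK]; exact dvd_pow_self q (by norm_num)
  obtain ⟨f, -, hf⟩ := (Nat.dvd_prime_pow hp).1 h1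
  exact ⟨f, hf⟩

/-- a generator of the multiplicative group of the fixed field -/
theorem exists_gen {σ : K ≃+* K} (hc : Nat.card (Fk σ) = q) (hq : 1 < q) :
    ∃ t : K, σ t = t ∧ t ≠ 0 ∧ orderOf t = q - 1 := by
  have : Finite (Fk σ) := inferInstance
  obtain ⟨g, hg⟩ := IsCyclic.exists_generator (α := (Fk σ)ˣ)
  have h1 : orderOf g = q - 1 := by
    rw [orderOf_eq_card_of_forall_mem_zpowers hg, Nat.card_units, hc]
  refine ⟨((g : Fk σ) : K), (g : Fk σ).2, fun h => g.ne_zero (Subtype.ext h), ?_⟩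
  rw [← h1, ← orderOf_units, ← orderOf_injective (Fk σ).subtype.toMonoidHom (Fk σ).subtype.injective]
  rfl

theorem isPGroup_QQ {W : Type*} [Group W] [Finite W] {cs : CoxeterSystem CoxeterMatrix.G₂ W}
    (hK : Fintype.card K = q ^ 3) (hφ : ∀ x, φ x = x ^ q) (hq1 : 1 < q) (p : ℕ) [Fact p.Prime]
    [CharP K p] : IsPGroup p (QQ cs isCartan (Nodes.RGDTwD4.X φ q) (toV [2, 3])) := by
  obtain ⟨f, hf⟩ := exists_pow hK p
  refine isPGroup_of_card (f := f) (m := 9) Fact.out ?_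
  rw [card_QQ4 hK hφ hq1 p, hf]

/-- **`³D₄(q)`, primes dividing `q² - q + 1`.** -/
theorem good_six (hs : IsSimpleGroup ↥(twistedD4 K q)) (hcen : Subgroup.center ↥(twistedD4 K q) = ⊥)
    (hK : Fintype.card K = q ^ 3) (hφ : ∀ x, φ x = x ^ q)
    (hq2 : 2 < q) (p : ℕ) [Fact p.Prime] [CharP K p] {ℓ : ℕ} (hℓ : ℓ.Prime) (hℓ2 : ℓ ≠ 2) (hℓ3 : ℓ ≠ 3)
    (hℓp : ℓ ≠ p) (hd : ℓ ∣ q ^ 2 - q + 1) : Cfsg.Agent.H398.FPR.Good 1 (ℓ + 1) ℓ ↥(twistedD4 K q) := by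
  obtain ⟨σ, hσ, hB, P⟩ := exists_sigma hK hφ
  let cs : CoxeterSystem CoxeterMatrix.G₂ _ := CoxeterMatrix.G₂.toCoxeterSystem
  have hW : Finite CoxeterMatrix.G₂.Group := Nodes.RGDFold.finite_W (hp := Nodes.RGDTwD4.hp) cs isCartan foldData
  have R := Nodes.RGDTwD4.rgd cs hK hφ p
  have hG1 := Nodes.RGDTwD4.G1_eq_top cs hK hφ
  have hle := D4Fixed.twisted_le_fix hK hφ
  have : Fact ℓ.Prime := ⟨hℓ⟩
  have hp : p.Prime := Fact.out
  have hq1 : 1 < q := by omega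
  have H := (gi (cs := cs) p hK hφ).hs
  have hfin : Finite ↥(twistedD4 K q) := inferInstance
  -- the scalar element
  obtain ⟨t, ht, ht0, hto⟩ := exists_gen (natCard_Fk hK hφ hσ hq1) hq1
  have htφ : φ t = t := by rw [← hσ, ht]
  have S : ScR R (toV [2, 3]) q (⟨hR 23 t, hr_tw hφ hσ htφ⟩ : ↥(twistedD4 K q)) :=
    scR_of_par hq2 (hr_mem hφ hle hσ htφ) (fun s hs hsr => spar hφ hle hσ P htφ ht0 hs hsr)
      (spar_r hφ hle hσ P htφ ht0) (fun i hi hiq h1 => by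
        have := Nat.le_of_dvd hi (orderOf_dvd_of_pow_eq_one h1)
        omega)
  -- the element of order `ℓ`
  have hcF : Nat.card (Fx φ ((Nodes.RGDTwNode.D4.rest 1).length + 1)) = q ^ 3 := by
    rw [← hK, ← Nat.card_eq_fintype_card]
    exact Nat.card_congr (Equiv.subtypeUnivEquiv fun u => mem_Fx3 hK hφ u)
  have hℓq : ¬ ℓ ∣ q := by
    intro h1
    have h2 : q ^ 2 - q + 1 = q * (q - 1) + 1 := by
      obtain ⟨m, rfl⟩ : ∃ m, q = m + 1 := ⟨q - 1, by omega⟩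
      have e : (m + 1) ^ 2 = (m + 1) * m + (m + 1) := by ring
      rw [e, Nat.add_sub_cancel, Nat.add_sub_cancel]
    rw [h2] at hd
    have h3 := (Nat.dvd_add_right (h1.mul_right _)).1 hd
    exact hℓ.one_lt.ne' (Nat.dvd_one.1 h3)
  obtain ⟨x, hx, hxℓ, hx1⟩ := exists_elt hφ hle hK 1 hℓ hℓ2 (by
    rw [hcF]; exact fun h1 => hℓq (hℓ.dvd_of_dvd_pow h1)) (by
    rw [hcF]
    refine hd.trans ⟨(q + 1) * (q ^ 3 - 1), ?_⟩
    have h1 : 1 ≤ q ^ 3 := Nat.one_le_pow _ _ (by omega)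
    have h2 : q ≤ q ^ 2 := by nlinarith
    zify [h1, h2, (Nat.one_le_pow 2 (q ^ 3) (by positivity) : 1 ≤ (q ^ 3) ^ 2)]
    ring)
  have hxL : x ∈ L0 cs isCartan (Nodes.RGDTwD4.X φ q) (toV [2, 3]) := by
    have hc : cpr cs isCartan (sr 1) (toV [2, 3]) = 0 :=
      cpr_val (gr (cs := cs)).hd (gr (cs := cs)).rr (by decide +kernel) (by decide +kernel)
    have hr := isRoot_sr cs isCartan 1
    refine (sup_le ?_ ?_ : Nodes.RGDTwD4.X φ q (sr 1) ⊔ Nodes.RGDTwD4.X φ q (-sr 1) ≤ _) hx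
    · exact RGD.le_Sup (S := {s | IsRoot cs isCartan s ∧ cpr cs isCartan s (toV [2, 3]) = 0}) ⟨hr, hc⟩
    · refine RGD.le_Sup (S := {s | IsRoot cs isCartan s ∧ cpr cs isCartan s (toV [2, 3]) = 0}) ⟨hr.neg, ?_⟩
      rw [← neg_one_smul ℤ (sr 1), cpr_smul cs isCartan _ _ (gr (cs := cs)).rr, hc, mul_zero]
  -- arithmetic
  obtain ⟨a, ha⟩ := exists_pow hK p
  obtain ⟨b, hb, -, hM⟩ := exists_base (e := 6) hp hℓ hℓp (a := a) (by
    rw [← ha]; exact orderOf_six hℓ hℓ2 hℓ3 hd (by omega))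
  set s := p ^ b with hs'
  have h0 := phi_six hℓ hb
  have hs2 : 2 < s := by
    by_contra h1
    have h2 : s = 0 ∨ s = 1 ∨ s = 2 := by omega
    rcases h2 with h2 | h2 | h2
    · rw [h2] at h0; simp at h0
    · rw [h2] at h0; simp at h0
    · rw [h2] at h0
      have h3 : ((3 : ℕ) : ZMod ℓ) = 0 := by push_cast; push_cast at h0; linear_combination h0
      rw [ZMod.natCast_eq_zero_iff] at h3
      exact hℓ3 ((Nat.prime_dvd_prime_iff_eq hℓ Nat.prime_three).1 h3)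
  have hle1 : (ℓ : ℤ) ≤ (s : ℤ) ^ 2 - s + 1 := by
    refine le_of_zmod (by nlinarith) ?_
    push_cast
    exact h0
  have hcr := card_X (cs := cs) p hK hφ hq1 (gr (cs := cs)).rr
  have he1 : eG2t (toV [2, 3]) = 1 := by decide +kernel
  rw [he1, pow_one] at hcr
  have key := heis_rgd (D := 8) (k := 1) (M' := s ^ 6) H hs hcen hG1 S hℓ hℓp hxL (by rw [pow_one]; exact hxℓ) hx1
    (isPGroup_QQ hK hφ hq1 p) (by
      rw [card_QQ4 hK hφ hq1 p, hcr, ← pow_succ]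
      exact Nat.pow_lt_pow_right hq1 (by norm_num)) hM (Nat.one_le_pow _ _ (by omega))
  refine good_of_uGood (k := 1) hℓ (by rw [pow_one]; exact hxℓ) key ?_
  zify
  have hs3 : (3 : ℤ) ≤ s := by exact_mod_cast hs2
  have h6 : (s : ℤ) ^ 6 ≥ 81 * (s : ℤ) ^ 2 := by
    have h4 : (81 : ℤ) ≤ (s : ℤ) ^ 4 := by
      calc (81 : ℤ) = 3 ^ 4 := by norm_num
        _ ≤ (s : ℤ) ^ 4 := by gcongr
    nlinarith [sq_nonneg (s : ℤ)]
  nlinarith

theorem diag_mem {t : K} (ht0 : t ≠ 0) (ht : hR 23 t ∈ twistedD4 K q) :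
    (⟨hR 23 t, ht⟩ : ↥(twistedD4 K q)) ∈ Nodes.RGDTwD4.T K q :=
  ⟨hR_mem (by norm_num) ht0, ht⟩

omit [Fintype K] in
theorem hR_pow_one {t : K} (ht0 : t ≠ 0) {i : ℕ} (hi : t ^ i = 1) : (hR 23 t : GL chevD4.Idx K) ^ i = 1 := by
  have h1 : ∀ j : ℕ, (hR 23 t : GL chevD4.Idx K) ^ j = D4NConj.torG fun i => (Units.mk0 t ht0 ^ j) ^ D4NConj.crt 23 i := by
    intro j
    induction j with
    | zero =>
      rw [pow_zero, pow_zero, ← D4NConj.torG_one]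
      congr 1
      funext i
      simp
    | succ j ih =>
      rw [pow_succ, ih]
      have h2 := D4NConj.hR_eq_torG (F := K) (r := 23) (by norm_num) (Units.mk0 t ht0)
      rw [Units.val_mk0] at h2
      rw [h2, D4NConj.torG_mul]
      congr 1
      funext i
      simp only [Pi.mul_apply]
      rw [← mul_zpow, ← pow_succ]
  rw [h1]
  have h2 : (Units.mk0 t ht0) ^ i = 1 := Units.ext (by rw [Units.val_pow_eq_pow_val, Units.val_mk0, hi, Units.val_one])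
  rw [h2, ← D4NConj.torG_one]
  congr 1
  funext i
  simp

/-- **`³D₄(q)`, odd primes dividing `q - 1`.** -/
theorem good_one (hs : IsSimpleGroup ↥(twistedD4 K q))
    (hK : Fintype.card K = q ^ 3) (hφ : ∀ x, φ x = x ^ q)
    (hq1 : 1 < q) (p : ℕ) [Fact p.Prime] [CharP K p] {ℓ : ℕ} (hℓ : ℓ.Prime) (hℓ2 : ℓ ≠ 2)
    (hℓp : ℓ ≠ p) (hd : ℓ ∣ q - 1) : Cfsg.Agent.H398.FPR.Good 1 (ℓ + 1) ℓ ↥(twistedD4 K q) := by
  obtain ⟨σ, hσ, hB, P⟩ := exists_sigma hK hφ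
  let cs : CoxeterSystem CoxeterMatrix.G₂ _ := CoxeterMatrix.G₂.toCoxeterSystem
  have hW : Finite CoxeterMatrix.G₂.Group := Nodes.RGDFold.finite_W (hp := Nodes.RGDTwD4.hp) cs isCartan foldData
  have R := Nodes.RGDTwD4.rgd cs hK hφ p
  have hG1 := Nodes.RGDTwD4.G1_eq_top cs hK hφ
  have hle := D4Fixed.twisted_le_fix hK hφ
  have : Fact ℓ.Prime := ⟨hℓ⟩
  have hp : p.Prime := Fact.out
  have H := (gi (cs := cs) p hK hφ).hs
  have hfin : Finite ↥(twistedD4 K q) := inferInstance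
  obtain ⟨g, hg, hg0, hgo⟩ := exists_gen (natCard_Fk hK hφ hσ hq1) hq1
  obtain ⟨c, hc⟩ := hd
  set t := g ^ c with ht'
  have ht : σ t = t := by rw [ht', map_pow, hg]
  have ht0 : t ≠ 0 := pow_ne_zero _ hg0
  have htℓ : t ^ ℓ = 1 := by rw [ht', ← pow_mul, mul_comm, ← hc, ← hgo, pow_orderOf_eq_one]
  have ht2 : t ^ 2 ≠ 1 := by
    intro h1
    rw [ht', ← pow_mul] at h1
    have h2 := orderOf_dvd_of_pow_eq_one h1
    rw [hgo, hc, mul_comm c 2] at h2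
    have hc0 : 0 < c := Nat.pos_of_ne_zero (by rintro rfl; omega)
    have h3 := Nat.dvd_of_mul_dvd_mul_right hc0 h2
    exact hℓ2 ((Nat.prime_dvd_prime_iff_eq hℓ Nat.prime_two).1 h3)
  have htφ : φ t = t := by rw [← hσ, ht]
  obtain ⟨a, ha⟩ := exists_pow hK p
  have ha0 : a ≠ 0 := by
    rintro rfl
    rw [pow_zero] at ha
    omega
  obtain ⟨M', hM1, hM2, hM3⟩ := exists_least_le hp hℓ hℓp (a := a) (by rw [← ha, hc]; exact dvd_mul_right _ _) ha0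
  have hcr := card_X (cs := cs) p hK hφ hq1 (gr (cs := cs)).rr
  have he1 : eG2t (toV [2, 3]) = 1 := by decide +kernel
  rw [he1, pow_one] at hcr
  have hxk : (⟨hR 23 t, hr_tw hφ hσ htφ⟩ : ↥(twistedD4 K q)) ^ ℓ ^ 1 = 1 := by
    rw [pow_one]
    exact Subtype.ext (by rw [Subgroup.coe_pow]; exact hR_pow_one ht0 htℓ)
  have h13 : toV [1, 3] ∈ Gt cs isCartan (toV [2, 3]) := by
    refine ⟨(pr cs).1.isRoot (List.mem_map.2 ⟨([1, 3], [-3, 3], 1), by decide +kernel, rfl⟩), ?_⟩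
    rw [cpr_val (gr (cs := cs)).hd (gr (cs := cs)).rr (c := 1) (by decide +kernel) (by decide +kernel)]
    norm_num
  have key := one_of_par (k := 1) (M' := M') H hs hG1 hℓ (diag_mem ht0 (hr_tw hφ hσ htφ)) hxk ht2
    (fun s hs hsr => spar hφ hle hσ P htφ ht0 hs hsr) (spar_r hφ hle hσ P htφ ht0) (isPGroup_QQ hK hφ hq1 p)
    ⟨toV [1, 3], h13, by decide +kernel⟩ hM3 (by rw [hcr, ha]; exact hM2)
  obtain ⟨m, -, hm⟩ := (Nat.dvd_prime_pow hℓ).1 (orderOf_dvd_of_pow_eq_one hxk)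
  exact (key.mono (by omega) (by omega)).good ⟨m, hm⟩

end Cfsg.Agent.H400.Fpr.D4
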