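import Cfsg.Agent.H400.FprMod
import Cfsg.Agent.LieClassical.SLGen
import Cfsg.Agent.H953.Index

/-!
# Fixed point ratios of `p`-elements: natural modules of `SL_n` (helper400, TEAM FPR)
-/

set_option autoImplicit false
set_option linter.unusedSectionVars false
set_option linter.unusedVariables false
open Subgroup MulAction
open scoped Pointwise commutatorElement MatrixGroups

namespace Cfsg.Agent.H400.Fpr

open Cfsg.Agent.H398.FPR (CommFull UGood Pair Good)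

section Mat

variable {k : Type*} [Field k] [Finite k] {n : ℕ}

/-- an element whose order is a prime `ℓ` with `ord_ℓ(|k|) = n` has no fixed vector in `k ^ n` -/
theorem no_fixed_of_ord {ℓ : ℕ} (hℓ : ℓ.Prime) (hn : ∀ m, 0 < m → m < n → ¬ ℓ ∣ Nat.card k ^ m - 1)
    (hk : ¬ ℓ ∣ Nat.card k) {M : Matrix.SpecialLinearGroup (Fin n) k} (hM : M ^ ℓ = 1) (hM1 : M ≠ 1) :
    ∀ v : Fin n → k, M.1.mulVec v = v → v = 0 := by
  classical
  have : Fact ℓ.Prime := ⟨hℓ⟩
  let W : Submodule k (Fin n → k) := LinearMap.eqLocus (Matrix.mulVecLin M.1) LinearMap.id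
  have hW : ∀ v, v ∈ W ↔ M.1.mulVec v = v := fun v => Iff.rfl
  have hord : orderOf M = ℓ := orderOf_eq_prime hM hM1
  have hP : IsPGroup ℓ (Subgroup.zpowers M) := by
    refine IsPGroup.of_card (n := 1) ?_
    rw [Nat.card_zpowers, hord, pow_one]
  have h1 := hP.card_modEq_card_fixedPoints (Fin n → k)
  have h2 : fixedPoints (Subgroup.zpowers M) (Fin n → k) = (W : Set (Fin n → k)) := by
    ext v
    constructor
    · intro h
      have h3 := h ⟨M, Subgroup.mem_zpowers M⟩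
      exact h3
    · intro h g
      obtain ⟨g, i, rfl⟩ := g
      have h3 : M ∈ stabilizer (Matrix.SpecialLinearGroup (Fin n) k) v := h
      exact (Subgroup.zpow_mem _ h3 i : M ^ i ∈ stabilizer _ v)
  have h3 : Nat.card (fixedPoints (Subgroup.zpowers M) (Fin n → k)) = Nat.card W := by rw [h2]; rfl
  rw [h3, Module.natCard_eq_pow_finrank (K := k) (V := Fin n → k), Module.natCard_eq_pow_finrank (K := k) (V := W),
    Module.finrank_fin_fun] at h1
  have hle : Module.finrank k W ≤ n := by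
    have := Submodule.finrank_le W
    rwa [Module.finrank_fin_fun] at this
  have hlt : Module.finrank k W ≠ n := by
    intro h
    have h4 : W = ⊤ := Submodule.eq_top_of_finrank_eq (by rw [h, Module.finrank_fin_fun])
    apply hM1
    apply Subtype.ext
    refine Matrix.ext_of_mulVec_single fun i => ?_
    have h5 : Pi.single i (1 : k) ∈ W := by rw [h4]; trivial
    rw [(hW _).1 h5]
    exact (Matrix.one_mulVec _).symm
  have hzero : Module.finrank k W = 0 := by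
    by_contra h0
    apply hn (n - Module.finrank k W) (by omega) (by omega)
    have h5 : Nat.card k ^ n = Nat.card k ^ Module.finrank k W * Nat.card k ^ (n - Module.finrank k W) := by
      rw [← pow_add]; congr 1; omega
    have h6 : 1 ≤ Nat.card k := Nat.card_pos
    have h7 : (ℓ : ℕ) ∣ Nat.card k ^ n - Nat.card k ^ Module.finrank k W :=
      (Nat.modEq_iff_dvd' (Nat.pow_le_pow_right h6 hle)).1 h1.symm
    rw [h5] at h7
    have h8 : Nat.card k ^ Module.finrank k W * Nat.card k ^ (n - Module.finrank k W) -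
        Nat.card k ^ Module.finrank k W = Nat.card k ^ Module.finrank k W *
          (Nat.card k ^ (n - Module.finrank k W) - 1) := by
      rw [Nat.mul_sub, mul_one]
    rw [h8] at h7
    rcases (Nat.Prime.dvd_mul hℓ).1 h7 with h9 | h9
    · exact absurd (hℓ.dvd_of_dvd_pow h9) hk
    · exact h9
  intro v hv
  have h4 : W = ⊥ := Submodule.finrank_eq_zero.1 hzero
  have h5 : v ∈ W := hv
  rwa [h4, Submodule.mem_bot] at h5

/-- An element of order `ℓ` of `SL_n(k)` without fixed vectors. -/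
theorem exists_fpf_of_ord (hn2 : 2 ≤ n) {ℓ : ℕ} (hℓ : ℓ.Prime) (hn : ∀ m, 0 < m → m < n → ¬ ℓ ∣ Nat.card k ^ m - 1)
    (hk : ¬ ℓ ∣ Nat.card k) (hd : ℓ ∣ Nat.card k ^ n - 1) : ∃ M : Matrix.SpecialLinearGroup (Fin n) k,
      M ^ ℓ = 1 ∧ ∀ v : Fin n → k, M.1.mulVec v = v → v = 0 := by
  have : Fact ℓ.Prime := ⟨hℓ⟩
  have : Fintype k := Fintype.ofFinite k
  have hcard : ℓ ∣ Nat.card (Matrix.SpecialLinearGroup (Fin n) k) := by
    rw [Cfsg.Agent.H953.card_SL n (by omega), ← Nat.card_eq_fintype_card]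
    exact Dvd.dvd.mul_left (hd.trans (Finset.dvd_prod_of_mem (fun j => Nat.card k ^ j - 1)
      (Finset.mem_Icc.2 ⟨hn2, le_rfl⟩))) _
  obtain ⟨M, hM⟩ := exists_prime_orderOf_dvd_card' ℓ hcard
  have hM1 : M ≠ 1 := by
    rintro rfl
    rw [orderOf_one] at hM
    exact hℓ.one_lt.ne hM
  have hMp : M ^ ℓ = 1 := by rw [← hM]; exact pow_orderOf_eq_one M
  exact ⟨M, hMp, no_fixed_of_ord hℓ hn hk hMp hM1⟩

/-- the case `n = 2` -/
theorem exists_fpf_two {ℓ : ℕ} (hℓ : ℓ.Prime) (hℓ2 : ℓ ≠ 2) (hk : ¬ ℓ ∣ Nat.card k) (hd : ℓ ∣ Nat.card k ^ 2 - 1) :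
    ∃ M : Matrix.SpecialLinearGroup (Fin 2) k, M ^ ℓ = 1 ∧ ∀ v : Fin 2 → k, M.1.mulVec v = v → v = 0 := by
  by_cases h1 : ℓ ∣ Nat.card k - 1
  · have : Fact ℓ.Prime := ⟨hℓ⟩
    have : Fintype k := Fintype.ofFinite k
    classical
    have h2 : ℓ ∣ Nat.card kˣ := by
      rw [Nat.card_units]; exact h1
    obtain ⟨u, hu⟩ := exists_prime_orderOf_dvd_card' ℓ h2
    have hu1 : u ≠ 1 := by
      rintro rfl
      rw [orderOf_one] at hu
      exact hℓ.one_lt.ne hu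
    have huℓ : u ^ ℓ = 1 := by rw [← hu]; exact pow_orderOf_eq_one u
    have hu' : (u : k) ≠ 1 := fun h => hu1 (Units.ext h)
    have hui : ((u⁻¹ : kˣ) : k) ≠ 1 := fun h => hu1 (inv_eq_one.1 (Units.ext h))
    let M : Matrix.SpecialLinearGroup (Fin 2) k := ⟨!![(u : k), 0; 0, ((u⁻¹ : kˣ) : k)], by
      rw [Matrix.det_fin_two_of]; simp⟩
    have hMp : ∀ i : ℕ, (M ^ i).1 = !![((u ^ i : kˣ) : k), 0; 0, (((u ^ i)⁻¹ : kˣ) : k)] := by
      intro i
      induction i with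
      | zero => simp [Matrix.one_fin_two]
      | succ i ih =>
        rw [pow_succ]
        show (M ^ i).1 * M.1 = _
        rw [ih]
        show !![((u ^ i : kˣ) : k), 0; 0, (((u ^ i)⁻¹ : kˣ) : k)] * !![(u : k), 0; 0, ((u⁻¹ : kˣ) : k)] = _
        rw [Matrix.mul_fin_two]
        simp [pow_succ, mul_inv_rev, mul_comm]
    refine ⟨M, ?_, ?_⟩
    · apply Subtype.ext
      rw [hMp, huℓ]
      simp [Matrix.one_fin_two]
    · intro v hv
      have h3 := congrFun hv 0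
      have h4 := congrFun hv 1
      simp only [M, Matrix.mulVec, dotProduct, Fin.sum_univ_two, Matrix.of_apply, Matrix.cons_val', Matrix.cons_val_zero,
        Matrix.cons_val_one, Matrix.cons_val_fin_one, zero_mul, add_zero, zero_add] at h3 h4
      have h5 : v 0 = 0 := by
        by_contra h0
        exact hu' (mul_right_cancel₀ h0 (by rw [h3, one_mul]))
      have h6 : v 1 = 0 := by
        by_contra h0
        exact hui (mul_right_cancel₀ h0 (by rw [h4, one_mul]))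
      funext i
      fin_cases i
      · exact h5
      · exact h6
  · refine exists_fpf_of_ord le_rfl hℓ ?_ hk hd
    intro m hm0 hm2
    obtain rfl : m = 1 := by omega
    rwa [pow_one]

/-- the element of order `4` -/
theorem exists_fpf_quat (hk : (2 : k) ≠ 0) : ∃ M : Matrix.SpecialLinearGroup (Fin 2) k, M ^ 2 ^ 2 = 1 ∧
    ∀ v : Fin 2 → k, (M ^ 2).1.mulVec v = v → v = 0 := by
  let M : Matrix.SpecialLinearGroup (Fin 2) k := ⟨!![0, 1; -1, 0], by
    rw [Matrix.det_fin_two_of]; simp⟩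
  have hM : (M ^ 2).1 = !![-1, 0; 0, -1] := by
    rw [pow_two]
    show !![0, 1; -1, 0] * !![0, 1; -1, 0] = _
    rw [Matrix.mul_fin_two]
    simp
  refine ⟨M, ?_, ?_⟩
  · apply Subtype.ext
    have h1 : M ^ 2 ^ 2 = M ^ 2 * M ^ 2 := by rw [← pow_add]; norm_num
    rw [h1]
    show (M ^ 2).1 * (M ^ 2).1 = 1
    rw [hM, Matrix.mul_fin_two, Matrix.one_fin_two]
    simp
  · intro v hv
    rw [hM] at hv
    have h3 := congrFun hv 0
    have h4 := congrFun hv 1
    simp only [Matrix.mulVec, dotProduct, Fin.sum_univ_two, Matrix.of_apply, Matrix.cons_val', Matrix.cons_val_zero,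
      Matrix.cons_val_one, Matrix.cons_val_fin_one, zero_mul, add_zero, zero_add] at h3 h4
    have key : ∀ a : k, -1 * a = a → a = 0 := by
      intro a ha
      have h5 : 2 * a = 0 := by linear_combination -ha
      rcases mul_eq_zero.1 h5 with h6 | h6
      · exact absurd h6 hk
      · exact h6
    funext i
    fin_cases i
    · exact key _ h3
    · exact key _ h4

end Mat

/-! ### Lifting to an extension field -/

section Ext

variable {k K : Type*} [Field k] [Field K] (ι : k →+* K) {n : ℕ}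

theorem no_fixed_map {M : Matrix.SpecialLinearGroup (Fin n) k} (h : ∀ v : Fin n → k, M.1.mulVec v = v → v = 0) :
    ∀ v : Fin n → K, (Matrix.SpecialLinearGroup.map ι M).1.mulVec v = v → v = 0 := by
  intro v hv
  have h1 : (M.1 - 1).det ≠ 0 := by
    intro h0
    obtain ⟨w, hw, hw'⟩ := Matrix.exists_mulVec_eq_zero_iff.2 h0
    apply hw
    apply h
    rw [Matrix.sub_mulVec, Matrix.one_mulVec, sub_eq_zero] at hw'
    exact hw'
  have h2 : ((Matrix.SpecialLinearGroup.map ι M).1 - 1).det ≠ 0 := by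
    have h3 : (Matrix.SpecialLinearGroup.map ι M).1 - 1 = ι.mapMatrix (M.1 - 1) := by
      rw [map_sub, map_one]
      rfl
    rw [h3, ← RingHom.map_det]
    exact (map_ne_zero ι).2 h1
  by_contra h0
  apply h2
  apply Matrix.exists_mulVec_eq_zero_iff.1
  refine ⟨v, h0, ?_⟩
  rw [Matrix.sub_mulVec, Matrix.one_mulVec, sub_eq_zero]
  exact hv

theorem map_tr {i j : Fin n} (hij : i ≠ j) (c : k) :
    Matrix.SpecialLinearGroup.map ι (Matrix.SpecialLinearGroup.transvection hij c) =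
      Matrix.SpecialLinearGroup.transvection hij (ι c) := by
  apply Subtype.ext
  show (1 + Matrix.single i j c).map ι = 1 + Matrix.single i j (ι c)
  rw [Matrix.map_add _ (map_add ι), Matrix.map_one _ (map_zero ι) (map_one ι), Matrix.map_single]

theorem tr_mulVec {i j : Fin n} (hij : i ≠ j) (c : K) (v : Fin n → K) :
    (Matrix.SpecialLinearGroup.transvection hij c).1.mulVec v = v + (c * v j) • Pi.single i (1 : K) :=
  Cfsg.Agent.LieClassical.SLGen.transvection_smul hij c v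

end Ext

/-! ### Modules -/

section Module

variable {Y : Type*} [Group Y] {K : Type*} [Field K] {n : ℕ}

/-- pairs `(g, M)` such that `g` acts as `M` on the image of `E` modulo `Z` -/
def relSub (Z : Subgroup Y) (E : (Fin n → K) → Y) : Subgroup (Y × Matrix.SpecialLinearGroup (Fin n) K) where
  carrier := {p | (∀ z, z ∈ Z ↔ p.1 * z * p.1⁻¹ ∈ Z) ∧ ∀ v, ∃ z ∈ Z, p.1 * E v * p.1⁻¹ = z * E (p.2.1.mulVec v)}
  one_mem' := ⟨fun z => by simp, fun v => ⟨1, one_mem _, by simp⟩⟩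
  mul_mem' := by
    rintro ⟨g, A⟩ ⟨h, B⟩ ⟨hg, hg'⟩ ⟨hh, hh'⟩
    refine ⟨fun z => ?_, fun v => ?_⟩
    · have : g * (h * z * h⁻¹) * g⁻¹ = g * h * z * (g * h)⁻¹ := by group
      show z ∈ Z ↔ g * h * z * (g * h)⁻¹ ∈ Z
      rw [← this]
      exact (hh z).trans (hg (h * z * h⁻¹))
    · obtain ⟨z, hz, e⟩ := hh' v
      obtain ⟨z', hz', e'⟩ := hg' (B.1.mulVec v)
      refine ⟨(g * z * g⁻¹) * z', mul_mem ((hg z).1 hz) hz', ?_⟩
      have h1 : g * h * E v * (g * h)⁻¹ = g * (h * E v * h⁻¹) * g⁻¹ := by group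
      show g * h * E v * (g * h)⁻¹ = _ * E ((A.1 * B.1).mulVec v)
      rw [h1]
      simp only at e e'
      rw [e]
      have h2 : g * (z * E (B.1.mulVec v)) * g⁻¹ = (g * z * g⁻¹) * (g * E (B.1.mulVec v) * g⁻¹) := by group
      rw [h2, e', Matrix.mulVec_mulVec]
      group
  inv_mem' := by
    rintro ⟨g, A⟩ ⟨hg, hg'⟩
    have hi : ∀ z, z ∈ Z ↔ g⁻¹ * z * g⁻¹⁻¹ ∈ Z := by
      intro z
      rw [hg (g⁻¹ * z * g⁻¹⁻¹)]
      have : g * (g⁻¹ * z * g⁻¹⁻¹) * g⁻¹ = z := by group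
      rw [this]
    refine ⟨hi, fun v => ?_⟩
    obtain ⟨z, hz, e⟩ := hg' ((A⁻¹).1.mulVec v)
    refine ⟨(g⁻¹ * z * g⁻¹⁻¹)⁻¹, inv_mem ((hi z).1 hz), ?_⟩
    have h1 : A.1.mulVec ((A⁻¹).1.mulVec v) = v := by
      rw [Matrix.mulVec_mulVec]
      have : A.1 * (A⁻¹).1 = 1 := by
        have := congrArg Subtype.val (mul_inv_cancel A)
        exact this
      rw [this, Matrix.one_mulVec]
    simp only at e
    rw [h1] at e
    show g⁻¹ * E v * g⁻¹⁻¹ = _ * E ((A⁻¹).1.mulVec v)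
    have h2 : E v = z⁻¹ * (g * E ((A⁻¹).1.mulVec v) * g⁻¹) := by rw [e]; group
    rw [h2]
    group

theorem mem_relSub {Z : Subgroup Y} {E : (Fin n → K) → Y} {p : Y × Matrix.SpecialLinearGroup (Fin n) K} :
    p ∈ relSub Z E ↔ (∀ z, z ∈ Z ↔ p.1 * z * p.1⁻¹ ∈ Z) ∧
      ∀ v, ∃ z ∈ Z, p.1 * E v * p.1⁻¹ = z * E (p.2.1.mulVec v) := Iff.rfl

/-- `R / Z` is in bijection with `K ^ n` via `E` -/
structure IsMod (Z R : Subgroup Y) (E : (Fin n → K) → Y) : Prop where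
  le : Z ≤ R
  nor : ∀ r ∈ R, ∀ z ∈ Z, r * z * r⁻¹ ∈ Z
  mem : ∀ v, E v ∈ R
  surj : ∀ r ∈ R, ∃ z ∈ Z, ∃ v, r = z * E v
  inj : ∀ u v, E u * (E v)⁻¹ ∈ Z → u = v
  zero : E 0 ∈ Z

/-- constructing modules by counting -/
theorem IsMod.of_card [Finite Y] [Finite K] {Z R : Subgroup Y} {E : (Fin n → K) → Y} (le : Z ≤ R)
    (nor : ∀ r ∈ R, ∀ z ∈ Z, r * z * r⁻¹ ∈ Z) (mem : ∀ v, E v ∈ R) (zero : E 0 ∈ Z)
    (add : ∀ u v, ∃ z ∈ Z, E u * E v = z * E (u + v)) (gen : R ≤ Z ⊔ closure (Set.range E))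
    (card : Nat.card R = Nat.card Z * Nat.card K ^ n) : IsMod Z R E := by
  have hEZ : ∀ v, ∀ z ∈ Z, E v * z * (E v)⁻¹ ∈ Z := fun v z hz => nor _ (mem v) z hz
  let S : Subgroup Y :=
    { carrier := {r | ∃ z ∈ Z, ∃ v, r = z * E v}
      one_mem' := ⟨(E 0)⁻¹, inv_mem zero, 0, by rw [inv_mul_cancel]⟩
      mul_mem' := by
        rintro _ _ ⟨z, hz, v, rfl⟩ ⟨z', hz', v', rfl⟩
        obtain ⟨y, hy, e⟩ := add v v'
        refine ⟨z * (E v * z' * (E v)⁻¹) * y, mul_mem (mul_mem hz (hEZ v z' hz')) hy, v + v', ?_⟩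
        rw [mul_assoc _ y, ← e]
        group
      inv_mem' := by
        rintro _ ⟨z, hz, v, rfl⟩
        obtain ⟨y, hy, e⟩ := add v (-v)
        rw [add_neg_cancel] at e
        refine ⟨E (-v) * ((y * E 0)⁻¹ * z⁻¹) * (E (-v))⁻¹, hEZ _ _ (mul_mem (inv_mem (mul_mem hy zero)) (inv_mem hz)),
          -v, ?_⟩
        rw [← e]
        group }
  have hS : R ≤ S := by
    refine gen.trans (sup_le ?_ ?_)
    · intro z hz
      exact ⟨z * (E 0)⁻¹, mul_mem hz (inv_mem zero), 0, by rw [inv_mul_cancel_right]⟩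
    · rw [closure_le]
      rintro _ ⟨v, rfl⟩
      exact ⟨1, one_mem _, v, by rw [one_mul]⟩
  have hsurj : Function.Surjective (fun a : Z × (Fin n → K) => (⟨a.1 * E a.2, mul_mem (le a.1.2) (mem a.2)⟩ : R)) := by
    rintro ⟨r, hr⟩
    obtain ⟨z, hz, v, rfl⟩ := hS hr
    exact ⟨(⟨z, hz⟩, v), rfl⟩
  have hc : Nat.card (Z × (Fin n → K)) = Nat.card R := by
    rw [Nat.card_prod, card, Nat.card_fun, Nat.card_eq_fintype_card (α := Fin n), Fintype.card_fin]
  have hinj := ((Nat.bijective_iff_surjective_and_card _).2 ⟨hsurj, hc⟩).1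
  refine ⟨le, nor, mem, fun r hr => hS hr, ?_, zero⟩
  intro u v huv
  have h1 := @hinj (⟨1, one_mem _⟩, u) (⟨_, huv⟩, v) (Subtype.ext (by
    show 1 * E u = E u * (E v)⁻¹ * E v
    group))
  exact congrArg Prod.snd h1

theorem IsMod.nor_of_rel {Z R : Subgroup Y} {E : (Fin n → K) → Y} (h : IsMod Z R E)
    {p : Y × Matrix.SpecialLinearGroup (Fin n) K} (hp : p ∈ relSub Z E) {r : Y} (hr : r ∈ R) :
    p.1 * r * p.1⁻¹ ∈ R := by
  obtain ⟨z, hz, v, rfl⟩ := h.surj r hr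
  obtain ⟨z', hz', e⟩ := hp.2 v
  have h1 : p.1 * (z * E v) * p.1⁻¹ = (p.1 * z * p.1⁻¹) * (p.1 * E v * p.1⁻¹) := by group
  rw [h1, e]
  exact mul_mem (h.le ((hp.1 z).1 hz)) (mul_mem (h.le hz') (h.mem _))

theorem IsMod.free {Z R : Subgroup Y} {E : (Fin n → K) → Y} (h : IsMod Z R E)
    {p : Y × Matrix.SpecialLinearGroup (Fin n) K} (hp : p ∈ relSub Z E)
    (hM : ∀ v : Fin n → K, p.2.1.mulVec v = v → v = 0) {r : Y} (hr : r ∈ R) (hc : p.1 * r * p.1⁻¹ * r⁻¹ ∈ Z) :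
    r ∈ Z := by
  obtain ⟨z, hz, v, rfl⟩ := h.surj r hr
  obtain ⟨z', hz', e⟩ := hp.2 v
  have h1 : p.1 * (z * E v) * p.1⁻¹ * (z * E v)⁻¹ =
      (p.1 * z * p.1⁻¹) * z' * (E (p.2.1.mulVec v) * (E v)⁻¹) * z⁻¹ := by
    have h2 : p.1 * (z * E v) * p.1⁻¹ = (p.1 * z * p.1⁻¹) * (p.1 * E v * p.1⁻¹) := by group
    rw [h2, e]
    group
  rw [h1] at hc
  have h3 : E (p.2.1.mulVec v) * (E v)⁻¹ ∈ Z := by
    have h4 := mul_mem (mul_mem (inv_mem (mul_mem ((hp.1 z).1 hz) hz')) hc) hz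
    have h5 : ((p.1 * z * p.1⁻¹) * z')⁻¹ * ((p.1 * z * p.1⁻¹) * z' * (E (p.2.1.mulVec v) * (E v)⁻¹) * z⁻¹) * z =
        E (p.2.1.mulVec v) * (E v)⁻¹ := by group
    rwa [h5] at h4
  have h4 := hM v (h.inj _ _ h3)
  rw [h4]
  exact mul_mem hz h.zero

/-- **The pair of a module.** -/
theorem IsMod.pair [Finite Y] {Z R : Subgroup Y} {E : (Fin n → K) → Y} (h : IsMod Z R E) {ℓ j : ℕ}
    {p : Y × Matrix.SpecialLinearGroup (Fin n) K} (hp : p ∈ relSub Z E)
    (hM : ∀ v : Fin n → K, (p.2 ^ ℓ ^ j).1.mulVec v = v → v = 0) (hn : Group.IsNilpotent R) (hc : Z ≤ ⁅R, R⁆) :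
    Pair ℓ j p.1 R := by
  have hp' := pow_mem hp (ℓ ^ j)
  refine ⟨hn, norm_iff.2 fun y hy => h.nor_of_rel hp hy, ?_⟩
  refine commFull_of_mod hn h.le h.nor hc (fun r hr => h.nor_of_rel hp' hr) (fun z hz => (hp'.1 z).1 hz) ?_
  intro r hr hrz
  exact h.free hp' hM hr hrz

/-- the pair of a module, general action -/
theorem IsMod.pair_fun [Finite Y] {Z R : Subgroup Y} {E : (Fin n → K) → Y} (h : IsMod Z R E) {ℓ : ℕ} {x : Y}
    {f : (Fin n → K) → (Fin n → K)} (hZ : ∀ z ∈ Z, x * z * x⁻¹ ∈ Z)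
    (hE : ∀ v, ∃ z ∈ Z, x * E v * x⁻¹ = z * E (f v)) (hf : ∀ v, f v = v → v = 0) (hn : Group.IsNilpotent R)
    (hc : Z ≤ ⁅R, R⁆) : Pair ℓ 0 x R := by
  have hR : ∀ r ∈ R, x * r * x⁻¹ ∈ R := by
    intro r hr
    obtain ⟨z, hz, v, rfl⟩ := h.surj r hr
    obtain ⟨z', hz', e⟩ := hE v
    have h1 : x * (z * E v) * x⁻¹ = (x * z * x⁻¹) * (x * E v * x⁻¹) := by group
    rw [h1, e]
    exact mul_mem (h.le (hZ z hz)) (mul_mem (h.le hz') (h.mem _))
  refine ⟨hn, norm_iff.2 hR, ?_⟩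
  rw [pow_zero, pow_one]
  refine commFull_of_mod hn h.le h.nor hc hR hZ ?_
  intro r hr hrz
  obtain ⟨z, hz, v, rfl⟩ := h.surj r hr
  obtain ⟨z', hz', e⟩ := hE v
  have h1 : x * (z * E v) * x⁻¹ * (z * E v)⁻¹ = (x * z * x⁻¹) * z' * (E (f v) * (E v)⁻¹) * z⁻¹ := by
    have h2 : x * (z * E v) * x⁻¹ = (x * z * x⁻¹) * (x * E v * x⁻¹) := by group
    rw [h2, e]
    group
  rw [h1] at hrz
  have h3 : E (f v) * (E v)⁻¹ ∈ Z := by
    have h4 := mul_mem (mul_mem (inv_mem (mul_mem (hZ z hz) hz')) hrz) hz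
    have h5 : ((x * z * x⁻¹) * z')⁻¹ * ((x * z * x⁻¹) * z' * (E (f v) * (E v)⁻¹) * z⁻¹) * z =
        E (f v) * (E v)⁻¹ := by group
    rwa [h5] at h4
  rw [hf v (h.inj _ _ h3)]
  exact mul_mem hz h.zero

/-- matrices induced simultaneously on several modules by an element of `L` -/
def liftSub {k : Type*} [Field k] {σ : Type*} (L : Subgroup Y)
    (ρ : σ → (Matrix.SpecialLinearGroup (Fin n) k →* Matrix.SpecialLinearGroup (Fin n) K))
    (Z : σ → Subgroup Y) (E : σ → (Fin n → K) → Y) : Subgroup (Matrix.SpecialLinearGroup (Fin n) k) where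
  carrier := {A | ∃ g ∈ L, ∀ s, (g, ρ s A) ∈ relSub (Z s) (E s)}
  one_mem' := ⟨1, one_mem _, fun s => by rw [map_one]; exact one_mem (relSub (Z s) (E s))⟩
  mul_mem' := by
    rintro A B ⟨g, hg, h⟩ ⟨g', hg', h'⟩
    exact ⟨g * g', mul_mem hg hg', fun s => by rw [map_mul]; exact mul_mem (h s) (h' s)⟩
  inv_mem' := by
    rintro A ⟨g, hg, h⟩
    exact ⟨g⁻¹, inv_mem hg, fun s => by rw [map_inv]; exact inv_mem (h s)⟩

theorem mem_liftSub {k : Type*} [Field k] {σ : Type*} {L : Subgroup Y}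
    {ρ : σ → (Matrix.SpecialLinearGroup (Fin n) k →* Matrix.SpecialLinearGroup (Fin n) K)}
    {Z : σ → Subgroup Y} {E : σ → (Fin n → K) → Y} {A : Matrix.SpecialLinearGroup (Fin n) k} :
    A ∈ liftSub L ρ Z E ↔ ∃ g ∈ L, ∀ s, (g, ρ s A) ∈ relSub (Z s) (E s) := Iff.rfl

theorem liftSub_eq_top {k : Type*} [Field k] {σ : Type*} {L : Subgroup Y} (hn : 2 ≤ n)
    {ρ : σ → (Matrix.SpecialLinearGroup (Fin n) k →* Matrix.SpecialLinearGroup (Fin n) K)}
    {Z : σ → Subgroup Y} {E : σ → (Fin n → K) → Y}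
    (h : ∀ (i j : Fin n) (hij : i ≠ j) (c : k),
      Matrix.SpecialLinearGroup.transvection hij c ∈ liftSub L ρ Z E) : liftSub L ρ Z E = ⊤ := by
  have : Nontrivial (Fin n) := Fin.nontrivial_iff_two_le.2 hn
  rw [eq_top_iff]
  intro A _
  exact Cfsg.Agent.LieClassical.SLGen.transvection_induction (fun A => A ∈ liftSub L ρ Z E) h
    (fun A B hA hB => mul_mem hA hB) A

/-- Lifting an element of `ℓ`-power order. -/
theorem exists_lift_sl [Finite Y] {k : Type*} [Field k] {σ : Type*} {L : Subgroup Y}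
    {ρ : σ → (Matrix.SpecialLinearGroup (Fin n) k →* Matrix.SpecialLinearGroup (Fin n) K)}
    {Z : σ → Subgroup Y} {E : σ → (Fin n → K) → Y} (h : liftSub L ρ Z E = ⊤) {ℓ a : ℕ} (hℓ : ℓ.Prime)
    {M : Matrix.SpecialLinearGroup (Fin n) k} (hM : M ^ ℓ ^ a = 1) :
    ∃ x ∈ L, (∃ b, x ^ ℓ ^ b = 1) ∧ ∀ s, (x, ρ s M) ∈ relSub (Z s) (E s) := by
  have h1 : M ∈ liftSub L ρ Z E := by rw [h]; trivial
  obtain ⟨g, hg, h2⟩ := h1
  refine exists_lift_rel (P := fun g M => ∀ s, (g, ρ s M) ∈ relSub (Z s) (E s)) hℓ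
    (fun s => by rw [map_one]; exact one_mem (relSub (Z s) (E s))) ?_ hg h2 hM
  intro g g' M M' h h' s
  rw [map_mul]
  exact mul_mem (h s) (h' s)

end Module

/-- the contragredient -/
def contra {k : Type*} [Field k] {n : ℕ} : Matrix.SpecialLinearGroup (Fin n) k →* Matrix.SpecialLinearGroup (Fin n) k where
  toFun A := (A⁻¹).transpose
  map_one' := by
    apply Subtype.ext
    rw [inv_one]
    exact Matrix.transpose_one
  map_mul' A B := by
    apply Subtype.ext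
    rw [mul_inv_rev]
    exact Matrix.transpose_mul _ _

theorem contra_ne_one {k : Type*} [Field k] {n : ℕ} {A : Matrix.SpecialLinearGroup (Fin n) k} (hA : A ≠ 1) :
    contra A ≠ 1 := by
  intro h
  apply hA
  have h1 : (A⁻¹).1.transpose = 1 := congrArg Subtype.val h
  have h2 : (A⁻¹).1 = 1 := by
    have := congrArg Matrix.transpose h1
    rwa [Matrix.transpose_transpose, Matrix.transpose_one] at this
  exact inv_eq_one.1 (Subtype.ext h2)

end Cfsg.Agent.H400.Fpr
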