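import Cfsg.Agent.H400.FprRgd
import Cfsg.Agent.H400.FprNat
import Cfsg.Agent.H400.TwoExcTab
import Cfsg.Agent.Nodes.CardSup

/-!
# Fixed point ratios of `p`-elements: parabolic subgroups of root group data (helper400, TEAM FPR)
-/

set_option autoImplicit false
set_option linter.unusedSectionVars false
set_option linter.unusedVariables false

namespace Cfsg.Agent.H400.Fpr

open CoxeterSystem Cfsg.Agent.ChevalleyStructure.CoxeterGeom Cfsg.Agent.Tits.Roots Cfsg.Agent.Tits.Core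
  Cfsg.Agent.Tits.Exchange Cfsg.Agent.Nodes.Reps Cfsg.Agent.Nodes.BNOf Cfsg.Agent.Nodes.StabComb
  Cfsg.Agent.Nodes.Bruhat Cfsg.Agent.Nodes.OppDec Cfsg.Agent.Nodes.PosPair Cfsg.Agent.Nodes.Coroot
  Cfsg.Agent.KFacts.RgdPar Cfsg.Agent.KFacts.RgdSL Cfsg.Agent.KFacts.RgdTI Cfsg.Agent.Nodes.LeviDec
  Cfsg.Agent.Nodes.KindChev
open Cfsg.Agent.H400.TwoExc
open Cfsg.Agent.H398.FPR (CommFull UGood Pair)
open scoped commutatorElement

/-- The data of the two-radical lemma. -/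
def TwoPair (Y : Type*) [Group Y] (ℓ j p : ℕ) : Prop :=
  ∃ (x : Y) (k : ℕ) (R1 R2 : Subgroup Y), x ^ ℓ ^ k = 1 ∧ Pair ℓ j x R1 ∧ Pair ℓ j x R2 ∧ IsPGroup p R1 ∧
    IsPGroup p R2 ∧ R1 ⊔ R2 = ⊤

theorem closure_eq_top {Y : Type*} [Group Y] {x : Y} {R1 R2 : Subgroup Y} (h : R1 ⊔ R2 = ⊤) :
    Subgroup.closure ({x} ∪ (R1 : Set Y) ∪ (R2 : Set Y)) = ⊤ := by
  rw [eq_top_iff, ← h]
  refine sup_le (fun y hy => Subgroup.subset_closure (Or.inl (Or.inr hy)))
    (fun y hy => Subgroup.subset_closure (Or.inr hy))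

theorem TwoPair.good {Y : Type*} [Group Y] [Finite Y] {ℓ j p : ℕ} (h : TwoPair Y ℓ j p) (hℓ : ℓ.Prime)
    (hj : ℓ = 2 → 1 ≤ j) : Cfsg.Agent.H398.FPR.Good (ℓ - 1) (2 * ℓ - 1) ℓ Y := by
  obtain ⟨x, k, R1, R2, hx, h1, h2, -, -, h3⟩ := h
  exact Cfsg.Agent.H398.FPR.T3_good hℓ hj hx h1 h2 (closure_eq_top h3)

theorem TwoPair.good' {Y : Type*} [Group Y] [Finite Y] {ℓ j p : ℕ} (h : TwoPair Y ℓ j p) (hℓ : ℓ.Prime)
    (hj : 1 ≤ j) : Cfsg.Agent.H398.FPR.Good 1 (ℓ + 1) ℓ Y := by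
  obtain ⟨x, k, R1, R2, hx, h1, h2, -, -, h3⟩ := h
  exact Cfsg.Agent.H398.FPR.T3_good' hℓ hj hx h1 h2 (closure_eq_top h3)

theorem comm_iff {Y : Type*} [Group Y] {R : Subgroup Y} {g : Y} (hg : g ∈ Subgroup.normalizer (R : Set Y)) (z : Y) :
    z ∈ ⁅R, R⁆ ↔ g * z * g⁻¹ ∈ ⁅R, R⁆ := by
  have h1 : cj g ⁅R, R⁆ = ⁅R, R⁆ := by
    unfold cj
    rw [Subgroup.map_commutator]
    have h2 : R.map (MulAut.conj g).toMonoidHom = R := (mem_normalizer_iff_cj.1 hg)
    rw [h2]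
  constructor
  · intro h
    rw [← h1]
    exact conj_mem_cj.2 h
  · intro h
    rw [← h1] at h
    exact conj_mem_cj.1 h

section

variable {I W Y : Type*} [Fintype I] [DecidableEq I] [Group W] [Group Y] [Finite Y] {M : CoxeterMatrix I}
  {cs : CoxeterSystem M W} {A : I → I → ℤ} {h : IsCartan M A} {p : ℕ} {T : Subgroup Y} {n : I → Y}
  {X : (I → ℤ) → Subgroup Y}

/-- the unipotent radical of a proper parabolic subgroup and its opposite generate a simple group -/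
theorem VJ_sup_VNJ (R : RGD cs h p T n X) [Finite W] (hs : IsSimpleGroup Y)
    (hG1 : Cfsg.Agent.Nodes.RGDLib.G1 cs h X = ⊤) {J : Set I} {k : I} (hk : k ∉ J) :
    VJ cs h X J ⊔ VNJ cs h X J = ⊤ := by
  set K := VJ cs h X J ⊔ VNJ cs h X J with hK
  have hL : ∀ a ∈ LJ cs h T X J, a ∈ Subgroup.normalizer (K : Set Y) := by
    intro a ha
    refine norm_iff.2 ?_
    have h1 := norm_iff.1 (LJ_le_normalizer_VJ R J ha)
    have h2 := norm_iff.1 (LJ_le_normalizer_VNJ R J ha)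
    have h3 : K ≤ K.comap (MulAut.conj a).toMonoidHom :=
      sup_le (fun y hy => Subgroup.mem_sup_left (h1 y hy)) (fun y hy => Subgroup.mem_sup_right (h2 y hy))
    exact fun y hy => h3 hy
  have hnorm : K.Normal := by
    have h1 : Cfsg.Agent.Nodes.RGDLib.G1 cs h X ≤ Subgroup.normalizer (K : Set Y) := by
      refine RGD.Sup_le fun s hs => ?_
      have hs' : IsRoot cs h s := hs
      rcases hs'.pos_or_neg with h0 | h0
      · by_cases h1 : ∃ k, k ∉ J ∧ 0 < s k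
        · have h2 : X s ≤ VJ cs h X J := RGD.le_Sup ⟨hs', h0, h1⟩
          exact (h2.trans le_sup_left).trans Subgroup.le_normalizer
        · push Not at h1
          intro a ha
          refine hL a (X_le_LJ (x := s) ⟨hs', fun k hk => le_antisymm (h1 k hk) (h0 k)⟩ ha)
      · by_cases h1 : ∃ k, k ∉ J ∧ s k < 0
        · have h2 : X s ≤ VNJ cs h X J := by
            refine RGD.le_Sup (show -s ∈ NotJ cs h J from ⟨hs'.neg, fun i => ?_, ?_⟩)
            · have := h0 i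
              simp only [Pi.neg_apply, Pi.zero_apply] at this ⊢
              omega
            · obtain ⟨k, hk, hk'⟩ := h1
              exact ⟨k, hk, by simp only [Pi.neg_apply]; omega⟩
          exact (h2.trans le_sup_right).trans Subgroup.le_normalizer
        · push Not at h1
          intro a ha
          refine hL a (X_le_LJ (x := s) ⟨hs', fun k hk => le_antisymm ?_ (h1 k hk)⟩ ha)
          have := h0 k
          simpa using this
    rw [hG1, top_le_iff] at h1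
    exact Subgroup.normalizer_eq_top_iff.1 h1
  rcases hs.eq_bot_or_eq_top_of_normal K hnorm with h1 | h1
  · exfalso
    have hr := isRoot_sr cs h k
    have h2 : X (sr k) ≤ K := by
      refine le_trans (RGD.le_Sup (show sr k ∈ NotJ cs h J from ⟨hr, sr_nonneg k, k, hk, ?_⟩)) le_sup_left
      simp [sr]
    rw [h1, le_bot_iff] at h2
    exact X_ne_bot R hr h2
  · exact h1

theorem X_refl_le (R : RGD cs h p T n X) [Finite W] {K0 : Subgroup Y} {z y : I → ℤ} (hz : IsRoot cs h z)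
    (hy : IsRoot cs h y) (h1 : X z ≤ K0) (h2 : X (-z) ≤ K0) (h3 : X y ≤ K0) :
    X (y - cpr cs h y z • z) ≤ K0 := by
  obtain ⟨m, hm, hmX⟩ := exists_refl R hz
  rw [← hmX y hy]
  exact cc_le (sup_le h1 h2 hm) h3

end

section Cpr

variable {l : ℕ} {W : Type*} [Group W] [Finite W] {M : CoxeterMatrix (Fin l)} {cs : CoxeterSystem M W}
  {A : Fin l → Fin l → ℤ} {h : IsCartan M A} {d : Fin l → ℤ}

theorem cpr_val (hd : ∀ i j, d i * A i j = d j * A j i) {x r : Fin l → ℤ} (hr : IsRoot cs h r) {c : ℤ}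
    (h1 : 2 * qf A d x r = c * qf A d r r) (h2 : qf A d r r ≠ 0) : cpr cs h x r = c := by
  have h3 := cpr_mul_qf cs h hd x hr
  exact mul_right_cancel₀ h2 (h3.trans h1)

end Cpr

end Cfsg.Agent.H400.Fpr
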