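import Cfsg.Agent.H400.TwoExcTwE
import Cfsg.Agent.H400.FprD4E
import Cfsg.Agent.H400.FprOne
import Cfsg.Agent.H400.FprPar
import Cfsg.Agent.H400.FprSharpRgd

/-!
# Fixed point ratios of `p`-elements: `²E₆(q)`, the nodes and the scalar torus elements (helper400, TEAM FPR)
-/

set_option autoImplicit false
set_option linter.unusedSectionVars false
set_option linter.unusedVariables false

namespace Cfsg.Agent.H400.Fpr.E6

open CoxeterSystem Cfsg.Agent.ChevalleyStructure.CoxeterGeom Cfsg.Agent.Tits.Roots Cfsg.Agent.Tits.Core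
  Cfsg.Agent.Nodes.Reps Cfsg.Agent.Nodes.BNOf Cfsg.Agent.Nodes.RGDTwGen Cfsg.Agent.Nodes.RGDChev Cfsg.Agent.Nodes.RGDFold
  Cfsg.Agent.Nodes.RGDFoldSL Cfsg.Agent.Nodes.RGDTwE6 Cfsg.Agent.Nodes.RGDTwCoord Cfsg.Agent.Nodes.RGDTwCoordE6
  Cfsg.Agent.Nodes.RGDTwComE6 Cfsg.Agent.Nodes.RGDTwActE6 Cfsg.Agent.Nodes.KindChev Cfsg.Agent.Nodes.Coroot
  Cfsg.Agent.Nodes.PosPair Cfsg.Agent.Nodes.LeviDec Cfsg.Agent.Nodes.StabComb Cfsg.Agent.Nodes.Bruhat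
  Cfsg.Agent.Nodes.Unique Cfsg.Agent.KFacts.RgdTI
open Cfsg.Lie Cfsg.Agent.ChevalleyStructure
open Cfsg.Agent.H400.TwoExc Cfsg.Agent.H400.TwoExc.TwE
open Cfsg.Agent.H398.FPR (CommFull UGood Pair)
open Cfsg.Agent.H400.Fpr.D4 (up_zero hS_mul hS_one hS_pow)
open Cfsg.Agent.ChevalleyStructure.SL2Hom (up lo mem_closure_SL2)
open scoped commutatorElement MatrixGroups

universe u

local notation "cl" => Nodes.RGDTwCoord.cl chevE6 J O

variable {K : Type u} [Field K] [Fintype K] {q : ℕ} {φ : K →+* K}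

section Nodes

variable (hφ : ∀ x, φ x = x ^ q) (hqq : ∀ t : K, (t ^ q) ^ q = t)

theorem hf (φ : K →+* K) (i : Fin 4) : ∀ s ∈ Nodes.RGDTwNode.E6.rep i :: Nodes.RGDTwNode.E6.rest i, ∀ t,
    ((TwistedE6Sigma.eps s : ℤ) : K) * φ t = φ t :=
  fun s hs t => by rw [Nodes.RGDTwNode.E6.eps_one i s hs, Int.cast_one, one_mul]

/-- the homomorphism of the node `i` -/
noncomputable def Ph (i : Fin 4) :
    Matrix.SpecialLinearGroup (Fin 2) (Fx φ ((Nodes.RGDTwNode.E6.rest i).length + 1)) →* ↥(twistedE6 K q) :=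
  Phi (foldGrp hφ hqq) (Nodes.RGDTwNode.E6.nodeOK i) (hf φ i)

theorem mem_X_Ph (i : Fin 4) (g : ↥(twistedE6 K q)) : g ∈ X φ q (sr i) ↔ ∃ a, g = Ph hφ hqq i (up a) :=
  mem_X_iff (foldGrp hφ hqq) (Nodes.RGDTwNode.E6.nodeOK i) (hf φ i) g

theorem Ph_wS (i : Fin 4) : Ph hφ hqq i (wS 1) = nn hφ i :=
  Phi_wS (foldGrp hφ hqq) (Nodes.RGDTwNode.E6.nodeOK i) (hf φ i)

theorem Ph_up_lo (i : Fin 4)
    (t : Fx φ ((Nodes.RGDTwNode.E6.rest i).length + 1)) : Ph hφ hqq i (lo t) ∈ X φ q (-sr i) := by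
  obtain ⟨p, hp'⟩ := CharP.exists K
  have : Fact p.Prime := ⟨CharP.char_is_prime K p⟩
  have R := Nodes.RGDTwE6.rgd (K := K) CoxeterMatrix.F₄.toCoxeterSystem hφ hqq p
  have hcj : cj (nn hφ i) (X φ q (sr i)) = X φ q (-sr i) := by
    rw [R.conj i _ (isRoot_sr CoxeterMatrix.F₄.toCoxeterSystem isCartan i), rep_simple_sr]
  rw [lo_eq, map_mul, map_mul, map_inv, Ph_wS, ← hcj]
  exact conj_mem_cj.2 ((mem_X_Ph hφ hqq i _).2 ⟨_, rfl⟩)

theorem Ph_mem (i : Fin 4)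
    (g : Matrix.SpecialLinearGroup (Fin 2) (Fx φ ((Nodes.RGDTwNode.E6.rest i).length + 1))) :
    Ph hφ hqq i g ∈ X φ q (sr i) ⊔ X φ q (-sr i) := by
  have h1 : Subgroup.closure (Set.range (up (F := Fx φ ((Nodes.RGDTwNode.E6.rest i).length + 1))) ∪
      Set.range (lo (F := Fx φ ((Nodes.RGDTwNode.E6.rest i).length + 1)))) ≤
      (X φ q (sr i) ⊔ X φ q (-sr i)).comap (Ph hφ hqq i) := by
    refine (Subgroup.closure_le _).2 ?_
    rintro x (⟨t, rfl⟩ | ⟨t, rfl⟩)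
    · exact Subgroup.mem_sup_left ((mem_X_Ph hφ hqq i _).2 ⟨t, rfl⟩)
    · exact Subgroup.mem_sup_right (Ph_up_lo hφ hqq i t)
  exact h1 (mem_closure_SL2 g)

theorem up_inj (i : Fin 4) {a b : Fx φ ((Nodes.RGDTwNode.E6.rest i).length + 1)}
    (h : Ph hφ hqq i (up a) = Ph hφ hqq i (up b)) : a = b :=
  Phi_up_injective (foldGrp hφ hqq) (Nodes.RGDTwNode.E6.nodeOK i) (hf φ i) h

theorem Ph_disj (i : Fin 4) (a b : Fx φ ((Nodes.RGDTwNode.E6.rest i).length + 1))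
    (h : Ph hφ hqq i (up a) = Ph hφ hqq i (lo b)) : a = 0 ∧ b = 0 := by
  obtain ⟨p, hp'⟩ := CharP.exists K
  have : Fact p.Prime := ⟨CharP.char_is_prime K p⟩
  have hW : Finite CoxeterMatrix.F₄.Group := Nodes.RGDFold.finite_W (hp := Nodes.RGDTwE6.hp)
    CoxeterMatrix.F₄.toCoxeterSystem isCartan foldData
  have R := Nodes.RGDTwE6.rgd (K := K) CoxeterMatrix.F₄.toCoxeterSystem hφ hqq p
  have h1 : Ph hφ hqq i (lo b) ∈ X φ q (-sr i) ⊓ RGD.B CoxeterMatrix.F₄.toCoxeterSystem isCartan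
      (T K q) (X φ q) := by
    refine ⟨Ph_up_lo hφ hqq i b, ?_⟩
    rw [← h]
    exact RGD.X_le_B (isRoot_sr _ isCartan i) (sr_nonneg i) ((mem_X_Ph hφ hqq i _).2 ⟨a, rfl⟩)
  rw [neg_inf_B R i, Subgroup.mem_bot] at h1
  have ha : a = 0 := by
    apply up_inj hφ hqq i
    rw [h, h1, up_zero, map_one]
  refine ⟨ha, ?_⟩
  rw [lo_eq, map_mul, map_mul, map_inv, conj_eq_one_iff] at h1
  have h2 := up_inj hφ hqq i (a := -b) (b := 0) (by rw [h1, up_zero, map_one])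
  exact neg_eq_zero.1 h2

include hφ hqq in
/-- an element of odd prime order in a rank one group -/
theorem exists_elt (i : Fin 4) {ℓ : ℕ} (hℓ : ℓ.Prime) (hℓ2 : ℓ ≠ 2)
    (hk : ¬ ℓ ∣ Nat.card (Fx φ ((Nodes.RGDTwNode.E6.rest i).length + 1)))
    (hd : ℓ ∣ Nat.card (Fx φ ((Nodes.RGDTwNode.E6.rest i).length + 1)) ^ 2 - 1) :
    ∃ x ∈ X φ q (sr i) ⊔ X φ q (-sr i), x ^ ℓ = 1 ∧ x ≠ 1 := by
  obtain ⟨M, h1, h2⟩ := exists_sl_elt (Ph hφ hqq i) (fun t ht => up_inj hφ hqq i (by rw [ht, up_zero, map_one]))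
    (Ph_disj hφ hqq i) hℓ hℓ2 hk hd
  exact ⟨_, Ph_mem hφ hqq i M, h1, h2⟩

include hφ hqq in
theorem okN_iff {j : Fin 4} {d : K} (hdj : OkN φ j d) : φ^[(Nodes.RGDTwNode.E6.rest j).length + 1] d = d := by
  rcases hdj with h | h
  · have h2 : ∀ j : Fin 4, 2 ≤ (j : ℕ) → (Nodes.RGDTwNode.E6.rest j).length = 1 := by decide
    rw [h2 j h]
    exact phi_phi hφ hqq d
  · have h2 : ∀ k : ℕ, φ^[k] d = d := by
      intro k
      induction k with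
      | zero => rfl
      | succ k ih => rw [Function.iterate_succ_apply, h, ih]
    exact h2 _

include hφ hqq

/-- the torus elements of the nodes -/
theorem hh_eq {j : Fin 4} {d : K} (hd : d ≠ 0) (hdj : OkN φ j d) :
    hh φ q j d = Ph hφ hqq j (hS ⟨d, mem_Fx.2 (okN_iff hφ hqq hdj)⟩) := by
  apply Subtype.ext
  rw [(coe_hh hφ hqq hd hdj).1]
  show _ = Nodes.RGDFoldSL.Ph hp K (Nodes.RGDTwNode.E6.nodeOK j) φ (Matrix.SpecialLinearGroup.map _ (hS _))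
  rw [map_hS]
  exact (hv_eq_hI (Nodes.RGDTwNode.E6.nodeOK j).Jn (Nodes.RGDTwNode.E6.nodeOK j).lt _).symm

theorem hh_mem {j : Fin 4} {d : K} (hd : d ≠ 0) (hdj : OkN φ j d) :
    hh φ q j d ∈ X φ q (sr j) ⊔ X φ q (-sr j) := by
  rw [hh_eq hφ hqq hd hdj]
  exact Ph_mem hφ hqq j _

theorem hh_pow {j : Fin 4} {d : K} (hd : d ≠ 0) (hdj : OkN φ j d) {i : ℕ} (hi : d ^ i = 1) :
    hh φ q j d ^ i = 1 := by
  rw [hh_eq hφ hqq hd hdj, ← map_pow, hS_pow (fun h => hd (congrArg Subtype.val h))]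
  have h1 : (⟨d, mem_Fx.2 (okN_iff hφ hqq hdj)⟩ : Fx φ ((Nodes.RGDTwNode.E6.rest j).length + 1)) ^ i = 1 :=
    Subtype.ext hi
  rw [h1, hS_one, map_one]

end Nodes

/-! ### Transport of scalar actions -/

/-- `SPar` is compatible with conjugation -/
theorem SPar.cj {Y : Type*} [Group Y] {K : Type*} [Field K] {V : Subgroup Y} {g : Y} {t : K} (h : SPar V g t) (w : Y) :
    SPar (cj w V) (w * g * w⁻¹) t := by
  obtain ⟨F, ev, h1, h2, h3, h4, h5⟩ := h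
  refine ⟨F, fun a => w * ev a * w⁻¹, h1, ?_, ?_, ?_, ?_⟩
  · intro u
    constructor
    · intro hu
      obtain ⟨v, hv, rfl⟩ := hu
      obtain ⟨a, ha, rfl⟩ := (h2 v).1 hv
      exact ⟨a, ha, rfl⟩
    · rintro ⟨a, ha, rfl⟩
      exact conj_mem_cj.2 ((h2 _).2 ⟨a, ha, rfl⟩)
  · intro a ha b hb
    show w * ev (a + b) * w⁻¹ = w * ev a * w⁻¹ * (w * ev b * w⁻¹)
    rw [h3 a ha b hb]; group
  · intro a ha b hb hab
    exact h4 a ha b hb (mul_left_cancel (mul_right_cancel hab))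
  · intro a ha
    show w * g * w⁻¹ * (w * ev a * w⁻¹) * (w * g * w⁻¹)⁻¹ = w * ev (t * a) * w⁻¹
    rw [← h5 a ha]; group

end Cfsg.Agent.H400.Fpr.E6
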