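import Cfsg.Agent.H400.FprE6A
import Cfsg.Agent.H400.FprArith
import Cfsg.Agent.H400.FprD4H

/-!
# Fixed point ratios of `p`-elements: `²E₆(q)`, the Heisenberg group and its scalars (helper400, TEAM FPR)
-/

set_option autoImplicit false
set_option linter.unusedSectionVars false
set_option linter.unusedVariables false

namespace Cfsg.Agent.H400.Fpr.E6

open CoxeterSystem Cfsg.Agent.ChevalleyStructure.CoxeterGeom Cfsg.Agent.Tits.Roots Cfsg.Agent.Tits.Core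
  Cfsg.Agent.Nodes.Reps Cfsg.Agent.Nodes.BNOf Cfsg.Agent.Nodes.RGDTwGen Cfsg.Agent.Nodes.RGDChev Cfsg.Agent.Nodes.RGDFold
  Cfsg.Agent.Nodes.RGDFoldSL Cfsg.Agent.Nodes.RGDTwE6 Cfsg.Agent.Nodes.RGDTwCoord Cfsg.Agent.Nodes.RGDTwCoordE6
  Cfsg.Agent.Nodes.RGDTwComE6 Cfsg.Agent.Nodes.RGDTwActE6 Cfsg.Agent.Nodes.KindChev Cfsg.Agent.Nodes.Coroot
  Cfsg.Agent.Nodes.PosPair Cfsg.Agent.Nodes.LeviDec Cfsg.Agent.Nodes.StabComb Cfsg.Agent.Nodes.Bruhat
  Cfsg.Agent.Nodes.Unique Cfsg.Agent.KFacts.RgdTI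
open Cfsg.Lie Cfsg.Agent.ChevalleyStructure
open Cfsg.Agent.H400.TwoExc Cfsg.Agent.H400.TwoExc.TwE
open Cfsg.Agent.H398.FPR (CommFull UGood Pair)
open scoped commutatorElement MatrixGroups

universe u

local notation "cl" => Nodes.RGDTwCoord.cl chevE6 J O

/-- the highest root -/
def rr : Fin 4 → ℤ := toV [2, 3, 4, 2]

variable {K : Type u} [Field K] [Fintype K] {q : ℕ} {φ : K →+* K}

section

variable {W : Type*} [Group W] [Finite W] {cs : CoxeterSystem CoxeterMatrix.F₄ W}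

theorem exists_w (cs : CoxeterSystem CoxeterMatrix.F₄ W) : ∃ w : W, rep cs isCartan w rr = sr 0 := by
  have H := pr cs
  refine (orbit_iff (cs := cs) (h := isCartan) H.1 (d := toV dlF4t) (gr (cs := cs)).hd (r := rr) ?_
    (isRoot_sr cs isCartan 0)).2 (by decide +kernel)
  intro v hv h1 h2
  have h3 : ∀ px ∈ PF4t, (∀ i : Fin 4, 0 ≤ pairing Nodes.RGDTwE6.A i (toV px.1)) →
      qf Nodes.RGDTwE6.A (toV dlF4t) (toV px.1 : Fin 4 → ℤ) (toV px.1) =
        qf Nodes.RGDTwE6.A (toV dlF4t) rr rr → (toV px.1 : Fin 4 → ℤ) = rr := by decide +kernel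
  obtain ⟨px, hpx, rfl⟩ := List.mem_map.1 hv
  exact h3 px hpx h1 h2

variable (hφ : ∀ x, φ x = x ^ q) (hqq : ∀ t : K, (t ^ q) ^ q = t)

include hφ hqq

/-- scalar action of `h_{α₀}(t)` -/
theorem spar_node {z : Fin 4 → ℤ} (hz : IsRoot cs isCartan z) {t : K} (ht : φ t = t) (ht0 : t ≠ 0) {c : ℕ}
    (hc : pairing Nodes.RGDTwE6.A 0 z = c) : SPar (X φ q z) (hh φ q 0 t) (t ^ c) := by
  have hdj : OkN φ 0 t := Or.inr ht
  have hsc : sc φ 0 z t = t ^ c := by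
    unfold sc
    rw [if_pos (by norm_num), hc, zpow_natCast]
  rcases long_or_short hz with lz | sz
  · refine ⟨Fx φ 1, x φ q z, pow_mem (show t ∈ Fx φ 1 from mem_Fx.2 ht) c, ?_, ?_, ?_, ?_⟩
    · intro u
      rw [mem_X_long hφ hqq hz lz]
      exact ⟨fun ⟨a, ha, h⟩ => ⟨a, mem_Fx.2 ha, h⟩, fun ⟨a, ha, h⟩ => ⟨a, mem_Fx.1 ha, h⟩⟩
    · intro a ha b hb
      exact x_add hφ hqq hz (ok_long hz lz (mem_Fx.1 ha)) (ok_long hz lz (mem_Fx.1 hb))
    · intro a ha b hb h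
      exact x_inj hφ hqq hz (ok_long hz lz (mem_Fx.1 ha)) (ok_long hz lz (mem_Fx.1 hb)) h
    · intro a ha
      have h1 := (conj_hh hφ hqq hz ht0 hdj (ok_long hz lz (mem_Fx.1 ha))).2
      rwa [hsc] at h1
  · refine ⟨⊤, x φ q z, Subfield.mem_top _, ?_, ?_, ?_, ?_⟩
    · intro u
      rw [mem_X_short hφ hqq hz sz]
      simp
    · intro a ha b hb
      exact x_add hφ hqq hz (ok_short hφ hqq hz sz a) (ok_short hφ hqq hz sz b)
    · intro a ha b hb h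
      exact x_inj hφ hqq hz (ok_short hφ hqq hz sz a) (ok_short hφ hqq hz sz b) h
    · intro a ha
      have h1 := (conj_hh hφ hqq hz ht0 hdj (ok_short hφ hqq hz sz a)).2
      rwa [hsc] at h1

/-- **The scalar elements** of the highest root. -/
theorem exists_scalar (cs : CoxeterSystem CoxeterMatrix.F₄ W) {t : K} (ht : φ t = t) (ht0 : t ≠ 0) :
    ∃ g ∈ X φ q rr ⊔ X φ q (-rr), (∀ s ∈ Gt cs isCartan rr, s ≠ rr → SPar (X φ q s) g t) ∧
      SPar (X φ q rr) g (t ^ 2) ∧ ∀ i, t ^ i = 1 → g ^ i = 1 := by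
  obtain ⟨p, hp'⟩ := CharP.exists K
  have : Fact p.Prime := ⟨CharP.char_is_prime K p⟩
  have R := Nodes.RGDTwE6.rgd (K := K) cs hφ hqq p
  obtain ⟨w, hw⟩ := exists_w cs
  obtain ⟨g, hg⟩ := exists_rp cs R.nsys w⁻¹
  have hr : IsRoot cs isCartan rr := (gr (cs := cs)).rr
  have hX : ∀ z, IsRoot cs isCartan z → cj g (X φ q (rep cs isCartan w z)) = X φ q z := by
    intro z hz
    rw [R.conj_rp hg (hz.act w), rep_inv_apply]
  have hwn : rep cs isCartan w (-rr) = -sr 0 := by rw [map_neg, hw]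
  have hpair : ∀ s, IsRoot cs isCartan s → pairing Nodes.RGDTwE6.A 0 (rep cs isCartan w s) = cpr cs isCartan s rr := by
    intro s hs
    rw [← cpr_rep cs isCartan w s hr, hw, cpr_sr]
  refine ⟨g * hh φ q 0 t * g⁻¹, ?_, ?_, ?_, ?_⟩
  · have h1 := hh_mem hφ hqq ht0 (Or.inr ht : OkN φ 0 t)
    have h2 : cj g (X φ q (sr 0) ⊔ X φ q (-sr 0)) = X φ q rr ⊔ X φ q (-rr) := by
      rw [cj_sup, ← hw, hX _ hr, ← map_neg, hX _ hr.neg]
    rw [← h2]
    exact conj_mem_cj.2 h1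
  · intro s hs hsr
    have h1 : cpr cs isCartan s rr = 1 := (gr (cs := cs)).cpr_one hs.1 hsr hs.2
    have h2 := SPar.cj (spar_node hφ hqq (hs.1.act w) ht ht0 (c := 1) (by rw [hpair s hs.1, h1]; rfl)) g
    rwa [hX s hs.1, pow_one] at h2
  · have h2 := SPar.cj (spar_node hφ hqq (hr.act w) ht ht0 (c := 2) (by rw [hpair _ hr, cpr_self cs _ hr]; rfl)) g
    rwa [hX _ hr] at h2
  · intro i hi
    rw [conj_pow, hh_pow hφ hqq ht0 (Or.inr ht) hi, mul_one, mul_inv_cancel]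

omit hqq in
theorem exists_gen' (hK : Fintype.card K = q ^ 2) (hq1 : 1 < q) :
    ∃ t : K, φ t = t ∧ t ≠ 0 ∧ orderOf t = q - 1 := by
  have hc : Nat.card (Fx φ 1) = q := by
    refine Eq.trans (Nat.card_congr (Equiv.subtypeEquivRight fun x => ?_))
      (ChevalleyStructure.FixedCard.card_fixed hq1 hK)
    rw [mem_Fx, Function.iterate_one, hφ]
  obtain ⟨g, hg⟩ := IsCyclic.exists_generator (α := (Fx φ 1)ˣ)
  have h1 : orderOf g = q - 1 := by
    rw [orderOf_eq_card_of_forall_mem_zpowers hg, Nat.card_units, hc]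
  refine ⟨((g : Fx φ 1) : K), mem_Fx.1 (g : Fx φ 1).2, fun h => g.ne_zero (Subtype.ext h), ?_⟩
  rw [← h1, ← orderOf_units, ← orderOf_injective (Fx φ 1).subtype.toMonoidHom (Fx φ 1).subtype.injective]
  rfl

theorem exists_scR (hK : Fintype.card K = q ^ 2) (hq2 : 2 < q) (p : ℕ) [Fact p.Prime] [CharP K p] :
    ∃ g, ScR (Nodes.RGDTwE6.rgd cs hφ hqq p) rr q g := by
  obtain ⟨t, ht, ht0, hto⟩ := exists_gen' hφ hK (by omega)
  obtain ⟨g, hg, h1, h2, -⟩ := exists_scalar hφ hqq cs ht ht0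
  exact ⟨g, scR_of_par hq2 hg h1 h2 fun i hi hiq h3 => by
    have := Nat.le_of_dvd hi (orderOf_dvd_of_pow_eq_one h3)
    omega⟩

theorem card_QQE (hK : Fintype.card K = q ^ 2) (hq1 : 1 < q) (p : ℕ) [Fact p.Prime]
    [CharP K p] : Nat.card (QQ cs isCartan (X φ q) rr) = q ^ 21 := by
  have hc := card_QQ (Nodes.RGDTwE6.rgd cs hφ hqq p) (pr cs).1 (gr (cs := cs)).hd (gr (cs := cs)).rr
    (by decide +kernel) ((gr (cs := cs)).hdr) (q := q) eF4t
    (fun t ht => card_X (cs := cs) hφ hqq hK hq1 ((pr cs).1.isRoot ht))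
  show Nat.card (QQ cs isCartan (X φ q) (toV [2, 3, 4, 2])) = _
  rw [hc]
  congr 1

omit hφ hqq in
theorem exists_powE (hK : Fintype.card K = q ^ 2) (p : ℕ) [Fact p.Prime] [CharP K p] : ∃ f, q = p ^ f := by
  have hp : p.Prime := Fact.out
  obtain ⟨n, -, hn⟩ := FiniteField.card K p
  have h1 : q ∣ p ^ (n : ℕ) := by
    rw [← hn, hK]; exact dvd_pow_self q (by norm_num)
  obtain ⟨f, -, hf⟩ := (Nat.dvd_prime_pow hp).1 h1
  exact ⟨f, hf⟩

theorem isPGroup_QQE (hK : Fintype.card K = q ^ 2) (hq1 : 1 < q) (p : ℕ) [Fact p.Prime]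
    [CharP K p] : IsPGroup p (QQ cs isCartan (X φ q) rr) := by
  obtain ⟨f, hf⟩ := exists_powE hK p
  refine IsPGroup.of_card (n := f * 21) ?_
  rw [card_QQE hφ hqq hK hq1 p, hf, pow_mul]

theorem card_Xr (hK : Fintype.card K = q ^ 2) (hq1 : 1 < q) : Nat.card (X φ q rr) = q := by
  have h1 := card_X (cs := CoxeterMatrix.F₄.toCoxeterSystem) hφ hqq hK hq1 (t := rr)
    (gr (cs := CoxeterMatrix.F₄.toCoxeterSystem)).rr
  have he1 : eF4t rr = 1 := by decide +kernel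
  rwa [he1, pow_one] at h1

end

end Cfsg.Agent.H400.Fpr.E6
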