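import Cfsg.Agent.H400.FprE6B
import Cfsg.Agent.H400.FprClosed

/-!
# Fixed point ratios of `p`-elements: `²E₆(q)`, elements of `SL₂(q²)` (helper400, TEAM FPR)

The group `⟨X_{α₃}, X_{-α₃}⟩ ≅ SL₂(q²)` acts on `X_w X_{w+α₃}` (`w = 1110`, `1231`) as on its natural module.
-/

set_option autoImplicit false
set_option linter.unusedSectionVars false
set_option linter.unusedVariables false

namespace Cfsg.Agent.H400.Fpr.E6

open CoxeterSystem Cfsg.Agent.ChevalleyStructure.CoxeterGeom Cfsg.Agent.Tits.Roots Cfsg.Agent.Tits.Core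
  Cfsg.Agent.Nodes.Reps Cfsg.Agent.Nodes.BNOf Cfsg.Agent.Nodes.RGDTwGen Cfsg.Agent.Nodes.RGDChev Cfsg.Agent.Nodes.RGDFold
  Cfsg.Agent.Nodes.RGDFoldSL Cfsg.Agent.Nodes.RGDTwE6 Cfsg.Agent.Nodes.RGDTwCoord Cfsg.Agent.Nodes.RGDTwCoordE6
  Cfsg.Agent.Nodes.RGDTwComE6 Cfsg.Agent.Nodes.RGDTwActE6 Cfsg.Agent.Nodes.KindChev Cfsg.Agent.Nodes.Coroot
  Cfsg.Agent.Nodes.PosPair Cfsg.Agent.Nodes.LeviDec Cfsg.Agent.Nodes.StabComb Cfsg.Agent.Nodes.Bruhat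
  Cfsg.Agent.Nodes.Unique Cfsg.Agent.KFacts.RgdTI
open Cfsg.Lie Cfsg.Agent.ChevalleyStructure
open Cfsg.Agent.H400.TwoExc Cfsg.Agent.H400.TwoExc.TwE
open Cfsg.Agent.H398.FPR (CommFull UGood Pair)
open scoped commutatorElement MatrixGroups

universe u

local notation "cl" => Nodes.RGDTwCoord.cl chevE6 J O

variable {K : Type u} [Field K] [Fintype K] {q : ℕ} {φ : K →+* K}

/-- the roots -/
def α3 : Fin 4 → ℤ := toV [0, 0, 0, 1]

/-- a root of the table -/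
theorem isRoot_tab {W : Type*} [Group W] (cs : CoxeterSystem CoxeterMatrix.F₄ W) {v : Fin 4 → ℤ}
    (h : v ∈ PF4t.map fun p => (toV p.1 : Fin 4 → ℤ)) : IsRoot cs isCartan v := (pr cs).1.isRoot h

theorem not_root_tab {W : Type*} [Group W] (cs : CoxeterSystem CoxeterMatrix.F₄ W) {v : Fin 4 → ℤ}
    (h : v ∉ PF4t.map fun p => (toV p.1 : Fin 4 → ℤ)) (h' : -v ∉ PF4t.map fun p => (toV p.1 : Fin 4 → ℤ)) :
    ¬ IsRoot cs isCartan v := fun hv => by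
  rcases (pr cs).1.mem_of_root hv with h1 | h1
  · exact h h1
  · exact h' h1

section

variable {W : Type*} [Group W] [Finite W] (cs : CoxeterSystem CoxeterMatrix.F₄ W)
  (hφ : ∀ x, φ x = x ^ q) (hqq : ∀ t : K, (t ^ q) ^ q = t)

/-- the two modules: roots `w` -/
def wv : Fin 2 → Fin 4 → ℤ := ![toV [1, 1, 1, 0], toV [1, 2, 3, 1]]

/-- the roots `w + α₃` -/
def wv' : Fin 2 → Fin 4 → ℤ := ![toV [1, 1, 1, 1], toV [1, 2, 3, 2]]

theorem wv_add : ∀ s, α3 + wv s = wv' s := by decide +kernel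
theorem wv_sub : ∀ s, -α3 + wv' s = wv s := by decide +kernel

/-- the structure constants -/
def Nv (s : Fin 2) : ℤ := N α3 (wv s)

theorem Nv_val : ∀ s, Nv s = 1 ∨ Nv s = -1 := by decide +kernel
theorem Nv_neg : ∀ s, N (-α3) (wv' s) = Nv s := by decide +kernel

theorem Nv_sq (s : Fin 2) : ((Nv s : ℤ) : K) * ((Nv s : ℤ) : K) = 1 := by
  rcases Nv_val s with h | h <;> rw [h] <;> simp

include cs in
theorem isRoot_α3 : IsRoot cs isCartan α3 := isRoot_tab cs (by decide +kernel)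

theorem isRoot_wv (s : Fin 2) : IsRoot cs isCartan (wv s) := by
  have h : ∀ s, wv s ∈ PF4t.map fun p => (toV p.1 : Fin 4 → ℤ) := by decide +kernel
  exact isRoot_tab cs (h s)

theorem isRoot_wv' (s : Fin 2) : IsRoot cs isCartan (wv' s) := by
  have h : ∀ s, wv' s ∈ PF4t.map fun p => (toV p.1 : Fin 4 → ℤ) := by decide +kernel
  exact isRoot_tab cs (h s)

theorem st_α3 : St α3 := by unfold St; decide +kernel
theorem st_neg3 : St (-α3) := by unfold St; decide +kernel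
theorem st_wv : ∀ s, St (wv s) := by unfold St; decide +kernel
theorem st_wv' : ∀ s, St (wv' s) := by unfold St; decide +kernel

/-- the module -/
noncomputable def Ev (φ : K →+* K) (q : ℕ) (s : Fin 2) (v : Fin 2 → K) : ↥(twistedE6 K q) :=
  x φ q (wv' s) (((Nv s : ℤ) : K) * φ (v 1)) * x φ q (wv s) (v 0)

include hφ hqq cs

theorem x_addS {z : Fin 4 → ℤ} (hz : IsRoot cs isCartan z) (sz : St z) (a b : K) :
    x φ q z (a + b) = x φ q z a * x φ q z b :=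
  x_add hφ hqq hz (ok_short hφ hqq hz sz a) (ok_short hφ hqq hz sz b)

theorem comm_ww (s : Fin 2) (a b : K) : Commute (x φ q (wv s) a) (x φ q (wv' s) b) := by
  refine comm_nil hφ hqq (isRoot_wv cs s) (isRoot_wv' cs s) ?_ ?_ a b
  · have h : ∀ s, wv s + wv' s ∉ PF4t.map (fun p => (toV p.1 : Fin 4 → ℤ)) ∧
        -(wv s + wv' s) ∉ PF4t.map (fun p => (toV p.1 : Fin 4 → ℤ)) := by decide +kernel
    exact not_root_tab cs (h s).1 (h s).2
  · have h : ∀ s, wv' s ≠ -wv s := by decide +kernel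
    exact h s

theorem comm_3w' (s : Fin 2) (a b : K) : Commute (x φ q α3 a) (x φ q (wv' s) b) := by
  refine comm_nil hφ hqq (isRoot_α3 cs) (isRoot_wv' cs s) ?_ ?_ a b
  · have h : ∀ s, α3 + wv' s ∉ PF4t.map (fun p => (toV p.1 : Fin 4 → ℤ)) ∧
        -(α3 + wv' s) ∉ PF4t.map (fun p => (toV p.1 : Fin 4 → ℤ)) := by decide +kernel
    exact not_root_tab cs (h s).1 (h s).2
  · have h : ∀ s, wv' s ≠ -α3 := by decide +kernel
    exact h s

theorem comm_n3w (s : Fin 2) (a b : K) : Commute (x φ q (-α3) a) (x φ q (wv s) b) := by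
  refine comm_nil hφ hqq (isRoot_α3 cs).neg (isRoot_wv cs s) ?_ ?_ a b
  · have h : ∀ s, -α3 + wv s ∉ PF4t.map (fun p => (toV p.1 : Fin 4 → ℤ)) ∧
        -(-α3 + wv s) ∉ PF4t.map (fun p => (toV p.1 : Fin 4 → ℤ)) := by decide +kernel
    exact not_root_tab cs (h s).1 (h s).2
  · have h : ∀ s, wv s ≠ -(-α3) := by decide +kernel
    exact h s

theorem Ev_add (s : Fin 2) (u v : Fin 2 → K) : Ev φ q s u * Ev φ q s v = Ev φ q s (u + v) := by
  unfold Ev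
  rw [Pi.add_apply, Pi.add_apply, map_add, mul_add, x_addS cs hφ hqq (isRoot_wv' cs s) (st_wv' s),
    x_addS cs hφ hqq (isRoot_wv cs s) (st_wv s)]
  have h1 := (comm_ww cs hφ hqq s (u 0) (((Nv s : ℤ) : K) * φ (v 1))).eq
  calc x φ q (wv' s) (((Nv s : ℤ) : K) * φ (u 1)) * x φ q (wv s) (u 0) *
      (x φ q (wv' s) (((Nv s : ℤ) : K) * φ (v 1)) * x φ q (wv s) (v 0)) =
      x φ q (wv' s) (((Nv s : ℤ) : K) * φ (u 1)) * (x φ q (wv s) (u 0) *
      x φ q (wv' s) (((Nv s : ℤ) : K) * φ (v 1))) * x φ q (wv s) (v 0) := by group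
    _ = _ := by rw [h1]; group

theorem Ev_zero (s : Fin 2) : Ev φ q s 0 = 1 := by
  have h := Ev_add cs hφ hqq s 0 0
  rw [add_zero] at h
  exact mul_eq_left.1 h

theorem conj_up (s : Fin 2) (t : K) (v : Fin 2 → K) :
    x φ q α3 t * Ev φ q s v * (x φ q α3 t)⁻¹ = Ev φ q s ![v 0, v 1 + t * v 0] := by
  have h3 := isRoot_α3 cs
  have hw := isRoot_wv cs s
  have hw' := isRoot_wv' cs s
  have hsum : α3 + wv s = wv' s := wv_add s
  have h1 := comm_short hφ hqq h3 hw (by rw [hsum]; exact hw') st_α3 (st_wv s) (by rw [hsum]; exact st_wv' s)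
    t (v 0)
  rw [hsum] at h1
  have h2 := (comm_3w' cs hφ hqq s t (((Nv s : ℤ) : K) * φ (v 1))).eq
  unfold Ev
  have h4 : x φ q α3 t * (x φ q (wv' s) (((Nv s : ℤ) : K) * φ (v 1)) * x φ q (wv s) (v 0)) * (x φ q α3 t)⁻¹ =
      x φ q (wv' s) (((Nv s : ℤ) : K) * φ (v 1)) * ⁅x φ q α3 t, x φ q (wv s) (v 0)⁆ * x φ q (wv s) (v 0) := by
    rw [← mul_assoc, h2, commutatorElement_def]; group
  rw [h4, h1, ← x_addS cs hφ hqq hw' (st_wv' s)]
  congr 2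
  show ((Nv s : ℤ) : K) * φ (v 1) + ((N α3 (wv s) : ℤ) : K) * φ (t * v 0) = ((Nv s : ℤ) : K) * φ (v 1 + t * v 0)
  rw [map_add, mul_add]
  rfl

theorem conj_lo (s : Fin 2) (t : K) (v : Fin 2 → K) :
    x φ q (-α3) t * Ev φ q s v * (x φ q (-α3) t)⁻¹ = Ev φ q s ![v 0 + φ t * v 1, v 1] := by
  have h3 := (isRoot_α3 cs).neg
  have hw := isRoot_wv cs s
  have hw' := isRoot_wv' cs s
  have hsum : -α3 + wv' s = wv s := wv_sub s
  have h1 := comm_short hφ hqq h3 hw' (by rw [hsum]; exact hw) st_neg3 (st_wv' s) (by rw [hsum]; exact st_wv s)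
    t (((Nv s : ℤ) : K) * φ (v 1))
  rw [hsum, Nv_neg] at h1
  have h2 := (comm_n3w cs hφ hqq s t (v 0)).eq
  have h5 : ((Nv s : ℤ) : K) * φ (t * (((Nv s : ℤ) : K) * φ (v 1))) = φ t * v 1 := by
    rw [map_mul, map_mul, map_intCast, phi_phi hφ hqq]
    calc ((Nv s : ℤ) : K) * (φ t * (((Nv s : ℤ) : K) * v 1)) =
        (((Nv s : ℤ) : K) * ((Nv s : ℤ) : K)) * (φ t * v 1) := by ring
      _ = _ := by rw [Nv_sq, one_mul]
  rw [h5] at h1
  unfold Ev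
  have h6 := (comm_ww cs hφ hqq s (φ t * v 1) (((Nv s : ℤ) : K) * φ (v 1))).eq
  have h4 : x φ q (-α3) t * (x φ q (wv' s) (((Nv s : ℤ) : K) * φ (v 1)) * x φ q (wv s) (v 0)) * (x φ q (-α3) t)⁻¹ =
      ⁅x φ q (-α3) t, x φ q (wv' s) (((Nv s : ℤ) : K) * φ (v 1))⁆ * x φ q (wv' s) (((Nv s : ℤ) : K) * φ (v 1)) *
        (x φ q (-α3) t * x φ q (wv s) (v 0)) * (x φ q (-α3) t)⁻¹ := by
    rw [commutatorElement_def]; group
  rw [h4, h2, h1, h6]
  have h7 : ((Nv s : ℤ) : K) * φ (![v 0 + φ t * v 1, v 1] 1) = ((Nv s : ℤ) : K) * φ (v 1) := rfl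
  have h8 : (![v 0 + φ t * v 1, v 1] : Fin 2 → K) 0 = φ t * v 1 + v 0 := add_comm _ _
  rw [h7, h8, x_addS cs hφ hqq hw (st_wv s)]
  group

/-- the lift of the natural representation -/
theorem lift_top : liftSub (Y := ↥(twistedE6 K q)) (X φ q α3 ⊔ X φ q (-α3))
    (fun _ : Fin 2 => MonoidHom.id (Matrix.SpecialLinearGroup (Fin 2) K)) (fun _ => ⊥) (Ev φ q) = ⊤ := by
  refine liftSub_eq_top le_rfl ?_
  have hZ : ∀ g : ↥(twistedE6 K q), ∀ z, z ∈ (⊥ : Subgroup ↥(twistedE6 K q)) ↔ g * z * g⁻¹ ∈ (⊥ : Subgroup _) := by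
    intro g z
    rw [Subgroup.mem_bot, Subgroup.mem_bot, conj_eq_one_iff]
  intro i j hij c
  have hcases : (i = 1 ∧ j = 0) ∨ (i = 0 ∧ j = 1) := by
    fin_cases i <;> fin_cases j <;> simp_all
  rcases hcases with ⟨rfl, rfl⟩ | ⟨rfl, rfl⟩
  · refine ⟨x φ q α3 c, Subgroup.mem_sup_left ((mem_X_short hφ hqq (isRoot_α3 cs) st_α3 _).2 ⟨c, rfl⟩), fun s =>
      ⟨hZ _, fun v => ⟨1, one_mem _, ?_⟩⟩⟩
    show x φ q α3 c * Ev φ q s v * (x φ q α3 c)⁻¹ = 1 * Ev φ q s _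
    rw [conj_up cs hφ hqq, one_mul]
    congr 1
    rw [MonoidHom.id_apply, tr_mulVec]
    funext k
    fin_cases k
    · simp
    · simp
  · refine ⟨x φ q (-α3) (φ c), Subgroup.mem_sup_right ((mem_X_short hφ hqq (isRoot_α3 cs).neg st_neg3 _).2 ⟨_, rfl⟩),
      fun s => ⟨hZ _, fun v => ⟨1, one_mem _, ?_⟩⟩⟩
    show x φ q (-α3) (φ c) * Ev φ q s v * (x φ q (-α3) (φ c))⁻¹ = 1 * Ev φ q s _
    rw [conj_lo cs hφ hqq, one_mul, phi_phi hφ hqq]
    congr 1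
    rw [MonoidHom.id_apply, tr_mulVec]
    funext k
    fin_cases k
    · simp
    · simp

/-- the lower bound of `[Q, x] Z` -/
theorem Ev_mem {g : ↥(twistedE6 K q)} {M : Matrix.SpecialLinearGroup (Fin 2) K} (hM : ∀ v : Fin 2 → K,
    M.1.mulVec v = v → v = 0) (hg : ∀ s : Fin 2, (g, M) ∈ relSub (⊥ : Subgroup ↥(twistedE6 K q)) (Ev φ q s))
    {V : Subgroup ↥(twistedE6 K q)} (hV : ∀ w ∈ QQ cs isCartan (X φ q) rr, ⁅g, w⁆ ∈ V) (s : Fin 2) (u : Fin 2 → K) :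
    Ev φ q s u ∈ V := by
  have hin : Function.Injective fun v : Fin 2 → K => M.1.mulVec v - v := by
    intro v w hvw
    have h1 : M.1.mulVec v - v = M.1.mulVec w - w := hvw
    have h2 : M.1.mulVec (v - w) = v - w := by
      rw [Matrix.mulVec_sub]
      have h3 : M.1.mulVec v - M.1.mulVec w = (M.1.mulVec v - v) - (M.1.mulVec w - w) + (v - w) := by abel
      rw [h3, h1, sub_self, zero_add]
    exact sub_eq_zero.1 (hM _ h2)
  obtain ⟨v, hv⟩ := (Finite.injective_iff_surjective.1 hin) u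
  have hv' : M.1.mulVec v = u + v := by
    rw [← hv]
    show M.1.mulVec v = M.1.mulVec v - v + v
    abel
  obtain ⟨z, hz, e⟩ := (hg s).2 v
  rw [Subgroup.mem_bot] at hz
  simp only at e
  rw [hz, one_mul, hv', ← Ev_add cs hφ hqq] at e
  have hE : Ev φ q s v ∈ QQ cs isCartan (X φ q) rr := by
    have h1 : ∀ s, 0 < qf Nodes.RGDTwE6.A (toV dlF4t) (wv s) rr ∧ 0 < qf Nodes.RGDTwE6.A (toV dlF4t) (wv' s) rr := by
      decide +kernel
    have h2 := fun t => (cpr_sign (gr (cs := cs)).hd (gr (cs := cs)).rr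
      ((gr (cs := cs)).qf_pos (gr (cs := cs)).rr) t).2
    have h3 : X φ q (wv s) ≤ QQ cs isCartan (X φ q) rr :=
      RGD.le_Sup (show wv s ∈ Gt cs isCartan rr from ⟨isRoot_wv cs s, (h2 _).2 (h1 s).1⟩)
    have h4 : X φ q (wv' s) ≤ QQ cs isCartan (X φ q) rr :=
      RGD.le_Sup (show wv' s ∈ Gt cs isCartan rr from ⟨isRoot_wv' cs s, (h2 _).2 (h1 s).2⟩)
    exact mul_mem (h4 ((mem_X_short hφ hqq (isRoot_wv' cs s) (st_wv' s) _).2 ⟨_, rfl⟩))
      (h3 ((mem_X_short hφ hqq (isRoot_wv cs s) (st_wv s) _).2 ⟨_, rfl⟩))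
  have h1 := hV _ hE
  rw [commutatorElement_def, e, mul_inv_cancel_right] at h1
  exact h1

theorem X_le_of_Ev {V : Subgroup ↥(twistedE6 K q)} (s : Fin 2) (h : ∀ u, Ev φ q s u ∈ V) :
    X φ q (wv s) ≤ V ∧ X φ q (wv' s) ≤ V := by
  constructor
  · intro g hg
    obtain ⟨a, rfl⟩ := (mem_X_short hφ hqq (isRoot_wv cs s) (st_wv s) g).1 hg
    have h1 := h ![a, 0]
    unfold Ev at h1
    have h2 : ((Nv s : ℤ) : K) * φ ((![a, 0] : Fin 2 → K) 1) = 0 := by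
      show ((Nv s : ℤ) : K) * φ 0 = 0
      rw [map_zero, mul_zero]
    rw [h2, x_zero hφ hqq (isRoot_wv' cs s), one_mul] at h1
    exact h1
  · intro g hg
    obtain ⟨a, rfl⟩ := (mem_X_short hφ hqq (isRoot_wv' cs s) (st_wv' s) g).1 hg
    have h1 := h ![0, φ (((Nv s : ℤ) : K) * a)]
    unfold Ev at h1
    have h2 : ((Nv s : ℤ) : K) * φ ((![0, φ (((Nv s : ℤ) : K) * a)] : Fin 2 → K) 1) = a := by
      show ((Nv s : ℤ) : K) * φ (φ (((Nv s : ℤ) : K) * a)) = a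
      rw [phi_phi hφ hqq, ← mul_assoc, Nv_sq, one_mul]
    have h3 : (![0, φ (((Nv s : ℤ) : K) * a)] : Fin 2 → K) 0 = 0 := rfl
    rw [h2, h3, x_zero hφ hqq (isRoot_wv cs s), mul_one] at h1
    exact h1

/-- the roots of the lower bound -/
def s5 : Finset (Fin 4 → ℤ) := {rr, wv 0, wv' 0, wv 1, wv' 1}

theorem card_V (hK : Fintype.card K = q ^ 2) (hq1 : 1 < q) {V : Subgroup ↥(twistedE6 K q)} (hr : X φ q rr ≤ V)
    (h : ∀ s : Fin 2, X φ q (wv s) ≤ V ∧ X φ q (wv' s) ≤ V) : q ^ (2 * 4) * Nat.card (X φ q rr) ≤ Nat.card V := by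
  obtain ⟨p, hp'⟩ := CharP.exists K
  have : Fact p.Prime := ⟨CharP.char_is_prime K p⟩
  have h1 := card_sup_check (Nodes.RGDTwE6.rgd (K := K) cs hφ hqq p) (pr cs).1 (S := s5) (by decide +kernel)
    (by decide +kernel)
  have h2 : RGD.Sup (X φ q) ((s5 : Finset (Fin 4 → ℤ)) : Set (Fin 4 → ℤ)) ≤ V := by
    refine RGD.Sup_le fun z hz => ?_
    have hz' := Finset.mem_coe.1 hz
    unfold s5 at hz'
    simp only [Finset.mem_insert, Finset.mem_singleton] at hz'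
    rcases hz' with rfl | rfl | rfl | rfl | rfl
    · exact hr
    · exact (h 0).1
    · exact (h 0).2
    · exact (h 1).1
    · exact (h 1).2
  have h3 : ∏ z ∈ s5, Nat.card (X φ q z) = q ^ 9 := by
    have h4 : ∀ z ∈ s5, Nat.card (X φ q z) = q ^ eF4t z := fun z hz => by
      have h5 : ∀ z ∈ s5, z ∈ PF4t.map fun p => (toV p.1 : Fin 4 → ℤ) := by decide +kernel
      exact card_X (cs := cs) hφ hqq hK hq1 (isRoot_tab cs (h5 z hz))
    rw [Finset.prod_congr rfl h4, Finset.prod_pow_eq_pow_sum]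
    congr 1
  rw [card_Xr hφ hqq hK hq1, ← pow_succ]
  calc q ^ (2 * 4 + 1) = q ^ 9 := rfl
    _ = _ := h3.symm
    _ = _ := h1.symm
    _ ≤ _ := Subgroup.card_le_of_le h2

/-- **Elements of `SL₂(q²)`.** -/
theorem uGood_sl (hK : Fintype.card K = q ^ 2) (hs : IsSimpleGroup ↥(twistedE6 K q))
    (hcen : Subgroup.center ↥(twistedE6 K q) = ⊥) (hq2 : 2 < q) (p : ℕ) [Fact p.Prime] [CharP K p]
    {ℓ : ℕ} (hℓ : ℓ.Prime) (hℓp : ℓ ≠ p) {a : ℕ} {M : Matrix.SpecialLinearGroup (Fin 2) K} (hMa : M ^ ℓ ^ a = 1)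
    (hM : ∀ v : Fin 2 → K, M.1.mulVec v = v → v = 0) {M' : ℕ}
    (hM' : ∀ t : ℕ, t ≠ 0 → p ^ t ≡ 1 [MOD ℓ] → M' ≤ p ^ t) (hb : 14 * M' + 1 ≤ q ^ 4 + 14) :
    ∃ g : ↥(twistedE6 K q), (∃ b, g ^ ℓ ^ b = 1) ∧ UGood 1 M' g := by
  obtain ⟨g, hgL, ⟨b, hgb⟩, hg⟩ := exists_lift_sl (lift_top cs hφ hqq) hℓ hMa
  have hq1 : 1 < q := by omega
  have H : Hs (Nodes.RGDTwE6.rgd cs hφ hqq p) rr := (gi hφ hqq p hK hq1).hs
  have hG1 := Nodes.RGDTwE6.G1_eq_top cs hφ hqq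
  obtain ⟨h, S⟩ := exists_scR (cs := cs) hφ hqq hK hq2 p
  have hgL0 : g ∈ L0 cs isCartan (X φ q) rr := by
    have hc : cpr cs isCartan α3 rr = 0 :=
      cpr_val (gr (cs := cs)).hd (gr (cs := cs)).rr (by decide +kernel) (by decide +kernel)
    have hr := isRoot_α3 cs
    refine (sup_le ?_ ?_ : X φ q α3 ⊔ X φ q (-α3) ≤ _) hgL
    · exact RGD.le_Sup (S := {s | IsRoot cs isCartan s ∧ cpr cs isCartan s rr = 0}) ⟨hr, hc⟩
    · refine RGD.le_Sup (S := {s | IsRoot cs isCartan s ∧ cpr cs isCartan s rr = 0}) ⟨hr.neg, ?_⟩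
      rw [← neg_one_smul ℤ α3, cpr_smul cs isCartan _ _ (show IsRoot cs isCartan rr from (gr (cs := cs)).rr), hc,
        mul_zero]
  have hg1 : g ≠ 1 := by
    rintro rfl
    have h1 := fun u => Ev_mem cs hφ hqq hM (fun s => hg s) (V := ⊥) (fun w _ => by
      rw [Subgroup.mem_bot, commutatorElement_one_left]) 0 u
    have h2 := (X_le_of_Ev cs hφ hqq 0 h1).1
    rw [le_bot_iff] at h2
    exact X_ne_bot (Nodes.RGDTwE6.rgd cs hφ hqq p) (isRoot_wv cs 0) h2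
  refine ⟨g, ⟨b, hgb⟩, ?_⟩
  refine sharp_rgd (c := 4) (D := 12) H hs hcen hG1 S hℓ hℓp hgL0 hgb hg1 (isPGroup_QQE hφ hqq hK hq1 p) ?_ ?_ hM' hb
  · intro V hrV hVQ hV
    exact card_V cs hφ hqq hK hq1 hrV fun s => X_le_of_Ev cs hφ hqq s fun u =>
      Ev_mem cs hφ hqq hM (fun s => hg s) hV s u
  · rw [card_QQE hφ hqq hK hq1 p, card_Xr hφ hqq hK hq1, ← pow_succ]

end

end Cfsg.Agent.H400.Fpr.E6
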