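import Cfsg.Agent.H400.FprE6C
import Mathlib.Tactic.NormNum.Prime

/-!
# Fixed point ratios of `p`-elements: `²E₆(q)`, primes dividing `q⁴ - 1`, `q > 2` (helper400, TEAM FPR)
-/

set_option autoImplicit false
set_option linter.unusedSectionVars false
set_option linter.unusedVariables false

namespace Cfsg.Agent.H400.Fpr

open Cfsg.Agent.H398.FPR (UGood Good)

/-- powers of a prime which are `1` modulo `ℓ` -/
theorem succ_le_pow {p ℓ : ℕ} (hp : p.Prime) {t : ℕ} (ht : t ≠ 0) (h : p ^ t ≡ 1 [MOD ℓ]) : ℓ + 1 ≤ p ^ t := by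
  have h1 : 1 < p ^ t := Nat.one_lt_pow ht hp.one_lt
  have h2 : ℓ ∣ p ^ t - 1 := (Nat.modEq_iff_dvd' h1.le).1 h.symm
  have h3 := Nat.le_of_dvd (by omega) h2
  omega

theorem good_of_uGood' {Y : Type*} [Group Y] [Finite Y] {ℓ : ℕ} (hℓ : ℓ.Prime) {x : Y} (hx : ∃ b, x ^ ℓ ^ b = 1)
    (h : UGood 1 (ℓ + 1) x) : Good 1 (ℓ + 1) ℓ Y := by
  obtain ⟨b, hb⟩ := hx
  obtain ⟨m, -, hm⟩ := (Nat.dvd_prime_pow hℓ).1 (orderOf_dvd_of_pow_eq_one hb)
  exact h.good ⟨m, hm⟩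

namespace E6

open CoxeterSystem Cfsg.Agent.ChevalleyStructure.CoxeterGeom Cfsg.Agent.Tits.Roots Cfsg.Agent.Tits.Core
  Cfsg.Agent.Nodes.Reps Cfsg.Agent.Nodes.BNOf Cfsg.Agent.Nodes.RGDTwGen Cfsg.Agent.Nodes.RGDChev Cfsg.Agent.Nodes.RGDFold
  Cfsg.Agent.Nodes.RGDFoldSL Cfsg.Agent.Nodes.RGDTwE6
open Cfsg.Lie Cfsg.Agent.ChevalleyStructure

universe u

variable {K : Type u} [Field K] [Fintype K] {q : ℕ} {φ : K →+* K}

/-- **`²E₆(q)`, primes dividing `q⁴ - 1`, `q > 2`.** -/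
theorem good_four (hs : IsSimpleGroup ↥(twistedE6 K q)) (hcen : Subgroup.center ↥(twistedE6 K q) = ⊥)
    (hK : Fintype.card K = q ^ 2) (hφ : ∀ x, φ x = x ^ q) (hqq : ∀ t : K, (t ^ q) ^ q = t)
    (hq2 : 2 < q) (p : ℕ) [Fact p.Prime] [CharP K p] {ℓ : ℕ} (hℓ : ℓ.Prime) (hℓp : ℓ ≠ p) (hd : ℓ ∣ q ^ 4 - 1) :
    Good 1 (ℓ + 1) ℓ ↥(twistedE6 K q) := by
  let cs : CoxeterSystem CoxeterMatrix.F₄ _ := CoxeterMatrix.F₄.toCoxeterSystem
  have hW : Finite CoxeterMatrix.F₄.Group := Nodes.RGDFold.finite_W (hp := Nodes.RGDTwE6.hp) cs isCartan foldData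
  have hp : p.Prime := Fact.out
  have hfin : Finite ↥(twistedE6 K q) := inferInstance
  have hM' : ∀ t : ℕ, t ≠ 0 → p ^ t ≡ 1 [MOD ℓ] → ℓ + 1 ≤ p ^ t := fun t ht h => succ_le_pow hp ht h
  have hcK : Nat.card K = q ^ 2 := by rw [Nat.card_eq_fintype_card, hK]
  have hqs : (81 : ℕ) ≤ q ^ 4 := by
    calc 81 = 3 ^ 4 := by norm_num
      _ ≤ q ^ 4 := Nat.pow_le_pow_left (by omega) 4
  by_cases hℓ2 : ℓ = 2
  · subst hℓ2
    have h2 : (2 : K) ≠ 0 := by
      intro h0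
      have h1 : p ∣ 2 := (CharP.cast_eq_zero_iff K p 2).1 (by exact_mod_cast h0)
      exact hℓp ((Nat.prime_dvd_prime_iff_eq hp Nat.prime_two).1 h1).symm
    obtain ⟨M, h3, h4⟩ := exists_fpf_quat (k := K) h2
    obtain ⟨g, hg, hu⟩ := uGood_sl cs hφ hqq hK hs hcen hq2 p hℓ hℓp (a := 2) (M := M) h3 (fun v hv => h4 v (by
      rw [pow_two]
      show (M.1 * M.1).mulVec v = v
      rw [← Matrix.mulVec_mulVec, hv, hv])) hM' (by omega)
    exact good_of_uGood' hℓ hg hu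
  · have hℓq : ¬ ℓ ∣ q := by
      intro h1
      have h2 : ℓ ∣ q ^ 4 := h1.trans (dvd_pow_self q (by norm_num))
      have h3 := (Nat.dvd_sub_iff_right (by omega : 1 ≤ q ^ 4) h2).1 hd
      exact hℓ.one_lt.ne' (Nat.dvd_one.1 h3)
    obtain ⟨M, h3, h4⟩ := exists_fpf_two (k := K) hℓ hℓ2 (by
      rw [hcK]; exact fun h1 => hℓq (hℓ.dvd_of_dvd_pow h1)) (by
      rw [hcK, ← pow_mul]; exact hd)
    obtain ⟨g, hg, hu⟩ := uGood_sl cs hφ hqq hK hs hcen hq2 p hℓ hℓp (a := 1) (M := M) (by rw [pow_one]; exact h3) h4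
      hM' (by
        have h5 : ℓ ∣ (q ^ 2 + 1) * ((q + 1) * (q - 1)) := by
          have e : (q ^ 2 + 1) * ((q + 1) * (q - 1)) = q ^ 4 - 1 := by
            obtain ⟨m, rfl⟩ : ∃ m, q = m + 1 := ⟨q - 1, by omega⟩
            rw [Nat.add_sub_cancel]
            have e2 : (m + 1) ^ 4 = ((m + 1) ^ 2 + 1) * ((m + 1 + 1) * m) + 1 := by ring
            rw [e2, Nat.add_sub_cancel]
          rwa [e]
        rcases Nat.lt_or_ge q 4 with h6 | h6
        · have h7 : q = 3 := by omega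
          subst h7
          have h8 : ℓ ∣ 2 ^ 4 * 5 := by
            have : (3 ^ 2 + 1) * ((3 + 1) * (3 - 1)) = 2 ^ 4 * 5 := by norm_num
            rwa [this] at h5
          have h9 : ℓ ∣ 5 := by
            rcases (Nat.Prime.dvd_mul hℓ).1 h8 with h10 | h10
            · exact absurd ((Nat.prime_dvd_prime_iff_eq hℓ Nat.prime_two).1 (hℓ.dvd_of_dvd_pow h10)) hℓ2
            · exact h10
          have h10 := Nat.le_of_dvd (by norm_num) h9
          omega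
        · have h7 : ℓ ≤ q ^ 2 + 1 := by
            rcases (Nat.Prime.dvd_mul hℓ).1 h5 with h8 | h8
            · exact Nat.le_of_dvd (by positivity) h8
            · rcases (Nat.Prime.dvd_mul hℓ).1 h8 with h9 | h9
              · have := Nat.le_of_dvd (by positivity) h9
                nlinarith
              · have := Nat.le_of_dvd (by omega) h9
                have h10 : q ≤ q ^ 2 := by nlinarith
                omega
          have h8 : 14 * q ^ 2 + 15 ≤ q ^ 4 := by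
            have h9 : 16 ≤ q ^ 2 := by nlinarith
            nlinarith
          omega)
    exact good_of_uGood' hℓ hg hu

end E6

end Cfsg.Agent.H400.Fpr
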