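import Cfsg.Agent.H400.FprE6D
import Cfsg.Agent.H400.FprHerm

/-!
# Fixed point ratios of `p`-elements: `²E₆(q)`, Hermitian forms (helper400, TEAM FPR)

The group `⟨X_{±α₂}, X_{±α₃}⟩ ≅ SL₃(q²)` acts on `X_{1100} X_{1110} X_{1120} X_{1111} X_{1121} X_{1122}` as on the
Hermitian `3 × 3`-matrices; here we only use the elements with parameters in `F_q`.
-/

set_option autoImplicit false
set_option linter.unusedSectionVars false
set_option linter.unusedVariables false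

namespace Cfsg.Agent.H400.Fpr.E6

open CoxeterSystem Cfsg.Agent.ChevalleyStructure.CoxeterGeom Cfsg.Agent.Tits.Roots Cfsg.Agent.Tits.Core
  Cfsg.Agent.Nodes.Reps Cfsg.Agent.Nodes.BNOf Cfsg.Agent.Nodes.RGDTwGen Cfsg.Agent.Nodes.RGDChev Cfsg.Agent.Nodes.RGDFold
  Cfsg.Agent.Nodes.RGDFoldSL Cfsg.Agent.Nodes.RGDTwE6 Cfsg.Agent.Nodes.RGDTwCoord Cfsg.Agent.Nodes.RGDTwCoordE6
  Cfsg.Agent.Nodes.RGDTwComE6 Cfsg.Agent.Nodes.RGDTwActE6 Cfsg.Agent.Nodes.KindChev Cfsg.Agent.Nodes.Coroot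
  Cfsg.Agent.Nodes.PosPair Cfsg.Agent.Nodes.LeviDec Cfsg.Agent.Nodes.StabComb Cfsg.Agent.Nodes.Bruhat
  Cfsg.Agent.Nodes.Unique Cfsg.Agent.KFacts.RgdTI
open Cfsg.Lie Cfsg.Agent.ChevalleyStructure
open Cfsg.Agent.H400.TwoExc Cfsg.Agent.H400.TwoExc.TwE
open Cfsg.Agent.H398.FPR (CommFull UGood Pair)
open scoped commutatorElement MatrixGroups

universe u

local notation "cl" => Nodes.RGDTwCoord.cl chevE6 J O

variable {K : Type u} [Field K] [Fintype K] {q : ℕ} {φ : K →+* K}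

/-- the roots of the module -/
def Hr : Fin 3 → Fin 3 → (Fin 4 → ℤ) :=
  ![![toV [1,1,0,0], toV [1,1,1,0], toV [1,1,1,1]],
    ![toV [1,1,1,0], toV [1,1,2,0], toV [1,1,2,1]],
    ![toV [1,1,1,1], toV [1,1,2,1], toV [1,1,2,2]]]

/-- the roots of `SL₃` -/
def Ar : Fin 3 → Fin 3 → (Fin 4 → ℤ) :=
  ![![0, -toV [0,0,1,0], -toV [0,0,1,1]],
    ![toV [0,0,1,0], 0, -toV [0,0,0,1]],
    ![toV [0,0,1,1], toV [0,0,0,1], 0]]

/-- signs -/
def eH : Fin 3 → Fin 3 → ℤ := ![![1, 1, 1], ![1, 1, -1], ![1, -1, -1]]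

/-- signs -/
def cA : Fin 3 → Fin 3 → ℤ := ![![0, 1, -1], ![1, 0, 1], ![1, 1, 0]]

theorem Hr_tab : ∀ i j, Hr i j ∈ PF4t.map fun p => (toV p.1 : Fin 4 → ℤ) := by decide +kernel
theorem Ar_tab : ∀ i j, i ≠ j → Ar i j ∈ (PF4t.map fun p => (toV p.1 : Fin 4 → ℤ)) ∨
    -Ar i j ∈ (PF4t.map fun p => (toV p.1 : Fin 4 → ℤ)) := by decide +kernel
theorem Hr_symm : ∀ i j, Hr i j = Hr j i := by decide +kernel
theorem eH_symm : ∀ i j, eH i j = eH j i := by decide +kernel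
theorem Ar_neg : ∀ i j, Ar j i = -Ar i j := by decide +kernel
theorem Hr_long : ∀ i, Lg (Hr i i) := by unfold Lg; decide +kernel
theorem Hr_short : ∀ i j, i ≠ j → St (Hr i j) := by unfold St; decide +kernel
theorem Ar_short : ∀ i j, i ≠ j → St (Ar i j) := by unfold St; decide +kernel
theorem Ar_Hr : ∀ i j k, i ≠ j → Ar i j + Hr j k = Hr i k := by decide +kernel
theorem Hr_Ar : ∀ i j, i ≠ j → Hr j j + Ar i j = Hr i j ∧ Hr j j + (2 : ℤ) • Ar i j = Hr i i := by decide +kernel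
theorem Hr_Hr : ∀ i j k l, (Hr i j + Hr k l ∉ PF4t.map (fun p => (toV p.1 : Fin 4 → ℤ)) ∧
    -(Hr i j + Hr k l) ∉ PF4t.map (fun p => (toV p.1 : Fin 4 → ℤ))) ∧ Hr k l ≠ -Hr i j := by decide +kernel
theorem Ar_Hr' : ∀ i j k l, i ≠ j → k ≠ j → l ≠ j → (Ar i j + Hr k l ∉ PF4t.map (fun p => (toV p.1 : Fin 4 → ℤ)) ∧
    -(Ar i j + Hr k l) ∉ PF4t.map (fun p => (toV p.1 : Fin 4 → ℤ))) ∧ Hr k l ≠ -Ar i j := by decide +kernel

/-- the signs -/
theorem sg1 : ∀ i j, i ≠ j → -N (Hr j j) (Ar i j) * eH j j = cA i j * eH i j ∧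
    -N2 (Hr j j) (Ar i j) * eH j j = eH i i := by decide +kernel
theorem sg2 : ∀ i j, i ≠ j → N (Ar i j) (Hr i j) * eH i j = eH i i * cA i j := by decide +kernel
theorem sg3 : ∀ i j k, i ≠ j → k ≠ i → k ≠ j → N (Ar i j) (Hr j k) * eH j k = eH i k * cA i j := by decide +kernel
theorem cA_sq : ∀ i j, i ≠ j → cA i j * cA i j = 1 := by decide +kernel
theorem eH_sq : ∀ i j, eH i j * eH i j = 1 := by decide +kernel

/-! ### Hermitian matrices -/

/-- Hermitian matrices -/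
def Herm (φ : K →+* K) : AddSubgroup (Matrix (Fin 3) (Fin 3) K) where
  carrier := {S | ∀ i j, φ (S i j) = S j i}
  zero_mem' := fun i j => map_zero φ
  add_mem' := fun {S T} hS hT i j => by
    show φ (S i j + T i j) = S j i + T j i
    rw [map_add, hS i j, hT i j]
  neg_mem' := fun {S} hS i j => by
    show φ (-S i j) = -S j i
    rw [map_neg, hS i j]

/-- diagonal elementary matrices -/
def dg (i : Fin 3) (a : K) : Matrix (Fin 3) (Fin 3) K := Matrix.single i i a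

/-- off-diagonal elementary matrices -/
def oo (φ : K →+* K) (i j : Fin 3) (u : K) : Matrix (Fin 3) (Fin 3) K :=
  Matrix.single i j u + Matrix.single j i (φ u)

theorem dg_mem (i : Fin 3) {a : K} (ha : φ a = a) : dg i a ∈ Herm φ := by
  intro k l
  unfold dg
  rw [Matrix.single_apply, Matrix.single_apply, apply_ite φ, ha, map_zero]
  congr 1
  exact propext ⟨fun h => ⟨h.2, h.1⟩, fun h => ⟨h.2, h.1⟩⟩

theorem oo_mem (hφφ : ∀ x, φ (φ x) = x) (i j : Fin 3) (u : K) : oo φ i j u ∈ Herm φ := by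
  intro k l
  unfold oo
  rw [Matrix.add_apply, Matrix.add_apply, map_add, Matrix.single_apply, Matrix.single_apply, Matrix.single_apply,
    Matrix.single_apply, apply_ite φ, apply_ite φ, hφφ, map_zero, add_comm]
  congr 1
  · congr 1
    exact propext ⟨fun h => ⟨h.2, h.1⟩, fun h => ⟨h.2, h.1⟩⟩
  · congr 1
    exact propext ⟨fun h => ⟨h.2, h.1⟩, fun h => ⟨h.2, h.1⟩⟩

theorem oo_swap (hφφ : ∀ x, φ (φ x) = x) (i j : Fin 3) (u : K) : oo φ i j u = oo φ j i (φ u) := by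
  unfold oo
  rw [hφφ, add_comm]

theorem herm_decomp {S : Matrix (Fin 3) (Fin 3) K} (hS : S ∈ Herm φ) :
    S = dg 0 (S 0 0) + dg 1 (S 1 1) + dg 2 (S 2 2) +
      (oo φ 0 1 (S 0 1) + oo φ 1 2 (S 1 2) + oo φ 2 0 (S 2 0)) := by
  have h01 := hS 0 1
  have h12 := hS 1 2
  have h20 := hS 2 0
  unfold dg oo
  rw [h01, h12, h20]
  ext i j
  fin_cases i <;> fin_cases j <;> simp

/-- functions which agree on elementary matrices -/
theorem herm_ext {Y : Type*} [Group Y] (hφφ : ∀ x, φ (φ x) = x) {f g : Matrix (Fin 3) (Fin 3) K → Y}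
    (hf : ∀ S ∈ Herm φ, ∀ T ∈ Herm φ, f (S + T) = f S * f T) (hg : ∀ S ∈ Herm φ, ∀ T ∈ Herm φ, g (S + T) = g S * g T)
    (h1 : ∀ i a, φ a = a → f (dg i a) = g (dg i a)) (h2 : ∀ i j, i ≠ j → ∀ u, f (oo φ i j u) = g (oo φ i j u))
    {S : Matrix (Fin 3) (Fin 3) K} (hS : S ∈ Herm φ) : f S = g S := by
  have d0 := dg_mem (φ := φ) 0 (hS 0 0)
  have d1 := dg_mem (φ := φ) 1 (hS 1 1)
  have d2 := dg_mem (φ := φ) 2 (hS 2 2)
  have o0 := oo_mem hφφ 0 1 (S 0 1)
  have o1 := oo_mem hφφ 1 2 (S 1 2)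
  have o2 := oo_mem hφφ 2 0 (S 2 0)
  rw [herm_decomp hS]
  rw [hf _ (add_mem (add_mem d0 d1) d2) _ (add_mem (add_mem o0 o1) o2), hf _ (add_mem d0 d1) _ d2, hf _ d0 _ d1,
    hf _ (add_mem o0 o1) _ o2, hf _ o0 _ o1,
    hg _ (add_mem (add_mem d0 d1) d2) _ (add_mem (add_mem o0 o1) o2), hg _ (add_mem d0 d1) _ d2, hg _ d0 _ d1,
    hg _ (add_mem o0 o1) _ o2, hg _ o0 _ o1, h1 _ _ (hS 0 0), h1 _ _ (hS 1 1), h1 _ _ (hS 2 2),
    h2 0 1 (by decide), h2 1 2 (by decide), h2 2 0 (by decide)]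

/-- `A S Aᵀ` for a transvection -/
theorem tr_eq {i j : Fin 3} (hij : i ≠ j) (s : K) (S : Matrix (Fin 3) (Fin 3) K) :
    (Matrix.SpecialLinearGroup.transvection hij s).1 * S * (Matrix.SpecialLinearGroup.transvection hij s).1.transpose =
      S + Matrix.single i j s * S + S * Matrix.single j i s + Matrix.single i j s * S * Matrix.single j i s := by
  have e1 : (Matrix.SpecialLinearGroup.transvection hij s).1 = 1 + Matrix.single i j s := rfl
  rw [e1, Matrix.transpose_add, Matrix.transpose_one, Matrix.transpose_single]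
  noncomm_ring

theorem tr_dg_ne {i j k : Fin 3} (hij : i ≠ j) (hk : k ≠ j) (s a : K) :
    (Matrix.SpecialLinearGroup.transvection hij s).1 * dg k a *
      (Matrix.SpecialLinearGroup.transvection hij s).1.transpose = dg k a := by
  rw [tr_eq]
  unfold dg
  rw [Matrix.single_mul_single_of_ne _ _ _ _ (Ne.symm hk), Matrix.single_mul_single_of_ne _ _ _ _ hk, zero_mul]
  simp

theorem tr_dg {i j : Fin 3} (hij : i ≠ j) {s a : K} (hs : φ s = s) (ha : φ a = a) :
    (Matrix.SpecialLinearGroup.transvection hij s).1 * dg j a *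
      (Matrix.SpecialLinearGroup.transvection hij s).1.transpose = dg j a + oo φ i j (s * a) + dg i (s * a * s) := by
  rw [tr_eq]
  unfold dg oo
  rw [Matrix.single_mul_single_same, Matrix.single_mul_single_same, Matrix.single_mul_single_same, map_mul, hs, ha,
    mul_comm a s]
  abel

theorem tr_oo_ne {i j k : Fin 3} (hij : i ≠ j) (hk : k ≠ j) (s u : K) :
    (Matrix.SpecialLinearGroup.transvection hij s).1 * oo φ i k u *
      (Matrix.SpecialLinearGroup.transvection hij s).1.transpose = oo φ i k u := by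
  rw [tr_eq]
  unfold oo
  rw [mul_add, add_mul, Matrix.single_mul_single_of_ne _ _ _ _ (Ne.symm hij),
    Matrix.single_mul_single_of_ne _ _ _ _ (Ne.symm hk), Matrix.single_mul_single_of_ne _ _ _ _ hk,
    Matrix.single_mul_single_of_ne _ _ _ _ hij]
  simp

theorem tr_oo {i j : Fin 3} (hij : i ≠ j) {s : K} (hs : φ s = s) (u : K) :
    (Matrix.SpecialLinearGroup.transvection hij s).1 * oo φ i j u *
      (Matrix.SpecialLinearGroup.transvection hij s).1.transpose = oo φ i j u + dg i (s * (u + φ u)) := by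
  rw [tr_eq]
  unfold oo dg
  rw [mul_add, add_mul, Matrix.single_mul_single_of_ne _ _ _ _ (Ne.symm hij), Matrix.single_mul_single_same,
    Matrix.single_mul_single_same, Matrix.single_mul_single_of_ne _ _ _ _ hij, zero_add, add_zero,
    Matrix.single_mul_single_of_ne _ _ _ _ hij, mul_add s, Matrix.single_add, mul_comm u s]
  abel

theorem tr_oo' {i j k : Fin 3} (hij : i ≠ j) (hk : k ≠ j) {s : K} (hs : φ s = s) (u : K) :
    (Matrix.SpecialLinearGroup.transvection hij s).1 * oo φ j k u *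
      (Matrix.SpecialLinearGroup.transvection hij s).1.transpose = oo φ j k u + oo φ i k (s * u) := by
  rw [tr_eq]
  unfold oo
  rw [mul_add, add_mul, Matrix.single_mul_single_same, Matrix.single_mul_single_of_ne _ _ _ _ (Ne.symm hk),
    Matrix.single_mul_single_of_ne _ _ _ _ hk, Matrix.single_mul_single_same, zero_add, add_zero,
    Matrix.single_mul_single_of_ne _ _ _ _ hk, map_mul, hs, mul_comm s (φ u)]
  abel

/-! ### The group -/

/-- twist of the coordinate -/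
def th (φ : K →+* K) (i j : Fin 3) (u : K) : K := if j = i + 1 then u else φ u

theorem th_add (i j : Fin 3) (u v : K) : th φ i j (u + v) = th φ i j u + th φ i j v := by
  unfold th
  split_ifs
  · rfl
  · exact map_add φ u v

/-- the module -/
noncomputable def EH (φ : K →+* K) (q : ℕ) (S : Matrix (Fin 3) (Fin 3) K) : ↥(twistedE6 K q) :=
  x φ q (Hr 0 0) ((eH 0 0 : ℤ) * S 0 0) * (x φ q (Hr 1 1) ((eH 1 1 : ℤ) * S 1 1) *
    x φ q (Hr 2 2) ((eH 2 2 : ℤ) * S 2 2)) *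
  (x φ q (Hr 0 1) ((eH 0 1 : ℤ) * S 0 1) * (x φ q (Hr 1 2) ((eH 1 2 : ℤ) * S 1 2) *
    x φ q (Hr 2 0) ((eH 2 0 : ℤ) * S 2 0)))

theorem comm6 {G : Type*} [CommGroup G] (a b c d e f a' b' c' d' e' f' : G) :
    (a * (b * c) * (d * (e * f))) * (a' * (b' * c') * (d' * (e' * f'))) =
      (a * a') * ((b * b') * (c * c')) * ((d * d') * ((e * e') * (f * f'))) := by
  ac_rfl

theorem comm6' {G : Type*} [Group G] {s : Set G} (hs : ∀ x ∈ s, ∀ y ∈ s, x * y = y * x)
    {a b c d e f a' b' c' d' e' f' : G} (ha : a ∈ s) (hb : b ∈ s) (hc : c ∈ s) (hd : d ∈ s) (he : e ∈ s)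
    (hf : f ∈ s) (ha' : a' ∈ s) (hb' : b' ∈ s) (hc' : c' ∈ s) (hd' : d' ∈ s) (he' : e' ∈ s) (hf' : f' ∈ s) :
    (a * (b * c) * (d * (e * f))) * (a' * (b' * c') * (d' * (e' * f'))) =
      (a * a') * ((b * b') * (c * c')) * ((d * d') * ((e * e') * (f * f'))) := by
  let I := Subgroup.closureCommGroupOfComm hs
  have sub : ∀ {y}, y ∈ s → y ∈ Subgroup.closure s := fun h => Subgroup.subset_closure h
  have h := @comm6 (Subgroup.closure s) I ⟨a, sub ha⟩ ⟨b, sub hb⟩ ⟨c, sub hc⟩ ⟨d, sub hd⟩ ⟨e, sub he⟩ ⟨f, sub hf⟩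
    ⟨a', sub ha'⟩ ⟨b', sub hb'⟩ ⟨c', sub hc'⟩ ⟨d', sub hd'⟩ ⟨e', sub he'⟩ ⟨f', sub hf'⟩
  exact congrArg Subtype.val h

section Grp

variable {W : Type*} [Group W] [Finite W] (cs : CoxeterSystem CoxeterMatrix.F₄ W)
  (hφ : ∀ x, φ x = x ^ q) (hqq : ∀ t : K, (t ^ q) ^ q = t)

theorem isRoot_Hr (i j : Fin 3) : IsRoot cs isCartan (Hr i j) := isRoot_tab cs (Hr_tab i j)

theorem isRoot_Ar {i j : Fin 3} (hij : i ≠ j) : IsRoot cs isCartan (Ar i j) := by
  rcases Ar_tab i j hij with h | h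
  · exact isRoot_tab cs h
  · have := (isRoot_tab cs h).neg
    rwa [neg_neg] at this

include hφ hqq cs

theorem comm_HH (i j k l : Fin 3) (a b : K) : x φ q (Hr i j) a * x φ q (Hr k l) b = x φ q (Hr k l) b * x φ q (Hr i j) a :=
  (comm_nil hφ hqq (isRoot_Hr cs i j) (isRoot_Hr cs k l) (not_root_tab cs (Hr_Hr i j k l).1.1 (Hr_Hr i j k l).1.2)
    (Hr_Hr i j k l).2 a b).eq

theorem x_addL (i : Fin 3) {a b : K} (ha : φ a = a) (hb : φ b = b) :
    x φ q (Hr i i) (a + b) = x φ q (Hr i i) a * x φ q (Hr i i) b :=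
  x_add hφ hqq (isRoot_Hr cs i i) (ok_long (isRoot_Hr cs i i) (Hr_long i) ha)
    (ok_long (isRoot_Hr cs i i) (Hr_long i) hb)

theorem x_addH {i j : Fin 3} (hij : i ≠ j) (a b : K) :
    x φ q (Hr i j) (a + b) = x φ q (Hr i j) a * x φ q (Hr i j) b :=
  x_addS cs hφ hqq (isRoot_Hr cs i j) (Hr_short i j hij) a b

theorem x_zeroH (i j : Fin 3) : x φ q (Hr i j) 0 = 1 := x_zero hφ hqq (isRoot_Hr cs i j)

theorem EH_add {S : Matrix (Fin 3) (Fin 3) K} (hS : S ∈ Herm φ) {T : Matrix (Fin 3) (Fin 3) K} (hT : T ∈ Herm φ) :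
    EH φ q (S + T) = EH φ q S * EH φ q T := by
  unfold EH
  have f : ∀ {R : Matrix (Fin 3) (Fin 3) K}, R ∈ Herm φ → ∀ i, φ ((eH i i : ℤ) * R i i) = (eH i i : ℤ) * R i i :=
    fun h i => by rw [map_mul, map_intCast, h i i]
  rw [comm6' (s := {g | ∃ i j a, g = x φ q (Hr i j) a}) ?_ ⟨_, _, _, rfl⟩ ⟨_, _, _, rfl⟩ ⟨_, _, _, rfl⟩
    ⟨_, _, _, rfl⟩ ⟨_, _, _, rfl⟩ ⟨_, _, _, rfl⟩ ⟨_, _, _, rfl⟩ ⟨_, _, _, rfl⟩ ⟨_, _, _, rfl⟩ ⟨_, _, _, rfl⟩
    ⟨_, _, _, rfl⟩ ⟨_, _, _, rfl⟩,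
    ← x_addL cs hφ hqq 0 (f hS 0) (f hT 0), ← x_addL cs hφ hqq 1 (f hS 1) (f hT 1),
    ← x_addL cs hφ hqq 2 (f hS 2) (f hT 2), ← x_addH cs hφ hqq (by decide : (0 : Fin 3) ≠ 1),
    ← x_addH cs hφ hqq (by decide : (1 : Fin 3) ≠ 2), ← x_addH cs hφ hqq (by decide : (2 : Fin 3) ≠ 0)]
  · simp only [Matrix.add_apply, mul_add]
  · rintro _ ⟨i, j, a, rfl⟩ _ ⟨k, l, b, rfl⟩
    exact comm_HH cs hφ hqq i j k l a b

theorem EH_dg (i : Fin 3) (a : K) : EH φ q (dg i a) = x φ q (Hr i i) ((eH i i : ℤ) * a) := by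
  unfold EH dg
  have h0 := x_zeroH cs hφ hqq
  fin_cases i <;> simp [h0]

theorem EH_oo (hφφ : ∀ x, φ (φ x) = x) {i j : Fin 3} (hij : i ≠ j) (u : K) :
    EH φ q (oo φ i j u) = x φ q (Hr i j) ((eH i j : ℤ) * th φ i j u) := by
  unfold EH oo th
  have h0 := x_zeroH cs hφ hqq
  have s1 := Hr_symm 0 1
  have s2 := Hr_symm 1 2
  have s3 := Hr_symm 2 0
  have e1 := eH_symm 0 1
  have e2 := eH_symm 1 2
  have e3 := eH_symm 2 0
  fin_cases i <;> fin_cases j <;> simp_all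

/-! ### Conjugation -/

theorem conj_HH_nil {i j : Fin 3} (hij : i ≠ j) {k l : Fin 3} (hk : k ≠ j) (hl : l ≠ j) (t u : K) :
    x φ q (Ar i j) t * x φ q (Hr k l) u * (x φ q (Ar i j) t)⁻¹ = x φ q (Hr k l) u := by
  rw [(comm_nil hφ hqq (isRoot_Ar cs hij) (isRoot_Hr cs k l) (not_root_tab cs (Ar_Hr' i j k l hij hk hl).1.1
    (Ar_Hr' i j k l hij hk hl).1.2) (Ar_Hr' i j k l hij hk hl).2 t u).eq, mul_inv_cancel_right]

theorem conj_HH_jj {i j : Fin 3} (hij : i ≠ j) {t a : K} (ht : φ t = t) (ha : φ a = a) :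
    x φ q (Ar i j) t * x φ q (Hr j j) a * (x φ q (Ar i j) t)⁻¹ =
      x φ q (Hr j j) a * x φ q (Hr i j) (-((N (Hr j j) (Ar i j) : ℤ) * (a * t))) *
        x φ q (Hr i i) (-((N2 (Hr j j) (Ar i j) : ℤ) * (a * (t * t)))) := by
  obtain ⟨h1, h2⟩ := Hr_Ar i j hij
  have hzw : IsRoot cs isCartan (Hr j j + Ar i j) := by rw [h1]; exact isRoot_Hr cs i j
  obtain ⟨-, -, -, h3⟩ := comm_quad hφ hqq (isRoot_Hr cs j j) (isRoot_Ar cs hij) hzw (Hr_long j)
    (Ar_short i j hij) ha t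
  rw [h1, h2, ht] at h3
  have h4 : x φ q (Ar i j) t * x φ q (Hr j j) a * (x φ q (Ar i j) t)⁻¹ =
      (⁅x φ q (Hr j j) a, x φ q (Ar i j) t⁆)⁻¹ * x φ q (Hr j j) a := by
    rw [commutatorElement_def]; group
  have h5 : ∀ b, (x φ q (Hr i j) b)⁻¹ = x φ q (Hr i j) (-b) := fun b => by
    rw [inv_eq_iff_mul_eq_one, ← x_addH cs hφ hqq hij, add_neg_cancel, x_zeroH cs hφ hqq]
  have h6 : ∀ b, φ b = b → (x φ q (Hr i i) b)⁻¹ = x φ q (Hr i i) (-b) := fun b hb => by
    rw [inv_eq_iff_mul_eq_one, ← x_addL cs hφ hqq i hb (by rw [map_neg, hb]), add_neg_cancel, x_zeroH cs hφ hqq]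
  rw [h4, h3, mul_inv_rev, h5, h6 _ (by rw [map_mul, map_mul, map_mul, map_intCast, ha, ht]), mul_assoc,
    comm_HH cs hφ hqq i j j j, ← mul_assoc, comm_HH cs hφ hqq i i j j, mul_assoc, comm_HH cs hφ hqq i i i j,
    ← mul_assoc]

theorem conj_HH_ij {i j : Fin 3} (hij : i ≠ j) (t u : K) :
    x φ q (Ar i j) t * x φ q (Hr i j) u * (x φ q (Ar i j) t)⁻¹ =
      x φ q (Hr i j) u * x φ q (Hr i i) ((N (Ar i j) (Hr i j) : ℤ) * (t * φ u + φ t * u)) := by
  have h1 : Ar i j + Hr i j = Hr i i := by rw [Hr_symm i j]; exact Ar_Hr i j i hij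
  have h3 := comm_trace hφ hqq (isRoot_Ar cs hij) (isRoot_Hr cs i j) (by rw [h1]; exact isRoot_Hr cs i i)
    (Ar_short i j hij) (Hr_short i j hij) (by rw [h1]; exact Hr_long i) t u
  rw [h1] at h3
  have h4 : x φ q (Ar i j) t * x φ q (Hr i j) u * (x φ q (Ar i j) t)⁻¹ =
      ⁅x φ q (Ar i j) t, x φ q (Hr i j) u⁆ * x φ q (Hr i j) u := by
    rw [commutatorElement_def]; group
  rw [h4, h3, comm_HH cs hφ hqq i i i j]

theorem conj_HH_jk {i j k : Fin 3} (hij : i ≠ j) (hki : k ≠ i) (hkj : k ≠ j) (t u : K) :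
    x φ q (Ar i j) t * x φ q (Hr j k) u * (x φ q (Ar i j) t)⁻¹ =
      x φ q (Hr j k) u * x φ q (Hr i k) ((N (Ar i j) (Hr j k) : ℤ) * φ (t * u)) := by
  have h1 : Ar i j + Hr j k = Hr i k := Ar_Hr i j k hij
  have h3 := comm_short hφ hqq (isRoot_Ar cs hij) (isRoot_Hr cs j k) (by rw [h1]; exact isRoot_Hr cs i k)
    (Ar_short i j hij) (Hr_short j k (Ne.symm hkj)) (by rw [h1]; exact Hr_short i k (Ne.symm hki)) t u
  rw [h1] at h3
  have h4 : x φ q (Ar i j) t * x φ q (Hr j k) u * (x φ q (Ar i j) t)⁻¹ =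
      ⁅x φ q (Ar i j) t, x φ q (Hr j k) u⁆ * x φ q (Hr j k) u := by
    rw [commutatorElement_def]; group
  rw [h4, h3, comm_HH cs hφ hqq i k j k]

/-- the action on the module -/
theorem conj_EH {i j : Fin 3} (hij : i ≠ j) {t : K} (ht : φ t = t) {S : Matrix (Fin 3) (Fin 3) K} (hS : S ∈ Herm φ) :
    x φ q (Ar i j) t * EH φ q S * (x φ q (Ar i j) t)⁻¹ =
      EH φ q ((Matrix.SpecialLinearGroup.transvection hij ((cA i j : ℤ) * t)).1 * S *
        (Matrix.SpecialLinearGroup.transvection hij ((cA i j : ℤ) * t)).1.transpose) := by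
  have hφφ : ∀ x, φ (φ x) = x := phi_phi hφ hqq
  set g := x φ q (Ar i j) t with hg
  set s : K := (cA i j : ℤ) * t with hs
  have hsφ : φ s = s := by rw [hs, map_mul, map_intCast, ht]
  set A := (Matrix.SpecialLinearGroup.transvection hij s).1 with hA
  -- membership
  have mem : ∀ S ∈ Herm φ, A * S * A.transpose ∈ Herm φ := by
    intro S hS a b
    have hAφ : ∀ a b, φ (A a b) = A a b := by
      intro a b
      have e1 : A = 1 + Matrix.single i j s := rfl
      rw [e1, Matrix.add_apply, map_add, Matrix.one_apply, Matrix.single_apply, apply_ite φ, apply_ite φ, map_one,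
        map_zero, hsφ]
    simp only [Matrix.mul_apply, Matrix.transpose_apply, map_sum, map_mul, hAφ, hS _ _, Finset.sum_mul]
    rw [Finset.sum_comm]
    refine Finset.sum_congr rfl fun c _ => Finset.sum_congr rfl fun d _ => ?_
    ring
  refine herm_ext (f := fun S => g * EH φ q S * g⁻¹) (g := fun S => EH φ q (A * S * A.transpose)) hφφ ?_ ?_ ?_ ?_ hS
  · intro S hS T hT
    rw [EH_add cs hφ hqq hS hT]; group
  · intro S hS T hT
    rw [mul_add, add_mul, EH_add cs hφ hqq (mem S hS) (mem T hT)]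
  · intro k a ha
    by_cases hk : k = j
    · subst hk
      have h1 := dg_mem (φ := φ) k ha
      have h2 := oo_mem hφφ i k (s * a)
      have h3 := dg_mem (φ := φ) i (show φ (s * a * s) = s * a * s by rw [map_mul, map_mul, hsφ, ha])
      rw [hA, tr_dg hij hsφ ha, EH_add cs hφ hqq (add_mem h1 h2) h3, EH_add cs hφ hqq h1 h2, EH_dg cs hφ hqq,
        EH_dg cs hφ hqq, EH_oo cs hφ hqq hφφ hij, hg,
        conj_HH_jj cs hφ hqq hij ht (by rw [map_mul, map_intCast, ha])]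
      obtain ⟨s1, s2⟩ := sg1 i k hij
      have s1' : ((-N (Hr k k) (Ar i k) * eH k k : ℤ) : K) = ((cA i k * eH i k : ℤ) : K) := congrArg _ s1
      have s2' : ((-N2 (Hr k k) (Ar i k) * eH k k : ℤ) : K) = ((eH i i : ℤ) : K) := congrArg _ s2
      have s3' : ((cA i k * cA i k : ℤ) : K) = 1 := by rw [cA_sq i k hij]; exact Int.cast_one
      push_cast at s1' s2' s3'
      have e1 : th φ i k (s * a) = s * a := by
        unfold th
        split_ifs
        · rfl
        · rw [map_mul, hsφ, ha]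
      rw [e1]
      congr 2
      · congr 1
        rw [hs]
        linear_combination (a * t) * s1'
      · rw [hs]
        linear_combination (a * t * t) * s2' - (eH i i : K) * a * t * t * s3'
    · rw [hA, tr_dg_ne hij hk, EH_dg cs hφ hqq, hg, conj_HH_nil cs hφ hqq hij hk hk]
  · -- off-diagonal
    have key : ∀ a b : Fin 3, a ≠ b → (a = i ∨ a = j ∧ b ≠ i) → ∀ u, g * EH φ q (oo φ a b u) * g⁻¹ =
        EH φ q (A * oo φ a b u * A.transpose) := by
      rintro a b hab (rfl | ⟨rfl, hb⟩) u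
      · by_cases hb : b = j
        · subst hb
          have h1 := oo_mem hφφ a b u
          have h3 := dg_mem (φ := φ) a (show φ (s * (u + φ u)) = s * (u + φ u) by
            rw [map_mul, map_add, hsφ, hφφ, add_comm])
          rw [hA, tr_oo hij hsφ, EH_add cs hφ hqq h1 h3, EH_dg cs hφ hqq, EH_oo cs hφ hqq hφφ hij, hg,
            conj_HH_ij cs hφ hqq hij]
          have s2 := sg2 a b hij
          have s2' : ((N (Ar a b) (Hr a b) * eH a b : ℤ) : K) = ((eH a a * cA a b : ℤ) : K) := congrArg _ s2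
          push_cast at s2'
          congr 2
          rw [map_mul, map_intCast, ht, hs]
          have e1 : th φ a b u + φ (th φ a b u) = u + φ u := by
            unfold th
            split_ifs
            · rfl
            · rw [hφφ, add_comm]
          calc ((N (Ar a b) (Hr a b) : ℤ) : K) * (t * ((eH a b : ℤ) * φ (th φ a b u)) +
                t * ((eH a b : ℤ) * th φ a b u)) =
                (((N (Ar a b) (Hr a b) : ℤ) : K) * (eH a b : ℤ)) * t * (th φ a b u + φ (th φ a b u)) := by ring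
            _ = _ := by rw [s2', e1]; ring
        · rw [hA, tr_oo_ne hij hb, EH_oo cs hφ hqq hφφ hab, hg, conj_HH_nil cs hφ hqq hij hij hb]
      · have h1 := oo_mem hφφ a b u
        have h3 := oo_mem hφφ i b (s * u)
        rw [hA, tr_oo' hij (Ne.symm hab) hsφ, EH_add cs hφ hqq h1 h3, EH_oo cs hφ hqq hφφ hab,
          EH_oo cs hφ hqq hφφ (Ne.symm hb), hg, conj_HH_jk cs hφ hqq hij hb (Ne.symm hab)]
        have s2 := sg3 i a b hij hb (Ne.symm hab)
        have s2' : ((N (Ar i a) (Hr a b) * eH a b : ℤ) : K) = ((eH i b * cA i a : ℤ) : K) := congrArg _ s2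
        push_cast at s2'
        congr 2
        have e1 : φ (th φ a b u) = th φ i b u := by
          have h4 : ∀ i a b : Fin 3, i ≠ a → b ≠ i → a ≠ b → ((b = a + 1) ↔ ¬ (b = i + 1)) := by decide
          have h5 := h4 i a b hij hb hab
          unfold th
          by_cases h6 : b = i + 1
          · rw [if_pos h6, if_neg (fun h => h5.1 h h6), hφφ]
          · rw [if_neg h6, if_pos (h5.2 h6)]
        have e2 : th φ i b (s * u) = s * th φ i b u := by
          unfold th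
          split_ifs
          · rfl
          · rw [map_mul, hsφ]
        rw [map_mul, map_mul, map_intCast, ht, e1, e2, hs]
        linear_combination (t * th φ i b u) * s2'
    intro a b hab u
    by_cases h1 : a = i ∨ a = j ∧ b ≠ i
    · exact key a b hab h1 u
    · rw [oo_swap hφφ a b u]
      refine key b a (Ne.symm hab) ?_ _
      push Not at h1
      have h4 : ∀ i j a b : Fin 3, i ≠ j → a ≠ b → a ≠ i → (a = j → b = i) → (b = i ∨ b = j ∧ a ≠ i) := by decide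
      exact h4 i j a b hij hab h1.1 h1.2

end Grp

end Cfsg.Agent.H400.Fpr.E6
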