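import Cfsg.Agent.H400.FprE6E

/-!
# Fixed point ratios of `p`-elements: `²E₆(q)`, primes dividing `q² + q + 1` (helper400, TEAM FPR)
-/

set_option autoImplicit false
set_option linter.unusedSectionVars false
set_option linter.unusedVariables false

namespace Cfsg.Agent.H400.Fpr.E6

open CoxeterSystem Cfsg.Agent.ChevalleyStructure.CoxeterGeom Cfsg.Agent.Tits.Roots Cfsg.Agent.Tits.Core
  Cfsg.Agent.Nodes.Reps Cfsg.Agent.Nodes.BNOf Cfsg.Agent.Nodes.RGDTwGen Cfsg.Agent.Nodes.RGDChev Cfsg.Agent.Nodes.RGDFold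
  Cfsg.Agent.Nodes.RGDFoldSL Cfsg.Agent.Nodes.RGDTwE6 Cfsg.Agent.Nodes.RGDTwCoord Cfsg.Agent.Nodes.RGDTwCoordE6
  Cfsg.Agent.Nodes.RGDTwComE6 Cfsg.Agent.Nodes.RGDTwActE6 Cfsg.Agent.Nodes.KindChev Cfsg.Agent.Nodes.Coroot
  Cfsg.Agent.Nodes.PosPair Cfsg.Agent.Nodes.LeviDec Cfsg.Agent.Nodes.StabComb Cfsg.Agent.Nodes.Bruhat
  Cfsg.Agent.Nodes.Unique Cfsg.Agent.KFacts.RgdTI
open Cfsg.Lie Cfsg.Agent.ChevalleyStructure
open Cfsg.Agent.H400.TwoExc Cfsg.Agent.H400.TwoExc.TwE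
open Cfsg.Agent.H398.FPR (CommFull UGood Pair)
open scoped commutatorElement MatrixGroups

universe u

local notation "cl" => Nodes.RGDTwCoord.cl chevE6 J O

variable {K : Type u} [Field K] [Fintype K] {q : ℕ} {φ : K →+* K}

/-- the matrix over `K` -/
def mp (φ : K →+* K) (A : Matrix.SpecialLinearGroup (Fin 3) (Fx φ 1)) : Matrix.SpecialLinearGroup (Fin 3) K :=
  Matrix.SpecialLinearGroup.map (Fx φ 1).subtype A

theorem mp_fix (A : Matrix.SpecialLinearGroup (Fin 3) (Fx φ 1)) (i j : Fin 3) : φ ((mp φ A).1 i j) = (mp φ A).1 i j :=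
  mem_Fx.1 (A.1 i j).2

theorem herm_mp (A : Matrix.SpecialLinearGroup (Fin 3) (Fx φ 1)) {S : Matrix (Fin 3) (Fin 3) K} (hS : S ∈ Herm φ) :
    (mp φ A).1 * S * (mp φ A).1.transpose ∈ Herm φ := by
  intro a b
  simp only [Matrix.mul_apply, Matrix.transpose_apply, map_sum, map_mul, mp_fix, hS _ _, Finset.sum_mul]
  rw [Finset.sum_comm]
  refine Finset.sum_congr rfl fun c _ => Finset.sum_congr rfl fun d _ => ?_
  ring

/-- `g` acts as the matrix `A` -/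
def Act (φ : K →+* K) (q : ℕ) (g : ↥(twistedE6 K q)) (A : Matrix.SpecialLinearGroup (Fin 3) (Fx φ 1)) : Prop :=
  ∀ S ∈ Herm φ, g * EH φ q S * g⁻¹ = EH φ q ((mp φ A).1 * S * (mp φ A).1.transpose)

theorem Act.one : Act φ q 1 1 := by
  intro S _
  have h1 : (mp φ (1 : Matrix.SpecialLinearGroup (Fin 3) (Fx φ 1))).1 = 1 := by
    unfold mp
    rw [map_one]
    rfl
  rw [h1, Matrix.transpose_one, one_mul, mul_one, one_mul, inv_one, mul_one]

theorem Act.mul {g g' : ↥(twistedE6 K q)} {A A' : Matrix.SpecialLinearGroup (Fin 3) (Fx φ 1)} (h : Act φ q g A)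
    (h' : Act φ q g' A') : Act φ q (g * g') (A * A') := by
  intro S hS
  have h1 : (mp φ (A * A')).1 = (mp φ A).1 * (mp φ A').1 := by
    unfold mp
    rw [map_mul]
    rfl
  have h2 : g * g' * EH φ q S * (g * g')⁻¹ = g * (g' * EH φ q S * g'⁻¹) * g⁻¹ := by group
  rw [h2, h' S hS, h _ (herm_mp A' hS), h1, Matrix.transpose_mul]
  congr 1
  simp only [mul_assoc]

/-- the group `⟨X_{±α₂}, X_{±α₃}⟩` -/
noncomputable def LA (φ : K →+* K) (q : ℕ) : Subgroup ↥(twistedE6 K q) := ⨆ p : {p : Fin 3 × Fin 3 // p.1 ≠ p.2}, X φ q (Ar p.1.1 p.1.2)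

theorem X_le_LA {i j : Fin 3} (hij : i ≠ j) : X φ q (Ar i j) ≤ LA φ q :=
  le_iSup (fun p : {p : Fin 3 × Fin 3 // p.1 ≠ p.2} => X φ q (Ar p.1.1 p.1.2)) ⟨(i, j), hij⟩

section

variable {W : Type*} [Group W] [Finite W] (cs : CoxeterSystem CoxeterMatrix.F₄ W)
  (hφ : ∀ x, φ x = x ^ q) (hqq : ∀ t : K, (t ^ q) ^ q = t)

include hφ hqq cs

theorem exists_act (A : Matrix.SpecialLinearGroup (Fin 3) (Fx φ 1)) : ∃ g ∈ LA φ q, Act φ q g A := by
  refine Cfsg.Agent.LieClassical.SLGen.transvection_induction (fun A => ∃ g ∈ LA φ q, Act φ q g A) ?_ ?_ A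
  · intro i j hij c
    have hc : φ (c : K) = c := mem_Fx.1 c.2
    refine ⟨x φ q (Ar i j) ((cA i j : ℤ) * (c : K)), X_le_LA hij ((mem_X_short hφ hqq (isRoot_Ar cs hij)
      (Ar_short i j hij) _).2 ⟨_, rfl⟩), ?_⟩
    intro S hS
    have h1 := conj_EH cs hφ hqq hij (t := (cA i j : ℤ) * (c : K)) (by rw [map_mul, map_intCast, hc]) hS
    have h2 : ((cA i j : ℤ) : K) * ((cA i j : ℤ) * (c : K)) = c := by
      rw [← mul_assoc, ← Int.cast_mul, cA_sq i j hij, Int.cast_one, one_mul]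
    rw [h2] at h1
    rw [h1]
    unfold mp
    rw [map_tr]
    rfl
  · rintro A B ⟨g, hg, h⟩ ⟨g', hg', h'⟩
    exact ⟨g * g', mul_mem hg hg', h.mul h'⟩

/-- the elements of `LA` -/
theorem exists_lift_act {ℓ : ℕ} (hℓ : ℓ.Prime) {a : ℕ} {M : Matrix.SpecialLinearGroup (Fin 3) (Fx φ 1)}
    (hM : M ^ ℓ ^ a = 1) : ∃ g ∈ LA φ q, (∃ b, g ^ ℓ ^ b = 1) ∧ Act φ q g M := by
  obtain ⟨g, hg, h⟩ := exists_act cs hφ hqq M
  exact exists_lift_rel (P := Act φ q) hℓ Act.one (fun g g' M M' h h' => h.mul h') hg h hM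

/-- the module is contained in `[Q, g]` -/
theorem EH_mem {g : ↥(twistedE6 K q)} {M : Matrix.SpecialLinearGroup (Fin 3) (Fx φ 1)} (hg : Act φ q g M)
    (hM : ∀ S : Matrix (Fin 3) (Fin 3) K, (mp φ M).1 * S * (mp φ M).1.transpose = S → S = 0)
    {V : Subgroup ↥(twistedE6 K q)} (hV : ∀ S ∈ Herm φ, ⁅g, EH φ q S⁆ ∈ V) {S : Matrix (Fin 3) (Fin 3) K}
    (hS : S ∈ Herm φ) : EH φ q S ∈ V := by
  let f : Herm φ → Herm φ := fun S => ⟨(mp φ M).1 * S.1 * (mp φ M).1.transpose, herm_mp M S.2⟩ - S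
  have hf : Function.Injective f := by
    intro S T hST
    have h1 : (mp φ M).1 * S.1 * (mp φ M).1.transpose - S.1 = (mp φ M).1 * T.1 * (mp φ M).1.transpose - T.1 :=
      congrArg Subtype.val hST
    have h2 : (mp φ M).1 * (S.1 - T.1) * (mp φ M).1.transpose = S.1 - T.1 := by
      rw [mul_sub, sub_mul]
      have h3 : (mp φ M).1 * S.1 * (mp φ M).1.transpose - (mp φ M).1 * T.1 * (mp φ M).1.transpose =
        ((mp φ M).1 * S.1 * (mp φ M).1.transpose - S.1) - ((mp φ M).1 * T.1 * (mp φ M).1.transpose - T.1) +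
          (S.1 - T.1) := by abel
      rw [h3, h1, sub_self, zero_add]
    exact Subtype.ext (sub_eq_zero.1 (hM _ h2))
  have hfin : Finite (Herm φ) := inferInstance
  obtain ⟨T, hT⟩ := (Finite.injective_iff_surjective.1 hf) ⟨S, hS⟩
  have h1 : (mp φ M).1 * T.1 * (mp φ M).1.transpose - T.1 = S := congrArg Subtype.val hT
  have h2 : (mp φ M).1 * T.1 * (mp φ M).1.transpose = S + T.1 := by rw [← h1, sub_add_cancel]
  have h3 := hV T.1 T.2
  rw [commutatorElement_def, hg T.1 T.2, h2, EH_add cs hφ hqq hS T.2, mul_inv_cancel_right] at h3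
  exact h3

theorem X_le_of_EH {V : Subgroup ↥(twistedE6 K q)} (h : ∀ S ∈ Herm φ, EH φ q S ∈ V) (i j : Fin 3) :
    X φ q (Hr i j) ≤ V := by
  have hφφ : ∀ x, φ (φ x) = x := phi_phi hφ hqq
  have hsq : ∀ i j, ((eH i j : ℤ) : K) * ((eH i j : ℤ) : K) = 1 := fun i j => by
    rw [← Int.cast_mul, eH_sq, Int.cast_one]
  intro g hg
  by_cases hij : i = j
  · subst hij
    obtain ⟨a, ha, rfl⟩ := (mem_X_long hφ hqq (isRoot_Hr cs i i) (Hr_long i) g).1 hg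
    have h1 : φ ((eH i i : ℤ) * a) = (eH i i : ℤ) * a := by rw [map_mul, map_intCast, ha]
    have h2 := h _ (dg_mem (φ := φ) i h1)
    rw [EH_dg cs hφ hqq, ← mul_assoc, hsq, one_mul] at h2
    exact h2
  · obtain ⟨a, rfl⟩ := (mem_X_short hφ hqq (isRoot_Hr cs i j) (Hr_short i j hij) g).1 hg
    have h2 := h _ (oo_mem hφφ i j (th φ i j ((eH i j : ℤ) * a)))
    rw [EH_oo cs hφ hqq hφφ hij] at h2
    have h3 : th φ i j (th φ i j ((eH i j : ℤ) * a)) = (eH i j : ℤ) * a := by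
      unfold th
      split_ifs
      · rfl
      · exact hφφ _
    rw [h3, ← mul_assoc, hsq, one_mul] at h2
    exact h2

/-- an element of `SL₃(q)` of order `ℓ` -/
theorem exists_mp (hK : Fintype.card K = q ^ 2) (hq1 : 1 < q) {ℓ : ℕ} (hℓ : ℓ.Prime) (hℓq : ¬ ℓ ∣ q)
    (h1 : ¬ ℓ ∣ q ^ 4 - 1) (h3 : ℓ ∣ q ^ 3 - 1) : ∃ M : Matrix.SpecialLinearGroup (Fin 3) (Fx φ 1), M ^ ℓ = 1 ∧
      ∀ S : Matrix (Fin 3) (Fin 3) K, (mp φ M).1 * S * (mp φ M).1.transpose = S → S = 0 := by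
  have hc : Nat.card (Fx φ 1) = q := by
    refine Eq.trans (Nat.card_congr (Equiv.subtypeEquivRight fun x => ?_))
      (ChevalleyStructure.FixedCard.card_fixed hq1 hK)
    rw [mem_Fx, Function.iterate_one, hφ]
  have hcK : Nat.card K = q ^ 2 := by rw [Nat.card_eq_fintype_card, hK]
  have hd1 : q - 1 ∣ q ^ 4 - 1 := Nat.sub_one_dvd_pow_sub_one q 4
  have hd2 : q ^ 2 - 1 ∣ q ^ 4 - 1 := Nat.pow_sub_one_dvd_pow_sub_one q (by norm_num : 2 ∣ 4)
  obtain ⟨M, hM, hM'⟩ := exists_fpf_of_ord (k := Fx φ 1) (n := 3) (by norm_num) hℓ (by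
    intro m hm0 hm3 hd
    rw [hc] at hd
    obtain rfl | rfl : m = 1 ∨ m = 2 := by omega
    · rw [pow_one] at hd
      exact h1 (hd.trans hd1)
    · exact h1 (hd.trans hd2)) (by rwa [hc]) (by rwa [hc])
  refine ⟨M, hM, fun S hS => ?_⟩
  refine no_bil hℓ (A := mp φ M) ?_ (no_fixed_map (Fx φ 1).subtype hM') ?_ ?_ hS
  · unfold mp
    rw [← map_pow, hM, map_one]
  · rw [hcK]
    exact fun h => h1 (h.trans hd2)
  · rw [hcK, ← pow_mul]
    exact h1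

end

end Cfsg.Agent.H400.Fpr.E6
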