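import Cfsg.Agent.H400.FprE6F
import Cfsg.Agent.H400.FprDual

/-!
# Fixed point ratios of `p`-elements: `²E₆(q)`, primes dividing `q² + q + 1` (helper400, TEAM FPR)
-/

set_option autoImplicit false
set_option linter.unusedSectionVars false
set_option linter.unusedVariables false

namespace Cfsg.Agent.H400.Fpr.E6

open CoxeterSystem Cfsg.Agent.ChevalleyStructure.CoxeterGeom Cfsg.Agent.Tits.Roots Cfsg.Agent.Tits.Core
  Cfsg.Agent.Nodes.Reps Cfsg.Agent.Nodes.BNOf Cfsg.Agent.Nodes.RGDTwGen Cfsg.Agent.Nodes.RGDChev Cfsg.Agent.Nodes.RGDFold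
  Cfsg.Agent.Nodes.RGDFoldSL Cfsg.Agent.Nodes.RGDTwE6 Cfsg.Agent.Nodes.RGDTwCoord Cfsg.Agent.Nodes.RGDTwCoordE6
  Cfsg.Agent.Nodes.RGDTwComE6 Cfsg.Agent.Nodes.RGDTwActE6 Cfsg.Agent.Nodes.KindChev Cfsg.Agent.Nodes.Coroot
  Cfsg.Agent.Nodes.PosPair Cfsg.Agent.Nodes.LeviDec Cfsg.Agent.Nodes.StabComb Cfsg.Agent.Nodes.Bruhat
  Cfsg.Agent.Nodes.Unique Cfsg.Agent.KFacts.RgdTI
open Cfsg.Lie Cfsg.Agent.ChevalleyStructure
open Cfsg.Agent.H400.TwoExc Cfsg.Agent.H400.TwoExc.TwE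
open Cfsg.Agent.H398.FPR (CommFull UGood Pair Good)
open scoped commutatorElement MatrixGroups

universe u

local notation "cl" => Nodes.RGDTwCoord.cl chevE6 J O

variable {K : Type u} [Field K] [Fintype K] {q : ℕ} {φ : K →+* K}

/-- the table of roots -/
def L4 : List (Fin 4 → ℤ) := PF4t.map fun p => (toV p.1 : Fin 4 → ℤ)

/-- the roots of the first module -/
def S1 : Finset (Fin 4 → ℤ) := {Hr 0 0, Hr 0 1, Hr 0 2, Hr 1 1, Hr 1 2, Hr 2 2}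

/-- the roots of the second module and the highest root -/
def S2 : Finset (Fin 4 → ℤ) :=
  {rr, toV [1,2,2,0], toV [1,2,2,1], toV [1,2,2,2], toV [1,2,3,1], toV [1,2,3,2], toV [1,2,4,2]}

/-- the two remaining roots -/
def S0 : Fin 2 → (Fin 4 → ℤ) := ![toV [1,0,0,0], toV [1,3,4,2]]

theorem gt_check : (∀ v ∈ L4, 0 < qf Nodes.RGDTwE6.A (toV dlF4t) v rr → v ∈ S1 ∨ v ∈ S2 ∨ ∃ i, v = S0 i) ∧
    ∀ v ∈ L4, ¬ 0 < qf Nodes.RGDTwE6.A (toV dlF4t) (-v) rr := by decide +kernel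

theorem gt_check' : (∀ v ∈ S1, 0 < qf Nodes.RGDTwE6.A (toV dlF4t) v rr ∧ v ∈ L4) ∧
    (∀ v ∈ S2, 0 < qf Nodes.RGDTwE6.A (toV dlF4t) v rr ∧ v ∈ L4) ∧
    ∀ i, 0 < qf Nodes.RGDTwE6.A (toV dlF4t) (S0 i) rr ∧ S0 i ∈ L4 := by decide +kernel

theorem S1_Hr : ∀ v ∈ S1, ∃ i j, v = Hr i j := by decide +kernel
theorem Hr_S1 : ∀ i j, Hr i j ∈ S1 := by decide +kernel
theorem norm2 : ∀ i j, i ≠ j → ∀ z ∈ S2, ∀ z' ∈ L4, btw (Ar i j) z z' → z' ∈ S2 := by decide +kernel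
theorem Ar_zero : ∀ i j, i ≠ j → Ar i j 0 = 0 := by decide +kernel
theorem S2_zero : ∀ z ∈ S2, 0 < z 0 := by decide +kernel
theorem S2_sum : ∀ s ∈ S2, (∀ t ∈ S2, s + t ≠ rr) ∧ ∀ i, s + S0 i ≠ rr := by decide +kernel
theorem closed13 : (∀ z ∈ S1 ∪ S2, z ∈ L4) ∧ ∀ x ∈ S1 ∪ S2, ∀ y ∈ S1 ∪ S2, ∀ z ∈ L4, btw x y z → z ∈ S1 ∪ S2 := by
  decide +kernel
theorem Ar_perp : ∀ i j, i ≠ j → qf Nodes.RGDTwE6.A (toV dlF4t) (Ar i j) rr = 0 := by decide +kernel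

section

variable {W : Type*} [Group W] [Finite W] (cs : CoxeterSystem CoxeterMatrix.F₄ W)
  (hφ : ∀ x, φ x = x ^ q) (hqq : ∀ t : K, (t ^ q) ^ q = t)

theorem mem_gt {v : Fin 4 → ℤ} (h1 : v ∈ L4) (h2 : 0 < qf Nodes.RGDTwE6.A (toV dlF4t) v rr) :
    v ∈ Gt cs isCartan rr := by
  have h3 := fun t => (cpr_sign (gr (cs := cs)).hd (gr (cs := cs)).rr
      ((gr (cs := cs)).qf_pos (gr (cs := cs)).rr) t).2
  exact ⟨isRoot_tab cs h1, (h3 _).2 h2⟩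

theorem gt_tab {v : Fin 4 → ℤ} (hv : v ∈ Gt cs isCartan rr) : v ∈ S1 ∨ v ∈ S2 ∨ ∃ i, v = S0 i := by
  have h3 := fun t => (cpr_sign (gr (cs := cs)).hd (gr (cs := cs)).rr
      ((gr (cs := cs)).qf_pos (gr (cs := cs)).rr) t).2
  have h4 := (h3 v).1 hv.2
  rcases (pr cs).1.mem_of_root hv.1 with h5 | h5
  · exact gt_check.1 v h5 h4
  · have h6 := gt_check.2 _ h5
    rw [neg_neg] at h6
    exact absurd h4 h6

include hφ hqq cs

theorem LA_L0 : LA φ q ≤ L0 cs isCartan (X φ q) rr := by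
  refine iSup_le fun p => ?_
  have hr := isRoot_Ar cs p.2
  refine RGD.le_Sup (S := {s | IsRoot cs isCartan s ∧ cpr cs isCartan s rr = 0}) ⟨hr, ?_⟩
  exact cpr_val (gr (cs := cs)).hd (gr (cs := cs)).rr (by
    have h := Ar_perp _ _ p.2
    unfold rr at h
    rw [h]; norm_num) (by decide +kernel)

theorem LA_norm (p : ℕ) [Fact p.Prime] [CharP K p] {g : ↥(twistedE6 K q)} (hg : g ∈ LA φ q) :
    ∀ y ∈ RGD.Sup (X φ q) (S2 : Set (Fin 4 → ℤ)), g * y * g⁻¹ ∈ RGD.Sup (X φ q) (S2 : Set (Fin 4 → ℤ)) := by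
  have h1 : LA φ q ≤ Subgroup.normalizer ((RGD.Sup (X φ q) (S2 : Set (Fin 4 → ℤ)) : Subgroup ↥(twistedE6 K q)) :
      Set ↥(twistedE6 K q)) := by
    refine iSup_le fun p' => fun a ha => norm_iff.2 fun y hy => ?_
    exact norm_check (Nodes.RGDTwE6.rgd (K := K) cs hφ hqq p) (pr cs).1 (fun z hz => (gt_check'.2.1 z hz).2)
      (isRoot_Ar cs p'.2) 0 (Ar_zero _ _ p'.2) S2_zero (norm2 _ _ p'.2) ha hy
  exact norm_iff.1 (h1 hg)

/-- the root groups which commute with the second module -/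
theorem comm2 (hK : Fintype.card K = q ^ 2) (hq1 : 1 < q) (p : ℕ) [Fact p.Prime] [CharP K p] {t : Fin 4 → ℤ}
    (ht : t ∈ Gt cs isCartan rr) (ht' : t ∉ S1)
    {w u : ↥(twistedE6 K q)} (hw : w ∈ RGD.Sup (X φ q) (S2 : Set (Fin 4 → ℤ))) (hu : u ∈ X φ q t) : w * u = u * w := by
  have H : Hs (Nodes.RGDTwE6.rgd cs hφ hqq p) rr := (gi hφ hqq p hK hq1).hs
  have h1 : RGD.Sup (X φ q) (S2 : Set (Fin 4 → ℤ)) ≤ Subgroup.centralizer {u} := by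
    refine RGD.Sup_le fun s hs v hv => ?_
    have hs' := Finset.mem_coe.1 hs
    have hsG : s ∈ Gt cs isCartan rr := mem_gt cs (gt_check'.2.1 s hs').2 (gt_check'.2.1 s hs').1
    rw [Subgroup.mem_centralizer_singleton_iff]
    by_cases h2 : s = rr
    · subst h2
      exact H.comm_r hv ht hu
    by_cases h3 : t = rr
    · subst h3
      exact (H.comm_r hu hsG hv).symm
    refine H.com s hsG t ht h2 h3 ?_ v hv u hu
    rcases gt_tab cs ht with h4 | h4 | ⟨i, rfl⟩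
    · exact absurd h4 ht'
    · exact (S2_sum s hs').1 t h4
    · exact (S2_sum s hs').2 i
  exact Subgroup.mem_centralizer_singleton_iff.1 (h1 hw)

/-- **The second module.** -/
theorem second_le (hK : Fintype.card K = q ^ 2) (hq1 : 1 < q) (p : ℕ) [Fact p.Prime] [CharP K p] {ℓ k : ℕ}
    {g : ↥(twistedE6 K q)}
    (HX' : HX p (ℓ ^ k) (X φ q rr) (QQ cs isCartan (X φ q) rr) g) {M : Matrix.SpecialLinearGroup (Fin 3) (Fx φ 1)}
    (hgL : g ∈ LA φ q) (hg : Act φ q g M)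
    (hM : ∀ S : Matrix (Fin 3) (Fin 3) K, (mp φ M).1 * S * (mp φ M).1.transpose = S → S = 0)
    {V : Subgroup ↥(twistedE6 K q)} (hrV : X φ q rr ≤ V) (hV : ∀ w ∈ QQ cs isCartan (X φ q) rr, ⁅g, w⁆ ∈ V) :
    RGD.Sup (X φ q) (S2 : Set (Fin 4 → ℤ)) ≤ V := by
  have H : Hs (Nodes.RGDTwE6.rgd cs hφ hqq p) rr := (gi hφ hqq p hK hq1).hs
  have hS2Q : RGD.Sup (X φ q) (S2 : Set (Fin 4 → ℤ)) ≤ QQ cs isCartan (X φ q) rr := by
    refine RGD.Sup_le fun s hs => ?_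
    have hs' := Finset.mem_coe.1 hs
    exact H.X_le (mem_gt cs (gt_check'.2.1 s hs').2 (gt_check'.2.1 s hs').1)
  have hrS : X φ q rr ≤ RGD.Sup (X φ q) (S2 : Set (Fin 4 → ℤ)) := by
    have h5 : rr ∈ S2 := by decide +kernel
    exact RGD.le_Sup (Finset.mem_coe.2 h5)
  refine HX'.le_of_free hrS hS2Q (LA_norm cs hφ hqq p hgL) ?_ hrV hV
  intro w hw hwZ
  have hne : X φ q rr ≠ ⊥ := X_ne_bot (Nodes.RGDTwE6.rgd cs hφ hqq p) (gr (cs := cs)).rr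
  refine HX'.free_dual hne (N := {n | ∃ S ∈ Herm φ, n = EH φ q S}) ?_ ?_ (hS2Q hw) ?_ hwZ
  · rintro _ ⟨S, hS, rfl⟩
    have h1 : ∀ i j a, (i = j → φ a = a) → x φ q (Hr i j) a ∈ QQ cs isCartan (X φ q) rr := by
      intro i j a ha
      have h2 := gt_check'.1 _ (Hr_S1 i j)
      refine H.X_le (mem_gt cs h2.2 h2.1) ?_
      by_cases hij : i = j
      · subst hij
        exact (mem_X_long hφ hqq (isRoot_Hr cs i i) (Hr_long i) _).2 ⟨a, ha rfl, rfl⟩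
      · exact (mem_X_short hφ hqq (isRoot_Hr cs i j) (Hr_short i j hij) _).2 ⟨a, rfl⟩
    have h2 : ∀ i, φ ((eH i i : ℤ) * S i i) = (eH i i : ℤ) * S i i := fun i => by
      rw [map_mul, map_intCast, hS i i]
    have h3 : ∀ i j a, i ≠ j → x φ q (Hr i j) a ∈ QQ cs isCartan (X φ q) rr := fun i j a hij =>
      h1 i j a fun h => absurd h hij
    unfold EH
    exact mul_mem (mul_mem (h1 _ _ _ fun _ => h2 0) (mul_mem (h1 _ _ _ fun _ => h2 1) (h1 _ _ _ fun _ => h2 2)))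
      (mul_mem (h3 _ _ _ (by decide)) (mul_mem (h3 _ _ _ (by decide)) (h3 _ _ _ (by decide))))
  · rintro V' hV' _ ⟨S, hS, rfl⟩
    exact EH_mem cs hφ hqq hg hM (fun S hS => hV' _ ⟨S, hS, rfl⟩) hS
  · intro hN
    have h1 : QQ cs isCartan (X φ q) rr ≤ Subgroup.centralizer {w} := by
      refine RGD.Sup_le fun t ht => ?_
      by_cases h2 : t ∈ S1
      · obtain ⟨i, j, rfl⟩ := S1_Hr t h2
        refine X_le_of_EH cs hφ hqq (fun S hS => ?_) i j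
        rw [Subgroup.mem_centralizer_singleton_iff]
        exact (hN _ ⟨S, hS, rfl⟩).symm
      · intro u hu
        rw [Subgroup.mem_centralizer_singleton_iff]
        exact (comm2 cs hφ hqq hK hq1 p ht h2 hw hu).symm
    intro y hy
    exact (Subgroup.mem_centralizer_singleton_iff.1 (h1 hy)).symm

theorem first_le {g : ↥(twistedE6 K q)} {M : Matrix.SpecialLinearGroup (Fin 3) (Fx φ 1)} (hg : Act φ q g M)
    (hM : ∀ S : Matrix (Fin 3) (Fin 3) K, (mp φ M).1 * S * (mp φ M).1.transpose = S → S = 0)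
    {V : Subgroup ↥(twistedE6 K q)} (hV : ∀ S ∈ Herm φ, ⁅g, EH φ q S⁆ ∈ V) :
    RGD.Sup (X φ q) (S1 : Set (Fin 4 → ℤ)) ≤ V := by
  refine RGD.Sup_le fun s hs => ?_
  obtain ⟨i, j, rfl⟩ := S1_Hr s (Finset.mem_coe.1 hs)
  exact X_le_of_EH cs hφ hqq (fun S hS => EH_mem cs hφ hqq hg hM hV hS) i j

theorem card_V3 (hK : Fintype.card K = q ^ 2) (hq1 : 1 < q) {V : Subgroup ↥(twistedE6 K q)}
    (h1 : RGD.Sup (X φ q) (S1 : Set (Fin 4 → ℤ)) ≤ V) (h2 : RGD.Sup (X φ q) (S2 : Set (Fin 4 → ℤ)) ≤ V) :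
    q ^ (2 * 9) * Nat.card (X φ q rr) ≤ Nat.card V := by
  obtain ⟨p, hp'⟩ := CharP.exists K
  have : Fact p.Prime := ⟨CharP.char_is_prime K p⟩
  have h3 := card_sup_check (Nodes.RGDTwE6.rgd (K := K) cs hφ hqq p) (pr cs).1 (S := S1 ∪ S2) closed13.1 closed13.2
  have h4 : RGD.Sup (X φ q) ((S1 ∪ S2 : Finset (Fin 4 → ℤ)) : Set (Fin 4 → ℤ)) ≤ V := by
    refine RGD.Sup_le fun z hz => ?_
    rcases Finset.mem_union.1 (Finset.mem_coe.1 hz) with h5 | h5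
    · exact (RGD.le_Sup (Finset.mem_coe.2 h5)).trans h1
    · exact (RGD.le_Sup (Finset.mem_coe.2 h5)).trans h2
  have h5 : ∏ z ∈ S1 ∪ S2, Nat.card (X φ q z) = q ^ 19 := by
    have h6 : ∀ z ∈ S1 ∪ S2, Nat.card (X φ q z) = q ^ eF4t z := fun z hz =>
      card_X (cs := cs) hφ hqq hK hq1 (isRoot_tab cs (closed13.1 z hz))
    rw [Finset.prod_congr rfl h6, Finset.prod_pow_eq_pow_sum]
    congr 1
  rw [card_Xr hφ hqq hK hq1, ← pow_succ]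
  calc q ^ (2 * 9 + 1) = q ^ 19 := rfl
    _ = _ := h5.symm
    _ = _ := h3.symm
    _ ≤ _ := Subgroup.card_le_of_le h4

/-- commutators with `X (-r)` -/
theorem neg_comm_long {s : Fin 4 → ℤ} (hs : IsRoot cs isCartan s) (ls : Lg s) (lr : Lg (-rr))
    (hsr : IsRoot cs isCartan (-rr + s)) :
    ∃ z ∈ X φ q (-rr), ∀ u ∈ X φ q s, u ≠ 1 → ⁅z, u⁆ ∈ X φ q (s - rr) ∧ ⁅z, u⁆ ≠ 1 := by
  have hr : IsRoot cs isCartan (-rr) := (show IsRoot cs isCartan rr from (gr (cs := cs)).rr).neg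
  refine ⟨x φ q (-rr) 1, (mem_X_long hφ hqq hr lr _).2 ⟨1, map_one φ, rfl⟩, ?_⟩
  intro u hu hu1
  obtain ⟨a, ha, rfl⟩ := (mem_X_long hφ hqq hs ls u).1 hu
  obtain ⟨h1, h2⟩ := comm_long hφ hqq hr hs hsr lr ls (map_one φ) ha
  have e : -rr + s = s - rr := by abel
  have h3 : φ ((N (-rr) s : ℤ) * (1 * a) : K) = (N (-rr) s : ℤ) * (1 * a) := by
    rw [map_mul, map_mul, map_intCast, map_one, ha]
  rw [h2]
  refine ⟨?_, ?_⟩
  · rw [e] at hsr h1 ⊢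
    exact (mem_X_long hφ hqq hsr h1 _).2 ⟨_, h3, rfl⟩
  · rw [Ne, x_eq_one_iff hφ hqq hsr (ok_long hsr h1 h3), one_mul, mul_eq_zero]
    rintro (h4 | h4)
    · exact N_ne hφ hqq hr hs (Or.inl (kd_long hr hs hsr lr ls)) h4
    · apply hu1
      rw [h4, x_zero hφ hqq hs]

end

end Cfsg.Agent.H400.Fpr.E6
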