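import Cfsg.Agent.H400.FprE6G

/-!
# Fixed point ratios of `p`-elements: `²E₆(q)`, primes dividing `q² + q + 1`, the result (helper400, TEAM FPR)
-/

set_option autoImplicit false
set_option linter.unusedSectionVars false
set_option linter.unusedVariables false

namespace Cfsg.Agent.H400.Fpr.E6

open CoxeterSystem Cfsg.Agent.ChevalleyStructure.CoxeterGeom Cfsg.Agent.Tits.Roots Cfsg.Agent.Tits.Core
  Cfsg.Agent.Nodes.Reps Cfsg.Agent.Nodes.BNOf Cfsg.Agent.Nodes.RGDTwGen Cfsg.Agent.Nodes.RGDChev Cfsg.Agent.Nodes.RGDFold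
  Cfsg.Agent.Nodes.RGDFoldSL Cfsg.Agent.Nodes.RGDTwE6 Cfsg.Agent.Nodes.RGDTwCoord Cfsg.Agent.Nodes.RGDTwCoordE6
  Cfsg.Agent.Nodes.RGDTwComE6 Cfsg.Agent.Nodes.RGDTwActE6 Cfsg.Agent.Nodes.KindChev Cfsg.Agent.Nodes.Coroot
  Cfsg.Agent.Nodes.PosPair Cfsg.Agent.Nodes.LeviDec Cfsg.Agent.Nodes.StabComb Cfsg.Agent.Nodes.Bruhat
  Cfsg.Agent.Nodes.Unique Cfsg.Agent.KFacts.RgdTI
open Cfsg.Lie Cfsg.Agent.ChevalleyStructure
open Cfsg.Agent.H400.TwoExc Cfsg.Agent.H400.TwoExc.TwE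
open Cfsg.Agent.H398.FPR (CommFull UGood Pair Good)
open scoped commutatorElement MatrixGroups

universe u

local notation "cl" => Nodes.RGDTwCoord.cl chevE6 J O

variable {K : Type u} [Field K] [Fintype K] {q : ℕ} {φ : K →+* K}

theorem S0_long : ∀ i, Lg (S0 i) := by unfold Lg; decide +kernel
theorem rr_long : Lg (-rr) := by unfold Lg; decide +kernel
theorem S0_neg : ∀ i, -rr + S0 i = -S0 (1 - i) := by decide +kernel
theorem S0_ne : ∀ i, S0 i ≠ rr := by decide +kernel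
theorem S0_Ar : ∀ i j k, i ≠ j → (Ar i j + S0 k ∉ L4 ∧ -(Ar i j + S0 k) ∉ L4) ∧ S0 k ≠ -Ar i j := by decide +kernel
theorem S0_e : ∀ i, eF4t (S0 i) = 1 := by decide +kernel
theorem S0_cpr : ∀ i, 2 * qf Nodes.RGDTwE6.A (toV dlF4t) (S0 i) rr = 1 * qf Nodes.RGDTwE6.A (toV dlF4t) rr rr := by
  decide +kernel

section

variable {W : Type*} [Group W] [Finite W] (cs : CoxeterSystem CoxeterMatrix.F₄ W)
  (hφ : ∀ x, φ x = x ^ q) (hqq : ∀ t : K, (t ^ q) ^ q = t)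

include hφ hqq cs

theorem LA_S0 {g : ↥(twistedE6 K q)} (hg : g ∈ LA φ q) (k : Fin 2) {u : ↥(twistedE6 K q)} (hu : u ∈ X φ q (S0 k)) :
    u * g = g * u := by
  have hk : IsRoot cs isCartan (S0 k) := isRoot_tab cs (gt_check'.2.2 k).2
  obtain ⟨a, ha, rfl⟩ := (mem_X_long hφ hqq hk (S0_long k) u).1 hu
  have h1 : LA φ q ≤ Subgroup.centralizer {x φ q (S0 k) a} := by
    refine iSup_le fun p => fun b hb => ?_
    obtain ⟨b, rfl⟩ := (mem_X_short hφ hqq (isRoot_Ar cs p.2) (Ar_short _ _ p.2) b).1 hb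
    rw [Subgroup.mem_centralizer_singleton_iff]
    have h2 := S0_Ar _ _ k p.2
    exact (comm_nil hφ hqq (isRoot_Ar cs p.2) hk (not_root_tab cs h2.1.1 h2.1.2) h2.2 b a).eq
  exact (Subgroup.mem_centralizer_singleton_iff.1 (h1 hg)).symm

end

/-- **`²E₆(q)`, primes dividing `q² + q + 1`.** -/
theorem good_three (hs : IsSimpleGroup ↥(twistedE6 K q)) (hcen : Subgroup.center ↥(twistedE6 K q) = ⊥)
    (hK : Fintype.card K = q ^ 2) (hφ : ∀ x, φ x = x ^ q) (hqq : ∀ t : K, (t ^ q) ^ q = t)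
    (hq1 : 1 < q) (p : ℕ) [Fact p.Prime] [CharP K p] {ℓ : ℕ} (hℓ : ℓ.Prime) (hℓp : ℓ ≠ p) (h4 : ¬ ℓ ∣ q ^ 4 - 1)
    (h3 : ℓ ∣ q ^ 3 - 1) : Good 1 (ℓ + 1) ℓ ↥(twistedE6 K q) := by
  let cs : CoxeterSystem CoxeterMatrix.F₄ _ := CoxeterMatrix.F₄.toCoxeterSystem
  have hW : Finite CoxeterMatrix.F₄.Group := Nodes.RGDFold.finite_W (hp := Nodes.RGDTwE6.hp) cs isCartan foldData
  have hp : p.Prime := Fact.out
  have hfin : Finite ↥(twistedE6 K q) := inferInstance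
  have hM' : ∀ t : ℕ, t ≠ 0 → p ^ t ≡ 1 [MOD ℓ] → ℓ + 1 ≤ p ^ t := fun t ht h => succ_le_pow hp ht h
  have hq0 : 1 ≤ q ^ 3 := Nat.one_le_pow _ _ (by omega)
  have hℓq : ¬ ℓ ∣ q := by
    intro h1
    have h2 : ℓ ∣ q ^ 3 := h1.trans (dvd_pow_self q (by norm_num))
    have h5 := (Nat.dvd_sub_iff_right hq0 h2).1 h3
    exact hℓ.one_lt.ne' (Nat.dvd_one.1 h5)
  -- `ℓ ≤ q² + q + 1`
  have hle : ℓ ≤ q ^ 2 + q + 1 := by
    have e : (q ^ 2 + q + 1) * (q - 1) = q ^ 3 - 1 := by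
      obtain ⟨m, rfl⟩ : ∃ m, q = m + 1 := ⟨q - 1, by omega⟩
      rw [Nat.add_sub_cancel]
      have e2 : (m + 1) ^ 3 = ((m + 1) ^ 2 + (m + 1) + 1) * m + 1 := by ring
      rw [e2, Nat.add_sub_cancel]
    rw [← e] at h3
    rcases (Nat.Prime.dvd_mul hℓ).1 h3 with h5 | h5
    · exact Nat.le_of_dvd (by positivity) h5
    · exact absurd (h5.trans (Nat.sub_one_dvd_pow_sub_one q 4)) h4
  obtain ⟨M, hMℓ, hM⟩ := exists_mp cs hφ hqq hK hq1 hℓ hℓq h4 h3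
  obtain ⟨g, hgL, ⟨b, hgb⟩, hg⟩ := exists_lift_act cs hφ hqq (ℓ := ℓ) hℓ (a := 1) (M := M) (by rw [pow_one]; exact hMℓ)
  have H : Hs (Nodes.RGDTwE6.rgd cs hφ hqq p) rr := (gi hφ hqq p hK hq1).hs
  have hG1 := Nodes.RGDTwE6.G1_eq_top cs hφ hqq
  have hgL0 : g ∈ L0 cs isCartan (X φ q) rr := LA_L0 cs hφ hqq hgL
  have hQp := isPGroup_QQE (cs := cs) hφ hqq hK hq1 p
  have HX' := hx_rgd H hℓ hℓp hgL0 hgb hQp
  -- the first module
  have hS1Q : ∀ S ∈ Herm φ, EH φ q S ∈ QQ cs isCartan (X φ q) rr := by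
    intro S hS
    have h1 : ∀ i j a, (i = j → φ a = a) → x φ q (Hr i j) a ∈ QQ cs isCartan (X φ q) rr := by
      intro i j a ha
      have h2 := gt_check'.1 _ (Hr_S1 i j)
      refine H.X_le (mem_gt cs h2.2 h2.1) ?_
      by_cases hij : i = j
      · subst hij
        exact (mem_X_long hφ hqq (isRoot_Hr cs i i) (Hr_long i) _).2 ⟨a, ha rfl, rfl⟩
      · exact (mem_X_short hφ hqq (isRoot_Hr cs i j) (Hr_short i j hij) _).2 ⟨a, rfl⟩
    have h2 : ∀ i, φ ((eH i i : ℤ) * S i i) = (eH i i : ℤ) * S i i := fun i => by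
      rw [map_mul, map_intCast, hS i i]
    have h3 : ∀ i j a, i ≠ j → x φ q (Hr i j) a ∈ QQ cs isCartan (X φ q) rr := fun i j a hij =>
      h1 i j a fun h => absurd h hij
    unfold EH
    exact mul_mem (mul_mem (h1 _ _ _ fun _ => h2 0) (mul_mem (h1 _ _ _ fun _ => h2 1) (h1 _ _ _ fun _ => h2 2)))
      (mul_mem (h3 _ _ _ (by decide)) (mul_mem (h3 _ _ _ (by decide)) (h3 _ _ _ (by decide))))
  have hV1 : ∀ V : Subgroup ↥(twistedE6 K q), (∀ w ∈ QQ cs isCartan (X φ q) rr, ⁅g, w⁆ ∈ V) →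
      RGD.Sup (X φ q) (S1 : Set (Fin 4 → ℤ)) ≤ V := fun V hV =>
    first_le cs hφ hqq hg hM (fun S hS => hV _ (hS1Q S hS))
  have hV2 : ∀ V : Subgroup ↥(twistedE6 K q), X φ q rr ≤ V → (∀ w ∈ QQ cs isCartan (X φ q) rr, ⁅g, w⁆ ∈ V) →
      RGD.Sup (X φ q) (S2 : Set (Fin 4 → ℤ)) ≤ V := fun V hrV hV =>
    second_le cs hφ hqq hK hq1 p HX' hgL hg hM hrV hV
  have hg1 : g ≠ 1 := by
    rintro rfl
    have h1 := hV1 ⊥ (fun w _ => by rw [Subgroup.mem_bot, commutatorElement_one_left])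
    have h2 : X φ q (Hr 0 1) ≤ ⊥ := (RGD.le_Sup (Finset.mem_coe.2 (Hr_S1 0 1))).trans h1
    rw [le_bot_iff] at h2
    exact X_ne_bot (Nodes.RGDTwE6.rgd cs hφ hqq p) (isRoot_Hr cs 0 1) h2
  refine good_of_uGood' hℓ ⟨b, hgb⟩ ?_
  rcases Nat.lt_or_ge 2 q with hq2 | hq2
  · obtain ⟨h, S⟩ := exists_scR (cs := cs) hφ hqq hK hq2 p
    refine sharp_rgd (c := 9) (D := 2) H hs hcen hG1 S hℓ hℓp hgL0 hgb hg1 hQp ?_ ?_ hM' ?_
    · intro V hrV hVQ hV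
      exact card_V3 cs hφ hqq hK hq1 (hV1 V hV) (hV2 V hrV hV)
    · rw [card_QQE hφ hqq hK hq1 p, card_Xr hφ hqq hK hq1, ← pow_succ]
    · have h5 : 4 * (q ^ 2 + q + 1 + 1) + 1 ≤ q ^ 9 + 4 := by
        have h6 : q ≤ q ^ 2 := by nlinarith
        have h7 : 9 ≤ q ^ 2 := by nlinarith
        have h8 : q ^ 9 = q ^ 2 * (q ^ 2) * (q ^ 2) * (q ^ 2 * q) := by ring
        have h9 : 27 ≤ q ^ 2 * q := by nlinarith
        have h10 : 81 * q ^ 2 ≤ q ^ 2 * (q ^ 2) * (q ^ 2) := by nlinarith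
        have h11 : 81 * q ^ 2 * 27 ≤ q ^ 9 := by
          rw [h8]
          exact Nat.mul_le_mul h10 h9
        nlinarith
      omega
  · have hq' : q = 2 := by omega
    subst hq'
    refine sharp_root (D := 2) (B := 2 ^ 9) H hs hcen hG1 hℓ hℓp hgL0 hgb hg1 hQp S0 ?_ S0_ne ?_ ?_ ?_ ?_ ?_ ?_ hM' ?_
    · intro i
      exact mem_gt cs (gt_check'.2.2 i).2 (gt_check'.2.2 i).1
    · intro i
      rw [card_X (cs := cs) hφ hqq hK hq1 (isRoot_tab cs (gt_check'.2.2 i).2), S0_e i, pow_one]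
    · intro i u hu
      exact LA_S0 cs hφ hqq hgL i hu
    · intro i
      refine neg_comm_long cs hφ hqq (isRoot_tab cs (gt_check'.2.2 i).2) (S0_long i) rr_long ?_
      rw [S0_neg]
      exact (isRoot_tab cs (gt_check'.2.2 (1 - i)).2).neg
    · intro i
      exact cpr_val (gr (cs := cs)).hd (gr (cs := cs)).rr (S0_cpr i) (by decide +kernel)
    · intro s hs' hsr
      rcases gt_tab cs hs' with h5 | h5 | h5
      · right
        intro V hrV hVQ hV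
        exact (RGD.le_Sup (Finset.mem_coe.2 h5)).trans (hV1 V hV)
      · right
        intro V hrV hVQ hV
        exact (RGD.le_Sup (Finset.mem_coe.2 h5)).trans (hV2 V hrV hV)
      · exact Or.inl h5
    · intro V hrV hVQ hV
      rw [← pow_mul, mul_comm 9 2]
      exact card_V3 cs hφ hqq hK hq1 (hV1 V hV) (hV2 V hrV hV)
    · norm_num at hle ⊢
      omega

end Cfsg.Agent.H400.Fpr.E6
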