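import Cfsg.Agent.H400.FprE6H

/-!
# Fixed point ratios of `p`-elements: `²E₆(2)`, `p = 3` (helper400, TEAM FPR)
-/

set_option autoImplicit false
set_option linter.unusedSectionVars false
set_option linter.unusedVariables false

namespace Cfsg.Agent.H400.Fpr.E6

open CoxeterSystem Cfsg.Agent.ChevalleyStructure.CoxeterGeom Cfsg.Agent.Tits.Roots Cfsg.Agent.Tits.Core
  Cfsg.Agent.Nodes.Reps Cfsg.Agent.Nodes.BNOf Cfsg.Agent.Nodes.RGDTwGen Cfsg.Agent.Nodes.RGDChev Cfsg.Agent.Nodes.RGDFold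
  Cfsg.Agent.Nodes.RGDFoldSL Cfsg.Agent.Nodes.RGDTwE6 Cfsg.Agent.Nodes.RGDTwCoord Cfsg.Agent.Nodes.RGDTwCoordE6
  Cfsg.Agent.Nodes.RGDTwComE6 Cfsg.Agent.Nodes.RGDTwActE6 Cfsg.Agent.Nodes.KindChev Cfsg.Agent.Nodes.Coroot
  Cfsg.Agent.Nodes.PosPair Cfsg.Agent.Nodes.LeviDec Cfsg.Agent.Nodes.StabComb Cfsg.Agent.Nodes.Bruhat
  Cfsg.Agent.Nodes.Unique Cfsg.Agent.KFacts.RgdTI
open Cfsg.Lie Cfsg.Agent.ChevalleyStructure
open Cfsg.Agent.H400.TwoExc Cfsg.Agent.H400.TwoExc.TwE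
open Cfsg.Agent.H398.FPR (CommFull UGood Pair Good)
open scoped commutatorElement MatrixGroups

universe u

local notation "cl" => Nodes.RGDTwCoord.cl chevE6 J O

variable {K : Type u} [Field K] [Fintype K] {q : ℕ} {φ : K →+* K}

/-- the long roots -/
def Ls : Fin 8 → (Fin 4 → ℤ) := ![toV [1,0,0,0], toV [1,1,0,0], toV [1,1,2,0], toV [1,2,2,0], toV [1,1,2,2],
  toV [1,2,2,2], toV [1,2,4,2], toV [1,3,4,2]]

/-- the short roots -/
def Sh : Finset (Fin 4 → ℤ) := {toV [1,1,1,0], toV [1,1,1,1], toV [1,1,2,1], toV [1,2,2,1], toV [1,2,3,1],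
  toV [1,2,3,2]}

theorem gt_checkI : ∀ v ∈ L4, 0 < qf Nodes.RGDTwE6.A (toV dlF4t) v rr → v = rr ∨ (∃ i, v = Ls i) ∨ v ∈ Sh := by
  decide +kernel
theorem Ls_tab : ∀ i, Ls i ∈ L4 ∧ 0 < qf Nodes.RGDTwE6.A (toV dlF4t) (Ls i) rr ∧ Ls i ≠ rr ∧ eF4t (Ls i) = 1 ∧
    2 * qf Nodes.RGDTwE6.A (toV dlF4t) (Ls i) rr = 1 * qf Nodes.RGDTwE6.A (toV dlF4t) rr rr := by decide +kernel
theorem Ls_long : ∀ i, Lg (Ls i) := by unfold Lg; decide +kernel
theorem Ls_neg : ∀ i, rr - Ls i ∈ L4 := by decide +kernel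
theorem Sh_tab : ∀ v ∈ Sh, v ∈ L4 ∧ 0 < qf Nodes.RGDTwE6.A (toV dlF4t) v rr ∧ v ≠ sr 3 ∧ v ≠ -sr 3 := by
  decide +kernel
theorem Sh_short : ∀ v ∈ Sh, St v ∧ ¬ Lg v := by unfold St Lg; decide +kernel
theorem Sh_closed : (∀ z ∈ insert rr Sh, z ∈ L4) ∧
    ∀ x ∈ insert rr Sh, ∀ y ∈ insert rr Sh, ∀ z ∈ L4, btw x y z → z ∈ insert rr Sh := by decide +kernel
theorem sr3_perp : qf Nodes.RGDTwE6.A (toV dlF4t) (sr 3) rr = 0 := by decide +kernel

section

variable {W : Type*} [Group W] [Finite W] (cs : CoxeterSystem CoxeterMatrix.F₄ W)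
  (hφ : ∀ x, φ x = x ^ q) (hqq : ∀ t : K, (t ^ q) ^ q = t)

theorem gt_tabI {v : Fin 4 → ℤ} (hv : v ∈ Gt cs isCartan rr) : v = rr ∨ (∃ i, v = Ls i) ∨ v ∈ Sh := by
  have h3 := fun t => (cpr_sign (gr (cs := cs)).hd (gr (cs := cs)).rr
      ((gr (cs := cs)).qf_pos (gr (cs := cs)).rr) t).2
  have h4 := (h3 v).1 hv.2
  rcases (pr cs).1.mem_of_root hv.1 with h5 | h5
  · exact gt_checkI v h5 h4
  · have h6 := gt_check.2 _ h5
    rw [neg_neg] at h6
    exact absurd h4 h6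

include hφ hqq cs

/-- commutators with `X (-r)` for the long roots -/
theorem Ls_comm (i : Fin 8) : ∃ z ∈ X φ q (-rr), ∀ u ∈ X φ q (Ls i), u ≠ 1 → ⁅z, u⁆ ∈ X φ q (Ls i - rr) ∧ ⁅z, u⁆ ≠ 1 := by
  refine neg_comm_long cs hφ hqq (isRoot_tab cs (Ls_tab i).1) (Ls_long i) rr_long ?_
  have h1 : -rr + Ls i = -(rr - Ls i) := by abel
  rw [h1]
  exact (isRoot_tab cs (Ls_neg i)).neg

theorem sr3_L0 : X φ q (sr 3) ⊔ X φ q (-sr 3) ≤ L0 cs isCartan (X φ q) rr := by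
  have hr := isRoot_sr cs isCartan 3
  have hc : cpr cs isCartan (sr 3) rr = 0 := cpr_val (gr (cs := cs)).hd (gr (cs := cs)).rr (by
    have h := sr3_perp
    unfold rr at h
    rw [h]; norm_num) (by decide +kernel)
  refine sup_le ?_ ?_
  · exact RGD.le_Sup (S := {s | IsRoot cs isCartan s ∧ cpr cs isCartan s rr = 0}) ⟨hr, hc⟩
  · refine RGD.le_Sup (S := {s | IsRoot cs isCartan s ∧ cpr cs isCartan s rr = 0}) ⟨hr.neg, ?_⟩
    rw [← neg_one_smul ℤ (sr 3), cpr_smul cs isCartan _ _ (show IsRoot cs isCartan rr from (gr (cs := cs)).rr), hc,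
      mul_zero]

end

/-- **`²E₆(2)`, `p = 3`.** -/
theorem good_2_3 (hs : IsSimpleGroup ↥(twistedE6 K 2)) (hcen : Subgroup.center ↥(twistedE6 K 2) = ⊥)
    (hK : Fintype.card K = 2 ^ 2) (hφ : ∀ x, φ x = x ^ 2) (hqq : ∀ t : K, (t ^ 2) ^ 2 = t) [CharP K 2] :
    Good 1 (3 + 1) 3 ↥(twistedE6 K 2) := by
  classical
  let cs : CoxeterSystem CoxeterMatrix.F₄ _ := CoxeterMatrix.F₄.toCoxeterSystem
  have hW : Finite CoxeterMatrix.F₄.Group := Nodes.RGDFold.finite_W (hp := Nodes.RGDTwE6.hp) cs isCartan foldData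
  have : Fact (Nat.Prime 2) := ⟨Nat.prime_two⟩
  have hfin : Finite ↥(twistedE6 K 2) := inferInstance
  -- the cube root of unity
  obtain ⟨d, hd0, hd1⟩ : ∃ d : K, d ≠ 0 ∧ d ≠ 1 := by
    by_contra h
    push Not at h
    have h1 : Fintype.card K ≤ 2 := by
      have h2 : (Finset.univ : Finset K) ⊆ {0, 1} := by
        intro x _
        rw [Finset.mem_insert, Finset.mem_singleton]
        by_cases hx : x = 0
        · exact Or.inl hx
        · exact Or.inr (h x hx)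
      have h3 := Finset.card_le_card h2
      rw [Finset.card_univ] at h3
      exact h3.trans (Finset.card_le_two)
    omega
  have hd4 : d ^ 4 = d := by
    have := FiniteField.pow_card d
    rwa [hK] at this
  have hd3 : d ^ 3 = 1 := by
    apply mul_right_cancel₀ hd0
    rw [one_mul, ← pow_succ]
    exact hd4
  have hφd : φ d = d ^ 2 := hφ d
  have hN : d * φ d = 1 := by rw [hφd, ← pow_succ']; exact hd3
  have hdj : OkN φ 3 d := Or.inl (by decide)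
  set g := hh φ 2 3 d with hg
  have hgS := hh_mem hφ hqq (j := 3) hd0 hdj
  have hgL0 : g ∈ L0 cs isCartan (X φ 2) rr := sr3_L0 cs hφ hqq hgS
  have hg3 : g ^ 3 ^ 1 = 1 := by rw [pow_one]; exact hh_pow hφ hqq hd0 hdj hd3
  have H : Hs (Nodes.RGDTwE6.rgd cs hφ hqq 2) rr := (gi hφ hqq 2 hK (by norm_num)).hs
  have hG1 := Nodes.RGDTwE6.G1_eq_top cs hφ hqq
  have hQp := isPGroup_QQE (cs := cs) hφ hqq hK (by norm_num) 2
  -- the scalars
  have scL : ∀ z, Lg z → sc φ 3 z d = 1 := by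
    intro z hz
    unfold sc
    rw [if_neg (by decide), if_pos hz, hN, one_zpow]
  have scS : ∀ z ∈ Sh, sc φ 3 z d ≠ 1 := by
    intro z hz
    obtain ⟨-, -, h3, h4⟩ := Sh_tab z hz
    unfold sc
    rw [if_neg (by decide), if_neg (Sh_short z hz).2]
    have hφ1 : φ d ≠ 1 := by
      intro h
      apply hd1
      rw [h, mul_one] at hN
      exact hN
    split_ifs with h5 h6
    · exact hφ1
    · intro h7
      rw [mul_inv_eq_one₀ (by rw [hφd]; exact pow_ne_zero 2 hd0)] at h7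
      rw [hφd] at h7
      apply hd1
      apply mul_right_cancel₀ hd0
      rw [one_mul, ← pow_two]
      exact h7.symm
    · intro h7
      exact hd1 (inv_eq_one.1 h7)
  have hV1 : ∀ V : Subgroup ↥(twistedE6 K 2), (∀ w ∈ QQ cs isCartan (X φ 2) rr, ⁅g, w⁆ ∈ V) → ∀ s ∈ Sh,
      X φ 2 s ≤ V := by
    intro V hV s hs u hu
    have h1 := Sh_tab s hs
    have hr : IsRoot cs isCartan s := isRoot_tab cs h1.1
    have st := (Sh_short s hs).1
    obtain ⟨a, rfl⟩ := (mem_X_short hφ hqq hr st u).1 hu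
    have hne := scS s hs
    have hne' : sc φ 3 s d - 1 ≠ 0 := sub_ne_zero.2 hne
    have h2 := hV (x φ 2 s (a / (sc φ 3 s d - 1))) (H.X_le (mem_gt cs h1.1 h1.2.1)
      ((mem_X_short hφ hqq hr st _).2 ⟨_, rfl⟩))
    have h3 := (conj_hh hφ hqq hr (j := 3) hd0 hdj (ok_short hφ hqq hr st (a / (sc φ 3 s d - 1)))).2
    rw [commutatorElement_def, h3] at h2
    have h4 : sc φ 3 s d * (a / (sc φ 3 s d - 1)) = a + a / (sc φ 3 s d - 1) := by
      field_simp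
      ring
    rw [h4, x_addS cs hφ hqq hr st, mul_inv_cancel_right] at h2
    exact h2
  have hg1 : g ≠ 1 := by
    intro h0
    have h1 := hV1 ⊥ (fun w _ => by rw [h0, Subgroup.mem_bot, commutatorElement_one_left]) (toV [1,1,1,0])
      (by decide +kernel)
    rw [le_bot_iff] at h1
    exact X_ne_bot (Nodes.RGDTwE6.rgd cs hφ hqq 2) (isRoot_tab cs (by decide +kernel)) h1
  have hM' : ∀ t : ℕ, t ≠ 0 → 2 ^ t ≡ 1 [MOD 3] → 3 + 1 ≤ 2 ^ t := fun t ht h => succ_le_pow Nat.prime_two ht h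
  refine good_of_uGood' Nat.prime_three ⟨1, hg3⟩ ?_
  refine sharp_root (D := 8) (B := 2 ^ 6) H hs hcen hG1 Nat.prime_three (by norm_num) hgL0 hg3 hg1 hQp Ls ?_ ?_ ?_ ?_ ?_
    ?_ ?_ ?_ hM' (by norm_num)
  · intro i
    exact mem_gt cs (Ls_tab i).1 (Ls_tab i).2.1
  · intro i
    exact (Ls_tab i).2.2.1
  · intro i
    rw [card_X (cs := cs) hφ hqq hK (by norm_num) (isRoot_tab cs (Ls_tab i).1), (Ls_tab i).2.2.2.1, pow_one]
  · intro i u hu
    have hr : IsRoot cs isCartan (Ls i) := isRoot_tab cs (Ls_tab i).1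
    obtain ⟨a, ha, rfl⟩ := (mem_X_long hφ hqq hr (Ls_long i) u).1 hu
    have h3 := (conj_hh hφ hqq hr (j := 3) hd0 hdj (ok_long hr (Ls_long i) ha)).2
    rw [scL _ (Ls_long i), one_mul] at h3
    exact (mul_inv_eq_iff_eq_mul.1 h3).symm
  · intro i
    exact Ls_comm cs hφ hqq i
  · intro i
    exact cpr_val (gr (cs := cs)).hd (gr (cs := cs)).rr (Ls_tab i).2.2.2.2 (by decide +kernel)
  · intro s hs' hsr
    rcases gt_tabI cs hs' with h5 | h5 | h5
    · exact absurd h5 hsr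
    · exact Or.inl h5
    · right
      intro V hrV hVQ hV
      exact hV1 V hV s h5
  · intro V hrV hVQ hV
    have h3 := card_sup_check (Nodes.RGDTwE6.rgd (K := K) cs hφ hqq 2) (pr cs).1 (S := insert rr Sh) Sh_closed.1
      Sh_closed.2
    have h4 : RGD.Sup (X φ 2) ((insert rr Sh : Finset (Fin 4 → ℤ)) : Set (Fin 4 → ℤ)) ≤ V := by
      refine RGD.Sup_le fun z hz => ?_
      rcases Finset.mem_insert.1 (Finset.mem_coe.1 hz) with h5 | h5
      · rw [h5]; exact hrV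
      · exact hV1 V hV z h5
    have h5 : ∏ z ∈ insert rr Sh, Nat.card (X φ 2 z) = 2 ^ 13 := by
      have h6 : ∀ z ∈ insert rr Sh, Nat.card (X φ 2 z) = 2 ^ eF4t z := fun z hz =>
        card_X (cs := cs) hφ hqq hK (by norm_num) (isRoot_tab cs (Sh_closed.1 z hz))
      rw [Finset.prod_congr rfl h6, Finset.prod_pow_eq_pow_sum]
      congr 1
    rw [card_Xr hφ hqq hK (by norm_num)]
    calc (2 ^ 6) ^ 2 * 2 = 2 ^ 13 := by norm_num
      _ = _ := h5.symm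
      _ = _ := h3.symm
      _ ≤ _ := Subgroup.card_le_of_le h4

end Cfsg.Agent.H400.Fpr.E6
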