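import Cfsg.Agent.H400.FprE6I
import Cfsg.Agent.H26.UFChev

/-!
# Fixed point ratios of `p`-elements: `²E₆(2)`, `p = 5` (helper400, TEAM FPR)
-/

set_option autoImplicit false
set_option linter.unusedSectionVars false
set_option linter.unusedVariables false

namespace Cfsg.Agent.H400.Fpr

open scoped MatrixGroups
open Cfsg.Agent.ChevalleyStructure.SL2Hom (up lo)

/-- an element of `SL₂(F)` which centralises a normalised subgroup -/
theorem sq_of_centralises {F : Type*} [Field F] {Y : Type*} [Group Y] (s : Matrix.SpecialLinearGroup (Fin 2) F →* Y)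
    {U : Subgroup Y} (hn : ∀ M, s M ∈ Subgroup.normalizer (U : Set Y)) {B T : Set Y} (hB : ∀ y ∈ B, y ∈ U)
    (hT : ∀ y ∈ T, y ∈ U) (huT : ∀ t, ∀ y ∈ T, s (up t) * y = y * s (up t))
    (hlB : ∀ t, ∀ y ∈ B, s (lo t) * y = y * s (lo t))
    (huB : ∀ t, (∀ y ∈ B, s (up t) * y = y * s (up t)) → t = 0)
    (hlT : ∀ t, (∀ y ∈ T, s (lo t) * y = y * s (lo t)) → t = 0) {M : Matrix.SpecialLinearGroup (Fin 2) F}
    (hM : ∀ y ∈ U, s M * y = y * s M) : M ^ 2 = 1 := by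
  let s' : Matrix.SpecialLinearGroup (Fin 2) F →* MulAut U :=
    (Subgroup.normalizerMonoidHom U).comp (s.codRestrict (Subgroup.normalizer (U : Set Y)) hn)
  have hval : ∀ (A : Matrix.SpecialLinearGroup (Fin 2) F) (y : U), ((s' A y : U) : Y) = s A * y * (s A)⁻¹ :=
    fun A y => rfl
  have key : ∀ A B : Matrix.SpecialLinearGroup (Fin 2) F, s' A = s' B → ∀ y ∈ U,
      s A * y * (s A)⁻¹ = s B * y * (s B)⁻¹ := by
    intro A B h y hy
    rw [← hval A ⟨y, hy⟩, ← hval B ⟨y, hy⟩, h]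
  have hker : M ∈ s'.ker := by
    rw [MonoidHom.mem_ker]
    ext y
    rw [hval, hM y y.2, mul_inv_cancel_right]
    rfl
  refine sq_eq_one_of_center (Cfsg.Agent.H26.UFChev.ker_le_center s' ?_ ?_ hker)
  · intro t ht
    refine huB t fun y hy => ?_
    have h1 := key (up t) 1 (by rw [ht, map_one]) y (hB y hy)
    rw [map_one, one_mul, inv_one, mul_one] at h1
    exact mul_inv_eq_iff_eq_mul.1 h1
  · intro a b hab
    have hb : b = 0 := by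
      refine hlT b fun y hy => ?_
      have h1 := key _ _ hab y (hT y hy)
      rw [huT a y hy, mul_inv_cancel_right] at h1
      exact mul_inv_eq_iff_eq_mul.1 h1.symm
    have ha : a = 0 := by
      refine huB a fun y hy => ?_
      have h1 := key _ _ hab y (hB y hy)
      rw [hlB b y hy, mul_inv_cancel_right] at h1
      exact mul_inv_eq_iff_eq_mul.1 h1
    exact ⟨ha, hb⟩

end Cfsg.Agent.H400.Fpr

namespace Cfsg.Agent.H400.Fpr.E6

open CoxeterSystem Cfsg.Agent.ChevalleyStructure.CoxeterGeom Cfsg.Agent.Tits.Roots Cfsg.Agent.Tits.Core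
  Cfsg.Agent.Nodes.Reps Cfsg.Agent.Nodes.BNOf Cfsg.Agent.Nodes.RGDTwGen Cfsg.Agent.Nodes.RGDChev Cfsg.Agent.Nodes.RGDFold
  Cfsg.Agent.Nodes.RGDFoldSL Cfsg.Agent.Nodes.RGDTwE6 Cfsg.Agent.Nodes.RGDTwCoord Cfsg.Agent.Nodes.RGDTwCoordE6
  Cfsg.Agent.Nodes.RGDTwComE6 Cfsg.Agent.Nodes.RGDTwActE6 Cfsg.Agent.Nodes.KindChev Cfsg.Agent.Nodes.Coroot
  Cfsg.Agent.Nodes.PosPair Cfsg.Agent.Nodes.LeviDec Cfsg.Agent.Nodes.StabComb Cfsg.Agent.Nodes.Bruhat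
  Cfsg.Agent.Nodes.Unique Cfsg.Agent.KFacts.RgdTI Cfsg.Agent.Nodes.OppDec
open Cfsg.Lie Cfsg.Agent.ChevalleyStructure
open Cfsg.Agent.H400.TwoExc Cfsg.Agent.H400.TwoExc.TwE
open Cfsg.Agent.H398.FPR (CommFull UGood Pair Good)
open Cfsg.Agent.H400.Fpr.D4 (up_zero hS_mul hS_one hS_pow)
open Cfsg.Agent.ChevalleyStructure.SL2Hom (up lo mem_closure_SL2)
open scoped commutatorElement MatrixGroups

universe u

local notation "cl" => Nodes.RGDTwCoord.cl chevE6 J O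

variable {K : Type u} [Field K] [Fintype K] {q : ℕ} {φ : K →+* K}

/-- the roots of the four modules of `⟨X_{±α₃}⟩` -/
def MS : Fin 4 → Finset (Fin 4 → ℤ) := ![{rr, toV [1,1,1,0], toV [1,1,1,1]}, {rr, toV [1,2,3,1], toV [1,2,3,2]},
  {rr, toV [1,1,2,0], toV [1,1,2,1], toV [1,1,2,2]}, {rr, toV [1,2,2,0], toV [1,2,2,1], toV [1,2,2,2]}]

/-- the lowest roots -/
def MB : Fin 4 → (Fin 4 → ℤ) := ![toV [1,1,1,0], toV [1,2,3,1], toV [1,1,2,0], toV [1,2,2,0]]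

/-- the highest roots -/
def MT : Fin 4 → (Fin 4 → ℤ) := ![toV [1,1,1,1], toV [1,2,3,2], toV [1,1,2,2], toV [1,2,2,2]]

/-- the fixed long roots -/
def S5 : Fin 4 → (Fin 4 → ℤ) := ![toV [1,0,0,0], toV [1,1,0,0], toV [1,2,4,2], toV [1,3,4,2]]

theorem gt_checkJ : ∀ v ∈ L4, 0 < qf Nodes.RGDTwE6.A (toV dlF4t) v rr → (∃ i, v = S5 i) ∨ ∃ i, v ∈ MS i := by
  decide +kernel
theorem S5_tab : ∀ i, S5 i ∈ L4 ∧ 0 < qf Nodes.RGDTwE6.A (toV dlF4t) (S5 i) rr ∧ S5 i ≠ rr ∧ eF4t (S5 i) = 1 ∧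
    2 * qf Nodes.RGDTwE6.A (toV dlF4t) (S5 i) rr = 1 * qf Nodes.RGDTwE6.A (toV dlF4t) rr rr ∧ rr - S5 i ∈ L4 := by
  decide +kernel
theorem S5_long : ∀ i, Lg (S5 i) := by unfold Lg; decide +kernel
theorem S5_comm : ∀ i, (S5 i + sr 3 ∉ L4 ∧ -(S5 i + sr 3) ∉ L4 ∧ sr 3 ≠ -S5 i) ∧
    S5 i + -sr 3 ∉ L4 ∧ -(S5 i + -sr 3) ∉ L4 ∧ -sr 3 ≠ -S5 i := by decide +kernel
theorem MS_tab : ∀ i, ∀ z ∈ MS i, z ∈ L4 ∧ 0 < qf Nodes.RGDTwE6.A (toV dlF4t) z rr ∧ 0 < z 0 := by decide +kernel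
theorem MS_closed : ∀ i, ∀ x ∈ MS i, ∀ y ∈ MS i, ∀ z ∈ L4, btw x y z → z ∈ MS i := by decide +kernel
theorem MS_norm : ∀ i, (∀ z ∈ MS i, ∀ z' ∈ L4, btw (sr 3) z z' → z' ∈ MS i) ∧
    ∀ z ∈ MS i, ∀ z' ∈ L4, btw (-sr 3) z z' → z' ∈ MS i := by decide +kernel
theorem MS_card : ∀ i, ∑ z ∈ MS i, eF4t z = 5 := by decide +kernel
theorem MB_tab : ∀ i, MB i ∈ MS i ∧ MT i ∈ MS i ∧ rr ∈ MS i := by decide +kernel
theorem MB_comm : ∀ i, (sr 3 + MT i ∉ L4 ∧ -(sr 3 + MT i) ∉ L4 ∧ MT i ≠ -sr 3) ∧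
    -sr 3 + MB i ∉ L4 ∧ -(-sr 3 + MB i) ∉ L4 ∧ MB i ≠ -(-sr 3) := by decide +kernel
theorem sr3_zero : sr 3 0 = (0 : ℤ) ∧ (-sr 3) 0 = (0 : ℤ) := by decide +kernel
theorem sr3_short : St (sr 3) ∧ St (-sr 3) := by unfold St; decide +kernel
theorem MB_case : ∀ i, (St (MB i) ∧ St (MT i) ∧ sr 3 + MB i = MT i ∧ -sr 3 + MT i = MB i) ∨
    (Lg (MB i) ∧ Lg (MT i) ∧ MB i + sr 3 ∈ L4 ∧ MT i + -sr 3 ∈ L4 ∧ MB i + sr 3 ≠ MB i + (2 : ℤ) • sr 3 ∧
      MT i + -sr 3 ≠ MT i + (2 : ℤ) • (-sr 3)) := by unfold St Lg; decide +kernel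
theorem N_ne0 : ∀ i, N (sr 3) (MB i) ≠ 0 ∧ N (-sr 3) (MT i) ≠ 0 ∧ N (MB i) (sr 3) ≠ 0 ∧ N (MT i) (-sr 3) ≠ 0 := by
  decide +kernel
theorem N_sq : ∀ i, N (sr 3) (MB i) * N (sr 3) (MB i) = 1 ∧ N (-sr 3) (MT i) * N (-sr 3) (MT i) = 1 ∧
    N (MB i) (sr 3) * N (MB i) (sr 3) = 1 ∧ N (MT i) (-sr 3) * N (MT i) (-sr 3) = 1 := by
  decide +kernel

/-- the union -/
def MU : Finset (Fin 4 → ℤ) := MS 0 ∪ MS 1 ∪ MS 2 ∪ MS 3

theorem MU_tab : (∀ z ∈ MU, z ∈ L4 ∧ ∃ i, z ∈ MS i) ∧ ∀ x ∈ MU, ∀ y ∈ MU, ∀ z ∈ L4, btw x y z → z ∈ MU := by decide +kernel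

section

variable {W : Type*} [Group W] [Finite W] (cs : CoxeterSystem CoxeterMatrix.F₄ W)
  (hφ : ∀ x, φ x = x ^ q) (hqq : ∀ t : K, (t ^ q) ^ q = t)

theorem gt_tabJ {v : Fin 4 → ℤ} (hv : v ∈ Gt cs isCartan rr) : (∃ i, v = S5 i) ∨ ∃ i, v ∈ MS i := by
  have h3 := fun t => (cpr_sign (gr (cs := cs)).hd (gr (cs := cs)).rr
      ((gr (cs := cs)).qf_pos (gr (cs := cs)).rr) t).2
  have h4 := (h3 v).1 hv.2
  rcases (pr cs).1.mem_of_root hv.1 with h5 | h5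
  · exact gt_checkJ v h5 h4
  · have h6 := gt_check.2 _ h5
    rw [neg_neg] at h6
    exact absurd h4 h6

include hφ hqq cs

/-- a short root group does not centralise the root group of `w` -/
theorem noncomm_S {α w : Fin 4 → ℤ} (hα : IsRoot cs isCartan α) (hw : IsRoot cs isCartan w)
    (hαw : IsRoot cs isCartan (α + w)) (sα : St α) (sw : St w) (sαw : St (α + w))
    (hN : N α w * N α w = 1) {c : K}
    (h : ∀ y ∈ X φ q w, x φ q α c * y = y * x φ q α c) : c = 0 := by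
  have h1 := h (x φ q w 1) ((mem_X_short hφ hqq hw sw _).2 ⟨1, rfl⟩)
  have h2 := comm_short hφ hqq hα hw hαw sα sw sαw c 1
  rw [commutatorElement_eq_one_iff_mul_comm.2 h1, eq_comm, x_eq_one_iff hφ hqq hαw (ok_short hφ hqq hαw sαw _),
    mul_one, mul_eq_zero] at h2
  rcases h2 with h2 | h2
  · exfalso
    have h3 : ((N α w * N α w : ℤ) : K) = 1 := by rw [hN]; exact Int.cast_one
    rw [Int.cast_mul, h2, mul_zero] at h3
    exact zero_ne_one h3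
  · exact (map_eq_zero φ).1 h2

theorem noncomm_L (p : ℕ) [Fact p.Prime] [CharP K p] {α w : Fin 4 → ℤ} (hα : IsRoot cs isCartan α)
    (hw : IsRoot cs isCartan w) (hαw : IsRoot cs isCartan (w + α)) (sα : St α) (lw : Lg w)
    (hN : N w α * N w α = 1) (hne : w + α ≠ w + (2 : ℤ) • α) {c : K}
    (h : ∀ y ∈ X φ q w, x φ q α c * y = y * x φ q α c) : c = 0 := by
  have h1 := h (x φ q w 1) ((mem_X_long hφ hqq hw lw _).2 ⟨1, map_one φ, rfl⟩)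
  obtain ⟨st, hr2, ll, h2⟩ := comm_quad hφ hqq hw hα hαw lw sα (map_one φ) c
  rw [commutatorElement_eq_one_iff_mul_comm.2 h1.symm] at h2
  have h3 : x φ q (w + α) (((N w α : ℤ) : K) * (1 * c)) ∈ X φ q (w + α) ⊓ X φ q (w + (2 : ℤ) • α) := by
    have h4 : x φ q (w + (2 : ℤ) • α) (((N2 w α : ℤ) : K) * (1 * (c * φ c))) ∈ X φ q (w + (2 : ℤ) • α) := by
      refine (mem_X_long hφ hqq hr2 ll _).2 ⟨_, ?_, rfl⟩
      rw [map_mul, map_mul, map_mul, map_intCast, map_one, phi_phi hφ hqq, mul_comm (φ c) c]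
    refine Subgroup.mem_inf.2 ⟨(mem_X_short hφ hqq hαw st _).2 ⟨_, rfl⟩, ?_⟩
    rw [eq_inv_of_mul_eq_one_left h2.symm]
    exact inv_mem h4
  rw [X_inf_X (Nodes.RGDTwE6.rgd (K := K) cs hφ hqq p) hαw hr2 hne, Subgroup.mem_bot,
    x_eq_one_iff hφ hqq hαw (ok_short hφ hqq hαw st _), one_mul, mul_eq_zero] at h3
  rcases h3 with h3 | h3
  · exfalso
    have h4 : ((N w α * N w α : ℤ) : K) = 1 := by rw [hN]; exact Int.cast_one
    rw [Int.cast_mul, h3, mul_zero] at h4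
    exact zero_ne_one h4
  · exact h3

/-- `Ph (up t)` and `Ph (lo t)` -/
theorem Ph_up_x (t : Fx φ ((Nodes.RGDTwNode.E6.rest 3).length + 1)) :
    ∃ c : K, Ph hφ hqq 3 (up t) = x φ q (sr 3) c ∧ (c = 0 → t = 0) := by
  have hr := isRoot_sr cs isCartan 3
  obtain ⟨c, hc⟩ := (mem_X_short hφ hqq hr sr3_short.1 _).1 ((mem_X_Ph hφ hqq 3 _).2 ⟨t, rfl⟩)
  refine ⟨c, hc.symm, fun h => ?_⟩
  apply up_inj hφ hqq 3
  rw [← hc, h, x_zero hφ hqq hr, up_zero, map_one]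

theorem Ph_lo_x (t : Fx φ ((Nodes.RGDTwNode.E6.rest 3).length + 1)) :
    ∃ c : K, Ph hφ hqq 3 (lo t) = x φ q (-sr 3) c ∧ (c = 0 → t = 0) := by
  have hr := (isRoot_sr cs isCartan 3).neg
  obtain ⟨c, hc⟩ := (mem_X_short hφ hqq hr sr3_short.2 _).1 (Ph_up_lo hφ hqq 3 t)
  refine ⟨c, hc.symm, fun h => ?_⟩
  have h1 := Ph_disj hφ hqq 3 0 t (by rw [← hc, h, x_zero hφ hqq hr, up_zero, map_one])
  exact h1.2

theorem K3_norm (p : ℕ) [Fact p.Prime] [CharP K p] (i : Fin 4) {g : ↥(twistedE6 K q)}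
    (hg : g ∈ X φ q (sr 3) ⊔ X φ q (-sr 3)) :
    g ∈ Subgroup.normalizer ((RGD.Sup (X φ q) (MS i : Set (Fin 4 → ℤ)) : Subgroup ↥(twistedE6 K q)) :
      Set ↥(twistedE6 K q)) := by
  have hr := isRoot_sr cs isCartan 3
  refine (sup_le ?_ ?_ : X φ q (sr 3) ⊔ X φ q (-sr 3) ≤ _) hg
  · intro a ha
    exact norm_iff.2 fun y hy => norm_check (Nodes.RGDTwE6.rgd (K := K) cs hφ hqq p) (pr cs).1
      (fun z hz => (MS_tab i z hz).1) hr 0 sr3_zero.1 (fun z hz => (MS_tab i z hz).2.2) (MS_norm i).1 ha hy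
  · intro a ha
    exact norm_iff.2 fun y hy => norm_check (Nodes.RGDTwE6.rgd (K := K) cs hφ hqq p) (pr cs).1
      (fun z hz => (MS_tab i z hz).1) hr.neg 0 sr3_zero.2 (fun z hz => (MS_tab i z hz).2.2) (MS_norm i).2 ha hy

/-- an element of the rank one group which centralises one of the modules -/
theorem sq_of_module (p : ℕ) [Fact p.Prime] [CharP K p] (i : Fin 4)
    {M : Matrix.SpecialLinearGroup (Fin 2) (Fx φ ((Nodes.RGDTwNode.E6.rest 3).length + 1))}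
    (hM : ∀ y ∈ RGD.Sup (X φ q) (MS i : Set (Fin 4 → ℤ)), Ph hφ hqq 3 M * y = y * Ph hφ hqq 3 M) : M ^ 2 = 1 := by
  have h3 := isRoot_sr cs isCartan 3
  have hB : IsRoot cs isCartan (MB i) := isRoot_tab cs (MS_tab i _ (MB_tab i).1).1
  have hT : IsRoot cs isCartan (MT i) := isRoot_tab cs (MS_tab i _ (MB_tab i).2.1).1
  have memX : ∀ {z : Fin 4 → ℤ}, IsRoot cs isCartan z → ∀ y ∈ X φ q z, ∃ a, y = x φ q z a := by
    intro z hz y hy
    rcases long_or_short hz with l | s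
    · obtain ⟨a, -, e⟩ := (mem_X_long hφ hqq hz l y).1 hy
      exact ⟨a, e.symm⟩
    · obtain ⟨a, e⟩ := (mem_X_short hφ hqq hz s y).1 hy
      exact ⟨a, e.symm⟩
  refine sq_of_centralises (Ph hφ hqq 3) (U := RGD.Sup (X φ q) (MS i : Set (Fin 4 → ℤ)))
    (B := X φ q (MB i)) (T := X φ q (MT i)) (fun M => K3_norm cs hφ hqq p i (Ph_mem hφ hqq 3 M)) ?_ ?_ ?_ ?_ ?_ ?_ hM
  · exact fun y hy => RGD.le_Sup (Finset.mem_coe.2 (MB_tab i).1) hy
  · exact fun y hy => RGD.le_Sup (Finset.mem_coe.2 (MB_tab i).2.1) hy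
  · intro t y hy
    obtain ⟨c, hc, -⟩ := Ph_up_x cs hφ hqq t
    obtain ⟨a, rfl⟩ := memX hT y hy
    rw [hc]
    exact (comm_nil hφ hqq h3 hT (not_root_tab cs (MB_comm i).1.1 (MB_comm i).1.2.1) (MB_comm i).1.2.2 c a).eq
  · intro t y hy
    obtain ⟨c, hc, -⟩ := Ph_lo_x cs hφ hqq t
    obtain ⟨a, rfl⟩ := memX hB y hy
    rw [hc]
    exact (comm_nil hφ hqq h3.neg hB (not_root_tab cs (MB_comm i).2.1 (MB_comm i).2.2.1) (MB_comm i).2.2.2 c a).eq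
  · intro t ht
    obtain ⟨c, hc, h0⟩ := Ph_up_x cs hφ hqq t
    apply h0
    rw [hc] at ht
    rcases MB_case i with ⟨s1, s2, e1, e2⟩ | ⟨l1, l2, e1, e2, n1, n2⟩
    · exact noncomm_S cs hφ hqq h3 hB (by rw [e1]; exact hT) sr3_short.1 s1 (by rw [e1]; exact s2) (N_sq i).1 ht
    · exact noncomm_L cs hφ hqq p h3 hB (isRoot_tab cs e1) sr3_short.1 l1 (N_sq i).2.2.1 n1 ht
  · intro t ht
    obtain ⟨c, hc, h0⟩ := Ph_lo_x cs hφ hqq t
    apply h0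
    rw [hc] at ht
    rcases MB_case i with ⟨s1, s2, e1, e2⟩ | ⟨l1, l2, e1, e2, n1, n2⟩
    · exact noncomm_S cs hφ hqq h3.neg hT (by rw [e2]; exact hB) sr3_short.2 s2 (by rw [e2]; exact s1) (N_sq i).2.1 ht
    · exact noncomm_L cs hφ hqq p h3.neg hT (isRoot_tab cs e2) sr3_short.2 l2 (N_sq i).2.2.2 n2 ht

theorem card_MS (hK : Fintype.card K = q ^ 2) (hq1 : 1 < q) (i : Fin 4) :
    Nat.card (RGD.Sup (X φ q) (MS i : Set (Fin 4 → ℤ))) = q ^ 5 := by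
  obtain ⟨p, hp'⟩ := CharP.exists K
  have : Fact p.Prime := ⟨CharP.char_is_prime K p⟩
  rw [card_sup_check (Nodes.RGDTwE6.rgd (K := K) cs hφ hqq p) (pr cs).1 (S := MS i) (fun z hz => (MS_tab i z hz).1)
    (MS_closed i), ← MS_card i, ← Finset.prod_pow_eq_pow_sum]
  exact Finset.prod_congr rfl fun z hz => card_X (cs := cs) hφ hqq hK hq1 (isRoot_tab cs (MS_tab i z hz).1)

end

/-- **`²E₆(2)`, `p = 5`.** -/
theorem good_2_5 (hs : IsSimpleGroup ↥(twistedE6 K 2)) (hcen : Subgroup.center ↥(twistedE6 K 2) = ⊥)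
    (hK : Fintype.card K = 2 ^ 2) (hφ : ∀ x, φ x = x ^ 2) (hqq : ∀ t : K, (t ^ 2) ^ 2 = t) [CharP K 2] :
    Good 1 (5 + 1) 5 ↥(twistedE6 K 2) := by
  classical
  let cs : CoxeterSystem CoxeterMatrix.F₄ _ := CoxeterMatrix.F₄.toCoxeterSystem
  have hW : Finite CoxeterMatrix.F₄.Group := Nodes.RGDFold.finite_W (hp := Nodes.RGDTwE6.hp) cs isCartan foldData
  have : Fact (Nat.Prime 2) := ⟨Nat.prime_two⟩
  have h5 : Nat.Prime 5 := by norm_num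
  have hfin : Finite ↥(twistedE6 K 2) := inferInstance
  have hFx : Nat.card (Fx φ ((Nodes.RGDTwNode.E6.rest 3).length + 1)) = 4 := by
    have e : Fx φ ((Nodes.RGDTwNode.E6.rest 3).length + 1) = ⊤ := by
      rw [eq_top_iff]
      intro y _
      exact mem_Fx.2 (okN_iff hφ hqq (Or.inl (by decide) : OkN φ 3 y))
    rw [e, Nat.card_congr (Subfield.topEquiv (K := K)).toEquiv, Nat.card_eq_fintype_card, hK]
    norm_num
  obtain ⟨M, hM5, hM1⟩ := exists_fpf_two (k := Fx φ ((Nodes.RGDTwNode.E6.rest 3).length + 1)) h5 (by norm_num)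
    (by rw [hFx]; norm_num) (by rw [hFx]; norm_num)
  have hM2 : M ^ 2 ≠ 1 := by
    intro h
    have h1 : M = 1 := by
      have h2 : M ^ 5 = M ^ 2 * M ^ 2 * M := by rw [← pow_add, ← pow_succ]
      rw [h, one_mul, one_mul] at h2
      rw [← h2, hM5]
    have h2 := hM1 ![1, 0] (by rw [h1]; exact Matrix.one_mulVec _)
    have h3 := congrFun h2 0
    simp at h3
  set g := Ph hφ hqq 3 M with hg
  have hgS : g ∈ X φ 2 (sr 3) ⊔ X φ 2 (-sr 3) := Ph_mem hφ hqq 3 M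
  have hgL0 : g ∈ L0 cs isCartan (X φ 2) rr := sr3_L0 cs hφ hqq hgS
  have hg5 : g ^ 5 ^ 1 = 1 := by rw [pow_one, hg, ← map_pow, hM5, map_one]
  have H : Hs (Nodes.RGDTwE6.rgd cs hφ hqq 2) rr := (gi hφ hqq 2 hK (by norm_num)).hs
  have hG1 := Nodes.RGDTwE6.G1_eq_top cs hφ hqq
  have hQp := isPGroup_QQE (cs := cs) hφ hqq hK (by norm_num) 2
  have HX' := hx_rgd H h5 (by norm_num) hgL0 hg5 hQp
  have hUQ : ∀ i, RGD.Sup (X φ 2) (MS i : Set (Fin 4 → ℤ)) ≤ QQ cs isCartan (X φ 2) rr := by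
    intro i
    refine RGD.Sup_le fun s hs' => ?_
    have h1 := MS_tab i s (Finset.mem_coe.1 hs')
    exact H.X_le (mem_gt cs h1.1 h1.2.1)
  have hrU : ∀ i, X φ 2 rr ≤ RGD.Sup (X φ 2) (MS i : Set (Fin 4 → ℤ)) := fun i =>
    RGD.le_Sup (Finset.mem_coe.2 (MB_tab i).2.2)
  have hV1 : ∀ V : Subgroup ↥(twistedE6 K 2), X φ 2 rr ≤ V → (∀ w ∈ QQ cs isCartan (X φ 2) rr, ⁅g, w⁆ ∈ V) →
      ∀ i, RGD.Sup (X φ 2) (MS i : Set (Fin 4 → ℤ)) ≤ V := by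
    intro V hrV hV i
    have hxU := norm_iff.1 (K3_norm cs hφ hqq 2 i hgS)
    refine HX'.le_of_free (hrU i) (hUQ i) hxU ?_ hrV hV
    refine HX'.free_of_card Nat.prime_two h5 rfl (hrU i) (hUQ i) hxU (a := 4) ?_ ?_ ?_
    · rw [card_MS cs hφ hqq hK (by norm_num), card_Xr hφ hqq hK (by norm_num)]
      norm_num
    · intro b hb hb4
      obtain rfl | rfl | rfl : b = 1 ∨ b = 2 ∨ b = 3 := by omega
      all_goals norm_num
    · by_contra hcon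
      push Not at hcon
      exact hM2 (sq_of_module cs hφ hqq 2 i hcon)
  have hg1 : g ≠ 1 := by
    intro h0
    apply hM2
    refine sq_of_module cs hφ hqq 2 0 ?_
    intro y _
    rw [← hg, h0, one_mul, mul_one]
  have hM' : ∀ t : ℕ, t ≠ 0 → 2 ^ t ≡ 1 [MOD 5] → 5 + 1 ≤ 2 ^ t := fun t ht h => succ_le_pow Nat.prime_two ht h
  refine good_of_uGood' h5 ⟨1, hg5⟩ ?_
  refine sharp_root (D := 4) (B := 2 ^ 8) H hs hcen hG1 h5 (by norm_num) hgL0 hg5 hg1 hQp S5 ?_ ?_ ?_ ?_ ?_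
    ?_ ?_ ?_ hM' (by norm_num)
  · intro i
    exact mem_gt cs (S5_tab i).1 (S5_tab i).2.1
  · intro i
    exact (S5_tab i).2.2.1
  · intro i
    rw [card_X (cs := cs) hφ hqq hK (by norm_num) (isRoot_tab cs (S5_tab i).1), (S5_tab i).2.2.2.1, pow_one]
  · intro i u hu
    have hr : IsRoot cs isCartan (S5 i) := isRoot_tab cs (S5_tab i).1
    have h3 := isRoot_sr cs isCartan 3
    obtain ⟨a, ha, rfl⟩ := (mem_X_long hφ hqq hr (S5_long i) u).1 hu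
    have h1 : X φ 2 (sr 3) ⊔ X φ 2 (-sr 3) ≤ Subgroup.centralizer {x φ 2 (S5 i) a} := by
      refine sup_le ?_ ?_
      · intro b hb
        obtain ⟨b, rfl⟩ := (mem_X_short hφ hqq h3 sr3_short.1 b).1 hb
        rw [Subgroup.mem_centralizer_singleton_iff]
        exact (comm_nil hφ hqq hr h3 (not_root_tab cs (S5_comm i).1.1 (S5_comm i).1.2.1) (S5_comm i).1.2.2 a b).eq.symm
      · intro b hb
        obtain ⟨b, rfl⟩ := (mem_X_short hφ hqq h3.neg sr3_short.2 b).1 hb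
        rw [Subgroup.mem_centralizer_singleton_iff]
        exact (comm_nil hφ hqq hr h3.neg (not_root_tab cs (S5_comm i).2.1 (S5_comm i).2.2.1)
          (S5_comm i).2.2.2 a b).eq.symm
    exact (Subgroup.mem_centralizer_singleton_iff.1 (h1 hgS)).symm
  · intro i
    refine neg_comm_long cs hφ hqq (isRoot_tab cs (S5_tab i).1) (S5_long i) rr_long ?_
    have h1 : -rr + S5 i = -(rr - S5 i) := by abel
    rw [h1]
    exact (isRoot_tab cs (S5_tab i).2.2.2.2.2).neg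
  · intro i
    exact cpr_val (gr (cs := cs)).hd (gr (cs := cs)).rr (S5_tab i).2.2.2.2.1 (by decide +kernel)
  · intro s hs' hsr
    rcases gt_tabJ cs hs' with h6 | ⟨i, h6⟩
    · exact Or.inl h6
    · right
      intro V hrV hVQ hV
      exact (RGD.le_Sup (Finset.mem_coe.2 h6)).trans (hV1 V hrV hV i)
  · intro V hrV hVQ hV
    have h3 := card_sup_check (Nodes.RGDTwE6.rgd (K := K) cs hφ hqq 2) (pr cs).1 (S := MU) (fun z hz => (MU_tab.1 z hz).1)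
      MU_tab.2
    have h4 : RGD.Sup (X φ 2) ((MU : Finset (Fin 4 → ℤ)) : Set (Fin 4 → ℤ)) ≤ V := by
      refine RGD.Sup_le fun z hz => ?_
      obtain ⟨i, hi⟩ := (MU_tab.1 z (Finset.mem_coe.1 hz)).2
      exact (RGD.le_Sup (Finset.mem_coe.2 hi)).trans (hV1 V hrV hV i)
    have h5 : ∏ z ∈ MU, Nat.card (X φ 2 z) = 2 ^ 17 := by
      have h6 : ∀ z ∈ MU, Nat.card (X φ 2 z) = 2 ^ eF4t z := fun z hz =>
        card_X (cs := cs) hφ hqq hK (by norm_num) (isRoot_tab cs (MU_tab.1 z hz).1)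
      rw [Finset.prod_congr rfl h6, Finset.prod_pow_eq_pow_sum]
      congr 1
    rw [card_Xr hφ hqq hK (by norm_num)]
    calc (2 ^ 8) ^ 2 * 2 = 2 ^ 17 := by norm_num
      _ = _ := h5.symm
      _ = _ := h3.symm
      _ ≤ _ := Subgroup.card_le_of_le h4

end Cfsg.Agent.H400.Fpr.E6
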