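import Cfsg.Agent.H400.FprE6J
import Cfsg.Agent.H441.FPR.TwEA
import Cfsg.Agent.H448.FprExc.RowCyc
import Cfsg.Agent.H448.FprExc.TorB
import Cfsg.Agent.H448.FprExc.TorC
import Cfsg.Agent.S1066
import Cfsg.Agent.S1070

/-!
# Fixed point ratios of `p`-elements: all rows of `²E₆(q)` (helper400, TEAM FPR)
-/

set_option autoImplicit false

namespace Cfsg.Agent.H400.Fpr.E6Row

open Cfsg.Lie
open Cfsg.Agent.H409 (FprRow)
open Cfsg.Agent.H398.FPR (UGood Good)
open Cfsg.Agent.H400.Fpr Cfsg.Agent.H400.Fpr.E6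

universe u

/-- divisors of `10` etc. -/
theorem order_cases {n : ℕ} (hn : n ∣ 2 ∨ n ∣ 10 ∨ n ∣ 6 ∨ n ∣ 8 ∨ n ∣ 18 ∨ n ∣ 12) :
    n ∣ 4 ∨ n = 5 ∨ n = 3 ∨ n = 6 ∨ n = 8 ∨ n = 9 ∨ n = 10 ∨ n = 12 ∨ n = 18 := by
  have h1 : n ≤ 18 := by
    rcases hn with h | h | h | h | h | h
    all_goals exact (Nat.le_of_dvd (by norm_num) h).trans (by norm_num)
  have key : ∀ n : ℕ, n ≤ 18 → (n ∣ 2 ∨ n ∣ 10 ∨ n ∣ 6 ∨ n ∣ 8 ∨ n ∣ 18 ∨ n ∣ 12) →
      n ∣ 4 ∨ n = 5 ∨ n = 3 ∨ n = 6 ∨ n = 8 ∨ n = 9 ∨ n = 10 ∨ n = 12 ∨ n = 18 := by decide +kernel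
  exact key n h1 hn

theorem zmod_two : ∀ y : ZMod 2, y ≠ 0 → y = 1 := by decide

theorem zmod_seven : ((2 : ℕ) : ZMod 7) ^ 3 = 1 := by decide

theorem zmod_31 : ((2 : ℕ) : ZMod 31) ^ 5 = 1 := by decide

/-- the orders -/
theorem cases_2E6 {q p : ℕ} [hp : Fact p.Prime] (hq : 1 < q) (hpq : ¬ p ∣ q)
    (hd : p ∣ q ^ 36 * (q ^ 2 - 1) * (q ^ 5 + 1) * (q ^ 6 - 1) * (q ^ 8 - 1) * (q ^ 9 + 1) * (q ^ 12 - 1)) :
    p ∣ q ^ 4 - 1 ∨ orderOf (q : ZMod p) ∈ [3, 6, 8, 10, 12, 18] := by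
  obtain ⟨x, hx⟩ : ∃ x : ZMod p, x = (q : ZMod p) := ⟨_, rfl⟩
  have hx0 : x ≠ 0 := by
    rw [hx, Ne, ZMod.natCast_eq_zero_iff]
    exact hpq
  have ge : ∀ i : ℕ, 1 ≤ q ^ i := fun i => Nat.one_le_pow _ _ (by omega)
  have hz : x ^ 36 * (x ^ 2 - 1) * (x ^ 5 + 1) * (x ^ 6 - 1) * (x ^ 8 - 1) * (x ^ 9 + 1) * (x ^ 12 - 1) = 0 := by
    have := (ZMod.natCast_eq_zero_iff _ p).2 hd
    push_cast [Nat.cast_sub (ge 2), Nat.cast_sub (ge 6), Nat.cast_sub (ge 8), Nat.cast_sub (ge 12)] at this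
    rw [← hx] at this
    exact this
  have h4 : p ∣ q ^ 4 - 1 ↔ x ^ 4 = 1 := by
    rw [← ZMod.natCast_eq_zero_iff]
    push_cast [Nat.cast_sub (ge 4)]
    rw [← hx, sub_eq_zero]
  rw [h4, ← hx]
  have dv : ∀ {i : ℕ}, x ^ i - 1 = 0 → orderOf x ∣ i := fun h => orderOf_dvd_of_pow_eq_one (sub_eq_zero.1 h)
  -- the cases
  have key : orderOf x ∣ 2 ∨ (orderOf x ∣ 10 ∧ x ^ 5 = -1) ∨ orderOf x ∣ 6 ∨ orderOf x ∣ 8 ∨
      (orderOf x ∣ 18 ∧ x ^ 9 = -1) ∨ orderOf x ∣ 12 := by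
    rcases mul_eq_zero.1 hz with hz | h
    · rcases mul_eq_zero.1 hz with hz | h
      · rcases mul_eq_zero.1 hz with hz | h
        · rcases mul_eq_zero.1 hz with hz | h
          · rcases mul_eq_zero.1 hz with hz | h
            · rcases mul_eq_zero.1 hz with hz | h
              · exact absurd hz (pow_ne_zero _ hx0)
              · exact Or.inl (dv h)
            · refine Or.inr (Or.inl ⟨dv ?_, eq_neg_of_add_eq_zero_left h⟩)
              linear_combination (x ^ 5 - 1) * h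
          · exact Or.inr (Or.inr (Or.inl (dv h)))
        · exact Or.inr (Or.inr (Or.inr (Or.inl (dv h))))
      · refine Or.inr (Or.inr (Or.inr (Or.inr (Or.inl ⟨dv ?_, eq_neg_of_add_eq_zero_left h⟩))))
        linear_combination (x ^ 9 - 1) * h
    · exact Or.inr (Or.inr (Or.inr (Or.inr (Or.inr (dv h)))))
  -- `x ^ 5 = -1` etc. with odd order gives `2 = 0`
  have two : (1 : ZMod p) = -1 → x ^ 4 = 1 := by
    intro h
    have h2 : (2 : ZMod p) = 0 := by linear_combination h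
    have h2' : p ∣ 2 := by
      rw [← ZMod.natCast_eq_zero_iff]
      exact_mod_cast h2
    have hp2 : p = 2 := (Nat.prime_dvd_prime_iff_eq hp.out Nat.prime_two).1 h2'
    subst hp2
    rw [zmod_two x hx0, one_pow]
  have h5 : orderOf x = 5 → x ^ 4 = 1 := by
    intro h
    apply two
    have e5 : x ^ 5 = 1 := by rw [← h]; exact pow_orderOf_eq_one x
    rcases key with h1 | ⟨-, h1⟩ | h1 | h1 | ⟨h1, -⟩ | h1
    all_goals first
      | exact e5.symm.trans h1
      | (rw [h] at h1; exact absurd h1 (by decide))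
  have h9 : orderOf x = 9 → x ^ 4 = 1 := by
    intro h
    apply two
    have e5 : x ^ 9 = 1 := by rw [← h]; exact pow_orderOf_eq_one x
    rcases key with h1 | ⟨h1, -⟩ | h1 | h1 | ⟨-, h1⟩ | h1
    all_goals first
      | exact e5.symm.trans h1
      | (rw [h] at h1; exact absurd h1 (by decide))
  have h6 : orderOf x ∣ 2 ∨ orderOf x ∣ 10 ∨ orderOf x ∣ 6 ∨ orderOf x ∣ 8 ∨ orderOf x ∣ 18 ∨ orderOf x ∣ 12 := by
    rcases key with h1 | ⟨h1, -⟩ | h1 | h1 | ⟨h1, -⟩ | h1 <;> simp [h1]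
  rcases order_cases h6 with h | h | h | h | h | h | h | h | h
  · exact Or.inl (orderOf_dvd_iff_pow_eq_one.1 h)
  · exact Or.inl (h5 h)
  · right; rw [h]; simp
  · right; rw [h]; simp
  · right; rw [h]; simp
  · exact Or.inl (h9 h)
  · right; rw [h]; simp
  · right; rw [h]; simp
  · right; rw [h]; simp

section

variable {K : Type u} [Field K] [Fintype K] {q : ℕ}

/-- the Frobenius map -/
theorem exists_frob (hq : IsPrimePow q) (hK : Fintype.card K = q ^ 2) :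
    ∃ (r f : ℕ) (_ : Fact r.Prime) (_ : CharP K r) (φ : K →+* K), q = r ^ f ∧ f ≠ 0 ∧ ∀ x, φ x = x ^ q := by
  obtain ⟨r, f, hr, hf, hqr⟩ := hq
  have hr' : r.Prime := hr.nat_prime
  have : Fact r.Prime := ⟨hr'⟩
  have hch : CharP K r := by
    obtain ⟨p, hp⟩ := CharP.exists K
    have hpp : Fact p.Prime := ⟨(CharP.char_is_prime_or_zero K p).resolve_right (CharP.char_ne_zero_of_finite K p)⟩
    obtain ⟨n, hn, hn2⟩ := FiniteField.card K p
    have h1 : r ∣ p ^ (n : ℕ) := by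
      rw [← hn2, hK, ← hqr]
      exact (dvd_pow_self r hf.ne').trans (dvd_pow_self _ (by norm_num))
    have h2 := (Nat.prime_dvd_prime_iff_eq hr' hpp.out).1 (hr'.dvd_of_dvd_pow h1)
    rwa [h2]
  refine ⟨r, f, this, hch, iterateFrobenius K r f, hqr.symm, hf.ne', fun x => ?_⟩
  rw [iterateFrobenius_def, hqr]

theorem center_bot {G : Type*} [Group G] (hs : IsSimpleGroup G) (h : ¬ IsMulCommutative G) :
    Subgroup.center G = ⊥ := by
  rcases hs.eq_bot_or_eq_top_of_normal (Subgroup.center G) inferInstance with h1 | h1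
  · exact h1
  · exfalso
    apply h
    refine ⟨⟨fun a b => ?_⟩⟩
    have h2 : a ∈ Subgroup.center G := by rw [h1]; trivial
    exact (Subgroup.mem_center_iff.1 h2 b).symm

/-- **All rows of S3578 for `²E₆(q)`**; `h11` is the row `q = 2`, `p = 11`. -/
theorem row_sharp' (h11 : ∀ (φ : K →+* K), (∀ x, φ x = x ^ 2) → Fintype.card K = 2 ^ 2 →
      FprRow (11 + 1) 1 11 ↥(twistedE6 K 2))
    (hq : IsPrimePow q) (hK : Fintype.card K = q ^ 2) {p : ℕ} [hp : Fact p.Prime] (hch : (p : K) ≠ 0)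
    (hpG : p ∣ Nat.card ↥(twistedE6 K q)) : FprRow (p + 1) 1 p ↥(twistedE6 K q) := by
  obtain ⟨r, f, hr, hchar, φ, hqr, hf, hφ⟩ := exists_frob hq hK
  have hq1 : 1 < q := hq.one_lt
  have hs : IsSimpleGroup ↥(twistedE6 K q) := (Cfsg.Agent.S1070.result hq hK).1
  have hcen := center_bot hs (Cfsg.Agent.S1070.result hq hK).2
  have hqq : ∀ t : K, (t ^ q) ^ q = t := by
    intro t
    rw [← pow_mul, ← pow_two, ← hK]
    exact FiniteField.pow_card t
  have hpr : p ≠ r := by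
    rintro rfl
    exact hch (CharP.cast_eq_zero K p)
  have hpq : ¬ p ∣ q := by
    intro h
    rw [hqr] at h
    exact hpr ((Nat.prime_dvd_prime_iff_eq hp.out hr.out).1 (hp.out.dvd_of_dvd_pow h))
  have hd : p ∣ q ^ 36 * (q ^ 2 - 1) * (q ^ 5 + 1) * (q ^ 6 - 1) * (q ^ 8 - 1) * (q ^ 9 + 1) * (q ^ 12 - 1) := by
    rw [← Cfsg.Agent.S1066.result hq hK]
    exact Dvd.dvd.mul_left hpG _
  have hr2 : q = 2 → r = 2 := by
    intro h
    rw [h] at hqr
    have h1 : r ∣ 2 := by rw [hqr]; exact dvd_pow_self r hf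
    exact (Nat.prime_dvd_prime_iff_eq hr.out Nat.prime_two).1 h1
  by_cases h4 : p ∣ q ^ 4 - 1
  · by_cases hq2 : 2 < q
    · exact good_four hs hcen hK hφ hqq hq2 r hp.out hpr h4
    · have hq' : q = 2 := by omega
      have hr' := hr2 hq'
      subst hr'
      subst hq'
      have h5 : p ∣ 3 * 5 := by
        have : 2 ^ 4 - 1 = 3 * 5 := by norm_num
        rwa [this] at h4
      rcases (Nat.Prime.dvd_mul hp.out).1 h5 with h6 | h6
      · have h7 := (Nat.prime_dvd_prime_iff_eq hp.out Nat.prime_three).1 h6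
        subst h7
        exact good_2_3 hs hcen hK hφ hqq
      · have h7 := (Nat.prime_dvd_prime_iff_eq hp.out Nat.prime_five).1 h6
        subst h7
        exact good_2_5 hs hcen hK hφ hqq
  have ho := (cases_2E6 hq1 hpq hd).resolve_left h4
  have ge : ∀ i : ℕ, 1 ≤ q ^ i := fun i => Nat.one_le_pow _ _ (by omega)
  have hdv : ∀ n, orderOf (q : ZMod p) = n → p ∣ q ^ n - 1 := by
    intro n hn
    rw [← ZMod.natCast_eq_zero_iff]
    push_cast [Nat.cast_sub (ge n)]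
    rw [sub_eq_zero, ← hn]
    exact pow_orderOf_eq_one _
  simp only [List.mem_cons, List.not_mem_nil, or_false] at ho
  rcases ho with ho | ho | ho | ho | ho | ho
  · exact good_three hs hcen hK hφ hqq hq1 r hp.out hpr h4 (hdv 3 ho)
  · by_cases hq2 : 2 < q
    · exact Cfsg.Agent.H441.FPR.TwE.good_six_ten hs hcen hK hφ hqq hq2 r hp.out hpr (Or.inl ho)
    · exfalso
      have hq' : q = 2 := by omega
      subst hq'
      have h5 : p ∣ 3 ^ 2 * 7 := by
        have : 2 ^ 6 - 1 = 3 ^ 2 * 7 := by norm_num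
        rw [← this]
        exact hdv 6 ho
      rcases (Nat.Prime.dvd_mul hp.out).1 h5 with h6 | h6
      · have h7 := (Nat.prime_dvd_prime_iff_eq hp.out Nat.prime_three).1 (hp.out.dvd_of_dvd_pow h6)
        subst h7
        exact h4 (by norm_num)
      · have h7 := (Nat.prime_dvd_prime_iff_eq hp.out (by norm_num)).1 h6
        subst h7
        have h9 := orderOf_dvd_of_pow_eq_one zmod_seven
        rw [ho] at h9
        exact absurd h9 (by decide)
  · exact Cfsg.Agent.H448.FprExc.row_2E6_eight hq hK ho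
  · by_cases hq2 : 2 < q
    · exact Cfsg.Agent.H441.FPR.TwE.good_six_ten hs hcen hK hφ hqq hq2 r hp.out hpr (Or.inr ho)
    · have hq' : q = 2 := by omega
      subst hq'
      have h5 : p ∣ 3 * 11 * 31 := by
        have : 2 ^ 10 - 1 = 3 * 11 * 31 := by norm_num
        rw [← this]
        exact hdv 10 ho
      rcases (Nat.Prime.dvd_mul hp.out).1 h5 with h6 | h6
      · rcases (Nat.Prime.dvd_mul hp.out).1 h6 with h6 | h6
        · exfalso
          have h7 := (Nat.prime_dvd_prime_iff_eq hp.out Nat.prime_three).1 h6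
          subst h7
          exact h4 (by norm_num)
        · have h7 := (Nat.prime_dvd_prime_iff_eq hp.out (by norm_num)).1 h6
          subst h7
          exact h11 φ hφ hK
      · exfalso
        have h7 := (Nat.prime_dvd_prime_iff_eq hp.out (by norm_num)).1 h6
        subst h7
        have h9 := orderOf_dvd_of_pow_eq_one zmod_31
        rw [ho] at h9
        exact absurd h9 (by decide)
  · exact Cfsg.Agent.H448.FprExc.row_2E6_twelve hq hK ho
  · exact Cfsg.Agent.H448.FprExc.row_2E6_eighteen hq hK ho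

/-- **All rows of S3569 for `²E₆(q)`**; `h11` is the row `q = 2`, `p = 11`. -/
theorem row569' (h11 : ∀ (φ : K →+* K), (∀ x, φ x = x ^ 2) → Fintype.card K = 2 ^ 2 →
      FprRow (11 + 1) 1 11 ↥(twistedE6 K 2))
    (hq : IsPrimePow q) (hK : Fintype.card K = q ^ 2) {p : ℕ} [hp : Fact p.Prime] (hch : (p : K) ≠ 0)
    (hpG : p ∣ Nat.card ↥(twistedE6 K q)) : FprRow (2 * p - 1) (p - 1) p ↥(twistedE6 K q) := by
  refine (row_sharp' h11 hq hK hch hpG).mono (by norm_num) ?_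
  obtain ⟨m, rfl⟩ : ∃ m, p = m + 2 := ⟨p - 2, by have := hp.out.two_le; omega⟩
  have e1 : 2 * (m + 2) - 1 = 2 * m + 3 := by omega
  have e2 : m + 2 - 1 = m + 1 := by omega
  rw [e1, e2]
  nlinarith

end

end Cfsg.Agent.H400.Fpr.E6Row
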