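import Cfsg.Agent.H400.FprCop

/-!
# Fixed point ratios of `p`-elements: the Heisenberg lemma (helper400, TEAM FPR)

`Q` a Heisenberg group with centre `Z`, `n`, `h ∈ ⟨Z, Z^n⟩`, `⟨Q, Q^n⟩ = Y`, `h` acts on `Q/Z` as a scalar of order
`q - 1`; `x ≠ 1` a `p`-element centralising `⟨Z, Z^n⟩` and normalising `Q`. If `|Q/Z| ≤ q^D` then `x` has fixed point
ratio at most `(D+2)/(M+D+1)`, where `M` is the least power `≠ 1` of the characteristic which is `1` modulo `p`.
-/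

set_option autoImplicit false
set_option linter.unusedSectionVars false
set_option linter.unusedVariables false
open Subgroup MulAction
open scoped Pointwise commutatorElement

namespace Cfsg.Agent.H400.Fpr

open Cfsg.Agent.H398.FPR (CommFull UGood Pair)
open Cfsg.Agent.H435.Fpr (PairM T3M_uGood)

variable {Y : Type*} [Group Y]

/-- conjugate subgroup -/
def cc (g : Y) (H : Subgroup Y) : Subgroup Y := H.map (MulAut.conj g).toMonoidHom

theorem mem_cc {g y : Y} {H : Subgroup Y} : y ∈ cc g H ↔ g⁻¹ * y * g ∈ H := by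
  constructor
  · rintro ⟨z, hz, rfl⟩
    have h1 : g⁻¹ * (MulAut.conj g).toMonoidHom z * g = z := by
      show g⁻¹ * (g * z * g⁻¹) * g = z
      group
    rwa [h1]
  · intro h
    refine ⟨_, h, ?_⟩
    show g * (g⁻¹ * y * g) * g⁻¹ = y
    group

theorem conj_mem_cc {g y : Y} {H : Subgroup Y} (hy : y ∈ H) : g * y * g⁻¹ ∈ cc g H := ⟨y, hy, rfl⟩

theorem cc_le {g : Y} {H K : Subgroup Y} (hg : g ∈ K) (h : H ≤ K) : cc g H ≤ K := by
  rintro _ ⟨y, hy, rfl⟩
  exact mul_mem (mul_mem hg (h hy)) (inv_mem hg)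

theorem cc_mono {g : Y} {H K : Subgroup Y} (h : H ≤ K) : cc g H ≤ cc g K := map_mono h

theorem cc_cc (g g' : Y) (H : Subgroup Y) : cc g (cc g' H) = cc (g * g') H := by
  unfold cc
  rw [Subgroup.map_map]
  congr 1
  ext y
  show g * (g' * y * g'⁻¹) * g⁻¹ = g * g' * y * (g * g')⁻¹
  group

theorem cc_one (H : Subgroup Y) : cc 1 H = H := by
  ext y
  rw [mem_cc]
  simp

/-- `PairM` passes to conjugates under elements commuting with `x`. -/
theorem pairM_cc {M : ℕ} {x g : Y} {R : Subgroup Y} [Finite Y] (h : PairM M x R) (hg : g * x = x * g) :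
    PairM M x (cc g R) := by
  have hgi : g⁻¹ * x = x * g⁻¹ := by
    rw [inv_mul_eq_iff_eq_mul, ← mul_assoc, hg, mul_inv_cancel_right]
  have hfin : Finite R := inferInstance
  have hn : ∀ {K : Subgroup Y}, x ∈ normalizer (K : Set Y) → x ∈ normalizer (cc g⁻¹ K : Set Y) := by
    intro K hK
    rw [norm_iff] at hK ⊢
    intro y hy
    rw [mem_cc, inv_inv] at hy ⊢
    have h1 := hK _ hy
    have h2 : x * (g * y * g⁻¹) * x⁻¹ = g * (x * y * x⁻¹) * g⁻¹ := by
      calc x * (g * y * g⁻¹) * x⁻¹ = (x * g) * y * (x * g)⁻¹ := by group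
        _ = (g * x) * y * (g * x)⁻¹ := by rw [hg]
        _ = _ := by group
    rwa [h2] at h1
  have hlt : ∀ {K : Subgroup Y}, K < cc g R → cc g⁻¹ K < R := by
    intro K hK
    refine lt_of_le_of_ne ?_ ?_
    · intro y hy
      rw [mem_cc, inv_inv] at hy
      have h1 := hK.le hy
      rw [mem_cc] at h1
      have h2 : g⁻¹ * (g * y * g⁻¹) * g = y := by group
      rwa [h2] at h1
    · intro h1
      apply hK.ne
      rw [← h1, cc_cc, mul_inv_cancel, cc_one]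
  have hcomm : ∀ (y : Y), g⁻¹ * (x * y * x⁻¹ * y⁻¹) * g = x * (g⁻¹ * y * g) * x⁻¹ * (g⁻¹ * y * g)⁻¹ := by
    intro y
    calc g⁻¹ * (x * y * x⁻¹ * y⁻¹) * g = (g⁻¹ * x) * y * (g⁻¹ * x)⁻¹ * (g⁻¹ * y * g)⁻¹ := by group
      _ = (x * g⁻¹) * y * (x * g⁻¹)⁻¹ * (g⁻¹ * y * g)⁻¹ := by rw [hgi]
      _ = _ := by group
  refine ⟨?_, ?_, ?_, ?_⟩
  · have := h.nilp
    have e : R ≃* (cc g R) := Subgroup.equivMapOfInjective R (MulAut.conj g).toMonoidHom (MulAut.conj g).injective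
    exact (Group.isNilpotent_congr e).1 this
  · have h1 := h.norm
    rw [norm_iff] at h1 ⊢
    intro y hy
    rw [mem_cc] at hy ⊢
    have h2 := h1 _ hy
    have h3 : g⁻¹ * (x * y * x⁻¹) * g = x * (g⁻¹ * y * g) * x⁻¹ := by
      calc g⁻¹ * (x * y * x⁻¹) * g = (g⁻¹ * x) * y * (g⁻¹ * x)⁻¹ := by group
        _ = (x * g⁻¹) * y * (x * g⁻¹)⁻¹ := by rw [hgi]
        _ = _ := by group
    rwa [h3]
  · intro K hK hc
    apply h.full _ (hlt hK)
    intro y hy
    rw [mem_cc, inv_inv]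
    have h1 := hc (g * y * g⁻¹) (conj_mem_cc hy)
    have h2 := hcomm (g * y * g⁻¹)
    have h3 : g⁻¹ * (g * y * g⁻¹) * g = y := by group
    rw [h3] at h2
    rw [← h2]
    have h4 : g * (g⁻¹ * (x * (g * y * g⁻¹) * x⁻¹ * (g * y * g⁻¹)⁻¹) * g) * g⁻¹ =
        x * (g * y * g⁻¹) * x⁻¹ * (g * y * g⁻¹)⁻¹ := by group
    rwa [h4]
  · intro K hK hxK hRK hC
    have h1 := h.big _ (hlt hK) (hn hxK) ?_ ?_
    · have e1 : Nat.card (cc g⁻¹ K) = Nat.card K :=
        (Nat.card_congr (Subgroup.equivMapOfInjective K (MulAut.conj g⁻¹).toMonoidHom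
          (MulAut.conj g⁻¹).injective).toEquiv).symm
      have e2 : Nat.card (cc g R) = Nat.card R :=
        (Nat.card_congr (Subgroup.equivMapOfInjective R (MulAut.conj g).toMonoidHom
          (MulAut.conj g).injective).toEquiv).symm
      rw [e1] at h1
      rwa [e2]
    · intro y hy
      have h2 := hRK (conj_mem_cc (g := g) hy)
      rw [norm_iff] at h2 ⊢
      intro z hz
      rw [mem_cc, inv_inv] at hz ⊢
      have h3 := h2 _ hz
      have h4 : g * y * g⁻¹ * (g * z * g⁻¹) * (g * y * g⁻¹)⁻¹ = g * (y * z * y⁻¹) * g⁻¹ := by group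
      rwa [h4] at h3
    · intro y hy hst
      rw [mem_cc, inv_inv]
      refine hC _ (conj_mem_cc hy) ⟨hxK, ?_⟩
      have h2 := hst.2
      rw [mem_cc, inv_inv] at h2
      have h3 : g * (x * y * x⁻¹ * y⁻¹) * g⁻¹ = x * (g * y * g⁻¹) * x⁻¹ * (g * y * g⁻¹)⁻¹ := by
        calc g * (x * y * x⁻¹ * y⁻¹) * g⁻¹ = (g * x) * y * (g * x)⁻¹ * (g * y * g⁻¹)⁻¹ := by group
          _ = (x * g) * y * (x * g)⁻¹ * (g * y * g⁻¹)⁻¹ := by rw [hg]
          _ = _ := by group
      rwa [h3] at h2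

section Gens

variable {Z Q : Subgroup Y} {h : Y}

/-- `h` acts on `Q/Z` as a scalar of order `q - 1`. -/
structure Sc (q : ℕ) (Z Q : Subgroup Y) (h : Y) : Prop where
  two : 2 < q
  hQ : ∀ y ∈ Q, h * y * h⁻¹ ∈ Q
  hZ : ∀ y ∈ Z, h * y * h⁻¹ ∈ Z
  free : ∀ i : ℕ, 0 < i → i + 1 < q → ∀ v ∈ Q, ⁅h ^ i, v⁆ ∈ Z → v ∈ Z

theorem pow_inv {h : Y} {V : Subgroup Y} (hV : ∀ y ∈ V, h * y * h⁻¹ ∈ V) (i : ℕ) :
    ∀ y ∈ V, h ^ i * y * (h ^ i)⁻¹ ∈ V := by
  induction i with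
  | zero => intro y hy; simpa using hy
  | succ i ih =>
    intro y hy
    have h1 : h ^ (i + 1) * y * (h ^ (i + 1))⁻¹ = h * (h ^ i * y * (h ^ i)⁻¹) * h⁻¹ := by
      rw [pow_succ']; group
    rw [h1]
    exact hV _ (ih y hy)

/-- adding an element multiplies the order by `q` at least -/
theorem Sc.card_le [Finite Y] {q : ℕ} (S : Sc q Z Q h) (hc : C2 Z Q) {V V' : Subgroup Y} (hZV : Z ≤ V) (hVV : V ≤ V')
    (hVQ : V' ≤ Q) (hV : ∀ y ∈ V, h * y * h⁻¹ ∈ V) (hV' : ∀ y ∈ V', h * y * h⁻¹ ∈ V') {e : Y} (he : e ∈ V')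
    (heV : e ∉ V) : q * Nat.card V ≤ Nat.card V' := by
  classical
  obtain ⟨q', hq'⟩ : ∃ q', q = q' + 1 := ⟨q - 1, by have := S.two; omega⟩
  subst hq'
  have hen : ∀ i, h ^ i * e * (h ^ i)⁻¹ ∈ V' := fun i => pow_inv hV' i e he
  let f : Option (Fin q') × V → V' := fun a => match a with
    | (none, s) => ⟨s, hVV s.2⟩
    | (some i, s) => ⟨h ^ (i : ℕ) * e * (h ^ (i : ℕ))⁻¹ * s, mul_mem (hen i) (hVV s.2)⟩
  -- `h^i e h^-i ∉ V`
  have key0 : ∀ i : ℕ, h ^ i * e * (h ^ i)⁻¹ ∉ V := by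
    intro i hi
    have hfin : Finite V := inferInstance
    have h1 : h ^ i ∈ normalizer (V : Set Y) := norm_iff.2 (pow_inv hV i)
    exact heV ((mem_normalizer_iff.1 h1 e).2 hi)
  have key : ∀ a b : ℕ, a < b → b < q' → ∀ s t : V,
      h ^ a * e * (h ^ a)⁻¹ * s = h ^ b * e * (h ^ b)⁻¹ * (t : Y) → False := by
    intro a b hab hb s t hst
    obtain ⟨d, rfl⟩ := Nat.exists_eq_add_of_le hab.le
    have hd : 0 < d := by omega
    apply heV
    have hfin : Finite V := inferInstance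
    have h1 : h ^ a ∈ normalizer (V : Set Y) := norm_iff.2 (pow_inv hV a)
    -- `(h^d e h^-d)⁻¹ e ∈ V`
    have h2 : (h ^ a)⁻¹ * (t * (s : Y)⁻¹) * h ^ a ∈ V := by
      have := (mem_normalizer_iff.1 (inv_mem h1) (t * (s : Y)⁻¹)).1 (mul_mem t.2 (inv_mem s.2))
      rwa [inv_inv] at this
    have h3 : (h ^ d * e * (h ^ d)⁻¹) * ((h ^ a)⁻¹ * (t * (s : Y)⁻¹) * h ^ a) = e := by
      have e2 : h ^ (a + d) * e * (h ^ (a + d))⁻¹ * (t * (s : Y)⁻¹) = h ^ a * e * (h ^ a)⁻¹ := by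
        rw [← mul_assoc, ← hst]
        group
      have e3 : (h ^ d * e * (h ^ d)⁻¹) * ((h ^ a)⁻¹ * (t * (s : Y)⁻¹) * h ^ a) =
          (h ^ a)⁻¹ * (h ^ (a + d) * e * (h ^ (a + d))⁻¹ * (t * (s : Y)⁻¹)) * h ^ a := by
        rw [pow_add]
        group
      rw [e3, e2]
      group
    set w := (h ^ a)⁻¹ * (t * (s : Y)⁻¹) * h ^ a with hw
    have heQ := hVQ he
    have h4 : ⁅h ^ d, e⁆ ∈ V := by
      have h5 : ⁅h ^ d, e⁆ = (h ^ d * e * (h ^ d)⁻¹) * e⁻¹ := by rw [commutatorElement_def]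
      have h6 : h ^ d * e * (h ^ d)⁻¹ = e * w⁻¹ := eq_mul_inv_of_mul_eq h3
      rw [h5, h6]
      exact hc.conj_mem (inv_mem (hVQ (hVV h2))) heQ hZV (inv_mem h2)
    exact hc.free_sub (pow_inv S.hZ d) (S.free d hd (by omega)) hZV (hVV.trans hVQ) (pow_inv hV d) heQ h4
  have hinj : Function.Injective f := by
    rintro ⟨a, s⟩ ⟨b, t⟩ hab
    have hab' := congrArg Subtype.val hab
    rcases a with _ | a <;> rcases b with _ | b
    · simp only [f] at hab'
      rw [Subtype.ext hab']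
    · exfalso
      have h1 : (s : Y) = h ^ (b : ℕ) * e * (h ^ (b : ℕ))⁻¹ * t := hab'
      apply key0 b
      have : h ^ (b : ℕ) * e * (h ^ (b : ℕ))⁻¹ = s * (t : Y)⁻¹ := by rw [h1]; group
      rw [this]
      exact mul_mem s.2 (inv_mem t.2)
    · exfalso
      have h1 : h ^ (a : ℕ) * e * (h ^ (a : ℕ))⁻¹ * s = t := hab'
      apply key0 a
      have : h ^ (a : ℕ) * e * (h ^ (a : ℕ))⁻¹ = t * (s : Y)⁻¹ := by rw [← h1]; group
      rw [this]
      exact mul_mem t.2 (inv_mem s.2)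
    · have hab2 : h ^ (a : ℕ) * e * (h ^ (a : ℕ))⁻¹ * s = h ^ (b : ℕ) * e * (h ^ (b : ℕ))⁻¹ * (t : Y) := hab'
      rcases lt_trichotomy (a : ℕ) (b : ℕ) with h1 | h1 | h1
      · exact (key a b h1 b.2 s t hab2).elim
      · have hab3 : a = b := Fin.ext h1
        subst hab3
        have : (s : Y) = t := mul_left_cancel hab2
        rw [Subtype.ext this]
      · exact (key b a h1 a.2 t s hab2.symm).elim
  have h2 := Nat.card_le_card_of_injective f hinj
  rw [Nat.card_prod, Nat.card_eq_fintype_card (α := Option (Fin q')), Fintype.card_option, Fintype.card_fin] at h2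
  exact h2

/-- **Generators** of an invariant subgroup. -/
theorem Sc.gens [Finite Y] {q : ℕ} (S : Sc q Z Q h) (hc : C2 Z Q) {C : Subgroup Y} (hCQ : C ≤ Q)
    (hC : ∀ y ∈ C, h * y * h⁻¹ ∈ C) (D : ℕ) : ∀ V : Subgroup Y, Z ≤ V → V ≤ C → (∀ y ∈ V, h * y * h⁻¹ ∈ V) →
    Nat.card C < q ^ (D + 1) * Nat.card V →
    ∃ e : Fin D → Y, (∀ i, e i ∈ C) ∧ ∀ V' : Subgroup Y, V ≤ V' → (∀ y ∈ V', h * y * h⁻¹ ∈ V') →
      (∀ i, e i ∈ V') → C ≤ V' := by
  induction D with
  | zero =>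
    intro V hZV hVC hV hcard
    refine ⟨fun i => i.elim0, fun i => i.elim0, ?_⟩
    intro V' hVV' _ _
    by_contra hcon
    have hne : ∃ e ∈ C, e ∉ V := by
      by_contra h1
      push Not at h1
      exact hcon ((show C ≤ V from h1).trans hVV')
    obtain ⟨e, he, heV⟩ := hne
    have h1 := S.card_le hc hZV hVC hCQ hV hC he heV
    rw [zero_add, pow_one] at hcard
    omega
  | succ D ih =>
    intro V hZV hVC hV hcard
    by_cases hne : ∃ e ∈ C, e ∉ V
    · obtain ⟨e, he, heV⟩ := hne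
      -- the subgroup generated by `V` and the conjugates of `e`
      let V1 : Subgroup Y := sInf {V' : Subgroup Y | V ≤ V' ∧ (∀ y ∈ V', h * y * h⁻¹ ∈ V') ∧ e ∈ V'}
      have h1 : V ≤ V1 := le_sInf fun V' hV' => hV'.1
      have h2 : e ∈ V1 := by
        rw [mem_sInf]
        exact fun V' hV' => hV'.2.2
      have h3 : ∀ y ∈ V1, h * y * h⁻¹ ∈ V1 := by
        intro y hy
        rw [mem_sInf] at hy ⊢
        exact fun V' hV' => hV'.2.1 y (hy V' hV')
      have h4 : V1 ≤ C := sInf_le ⟨hVC, hC, he⟩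
      have h5 := S.card_le hc hZV h1 (h4.trans hCQ) hV h3 h2 heV
      obtain ⟨f, hf1, hf2⟩ := ih V1 (hZV.trans h1) h4 h3 (by
        calc Nat.card C < q ^ (D + 1 + 1) * Nat.card V := hcard
          _ = q ^ (D + 1) * (q * Nat.card V) := by ring
          _ ≤ _ := Nat.mul_le_mul_left _ h5)
      refine ⟨Fin.cons e f, ?_, ?_⟩
      · intro i
        refine Fin.cases ?_ (fun i => ?_) i
        · exact he
        · rw [Fin.cons_succ]; exact hf1 i
      · intro V' hV1 hV2 hV3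
        have h6 : V1 ≤ V' := sInf_le ⟨hV1, hV2, by have := hV3 0; rwa [Fin.cons_zero] at this⟩
        exact hf2 V' h6 hV2 fun i => by have := hV3 i.succ; rwa [Fin.cons_succ] at this
    · push Not at hne
      refine ⟨fun _ => 1, fun _ => one_mem _, ?_⟩
      intro V' hVV' _ _
      exact (show C ≤ V from hne).trans hVV'

end Gens

/-- **The Heisenberg lemma.** -/
theorem heis_uGood [Finite Y] {r m p k q D M : ℕ} (hr : r.Prime) (hp : p.Prime) (hm : m = p ^ k) {Z Q : Subgroup Y}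
    {x n h : Y} (H : HX r m Z Q x) (S : Sc q Z Q h) (hn : n ∈ Z ⊔ cc n Z) (hh : h ∈ Z ⊔ cc n Z)
    (hgen : Q ⊔ cc n Q = ⊤) (hxn : n * x = x * n) (hxh : h * x = x * h) (hx : ∃ w ∈ Q, x * w ≠ w * x)
    (hcard : Nat.card Q < q ^ (D + 1) * Nat.card Z)
    (hM : ∀ t : ℕ, t ≠ 0 → r ^ t ≡ 1 [MOD p] → M ≤ r ^ t) (hM1 : 1 ≤ M) :
    UGood (D + 2) (M + D + 1) x := by
  have hne := H.exists_ne hx
  have hP := H.pairM hr hp hm hne hM
  -- the centraliser
  let C : Subgroup Y := Q ⊓ centralizer {x}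
  have hCmem : ∀ y, y ∈ C ↔ y ∈ Q ∧ y * x = x * y := fun y => by
    rw [mem_inf, mem_centralizer_singleton_iff]
  have hCC : ∀ y ∈ C, h * y * h⁻¹ ∈ C := by
    intro y hy
    rw [hCmem] at hy ⊢
    refine ⟨S.hQ y hy.1, ?_⟩
    have hxh' : Commute h x := hxh
    have hxy : Commute y x := hy.2
    exact ((hxh'.mul_left hxy).mul_left hxh'.inv_left)
  have hZC : Z ≤ C := fun z hz => (hCmem z).2 ⟨H.c2.le hz, (H.xZ z hz).symm⟩
  obtain ⟨e, he, hgenC⟩ := S.gens H.c2 (inf_le_left : C ≤ Q) hCC D Z le_rfl hZC S.hZ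
    (lt_of_le_of_lt (Subgroup.card_le_of_le (inf_le_left : C ≤ Q)) hcard)
  -- the family
  let R : Option (Option (Fin D)) → Subgroup Y := fun a => match a with
    | none => RQ H
    | some none => cc n (RQ H)
    | some (some i) => cc (e i) (cc n (RQ H))
  have hR : ∀ a, PairM M x (R a) := by
    rintro (_ | _ | i)
    · exact hP
    · exact pairM_cc hP hxn
    · exact pairM_cc (pairM_cc hP hxn) ((hCmem _).1 (he i)).2
  have hcl : Subgroup.closure ({x} ∪ ⋃ a, (R a : Set Y)) = ⊤ := by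
    set K := Subgroup.closure ({x} ∪ ⋃ a, (R a : Set Y)) with hK
    have hRK : ∀ a, R a ≤ K := by
      intro a y hy
      apply Subgroup.subset_closure
      exact Or.inr (Set.mem_iUnion.2 ⟨a, hy⟩)
    have h1 : RQ H ≤ K := hRK none
    have h2 : cc n (RQ H) ≤ K := hRK (some none)
    have h3 : ∀ i, cc (e i) (cc n (RQ H)) ≤ K := fun i => hRK (some (some i))
    have hZK : Z ≤ K := H.Z_le_RQ.trans h1
    have hZK' : cc n Z ≤ K := (cc_mono H.Z_le_RQ).trans h2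
    have hLK : Z ⊔ cc n Z ≤ K := sup_le hZK hZK'
    have hnK : n ∈ K := hLK hn
    have hhK : h ∈ K := hLK hh
    -- the conjugates of `h`
    have hhe : ∀ i, e i * h * (e i)⁻¹ ∈ K := by
      intro i
      have h4 : cc (e i) (Z ⊔ cc n Z) ≤ K := by
        unfold cc
        rw [Subgroup.map_sup]
        refine sup_le ?_ ((map_mono (map_mono H.Z_le_RQ)).trans (h3 i))
        rintro _ ⟨z, hz, rfl⟩
        have h5 := H.c2.cen z hz _ ((hCmem _).1 (he i)).1
        show e i * z * (e i)⁻¹ ∈ K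
        rw [← h5, mul_inv_cancel_right]
        exact hZK hz
      exact h4 (conj_mem_cc hh)
    -- `e i ∈ K`
    have heK : ∀ i, e i ∈ K := by
      intro i
      let V : Subgroup Y := K ⊓ Q
      have hV : ∀ y ∈ V, h * y * h⁻¹ ∈ V := fun y hy =>
        mem_inf.2 ⟨mul_mem (mul_mem hhK (mem_inf.1 hy).1) (inv_mem hhK), S.hQ y (mem_inf.1 hy).2⟩
      have hZV : Z ≤ V := le_inf hZK H.c2.le
      have heQ := ((hCmem _).1 (he i)).1
      have h4 : ⁅h, e i⁆ ∈ V := by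
        refine mem_inf.2 ⟨?_, ?_⟩
        · have h5 : ⁅h, e i⁆ = h * (e i * h * (e i)⁻¹)⁻¹ := by rw [commutatorElement_def]; group
          rw [h5]
          exact mul_mem hhK (inv_mem (hhe i))
        · rw [commutatorElement_def]
          exact mul_mem (S.hQ _ heQ) (inv_mem heQ)
      have hf : ∀ v ∈ Q, ⁅h, v⁆ ∈ Z → v ∈ Z := by
        intro v hv h5
        apply S.free 1 one_pos (by have := S.two; omega) v hv
        rwa [pow_one]
      exact (mem_inf.1 (H.c2.free_sub S.hZ hf hZV inf_le_right hV heQ h4)).1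
    have hCK : C ≤ K := hgenC K hZK (fun y hy => mul_mem (mul_mem hhK hy) (inv_mem hhK)) heK
    have hQK : Q ≤ K := by
      intro w hw
      obtain ⟨c, hc, v, hv, hxc, rfl⟩ := H.decomp hw
      exact mul_mem (hCK ((hCmem c).2 ⟨hc, hxc.symm⟩)) (h1 hv)
    rw [eq_top_iff, ← hgen]
    exact sup_le hQK (cc_le hnK hQK)
  have h4 := T3M_uGood hM1 R hR hcl
  have h5 : Fintype.card (Option (Option (Fin D))) = D + 2 := by
    rw [Fintype.card_option, Fintype.card_option, Fintype.card_fin]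
  rw [h5] at h4
  have h6 : M + (D + 2) - 1 = M + D + 1 := by omega
  rwa [h6] at h4

end Cfsg.Agent.H400.Fpr
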