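import Cfsg.Agent.H400.FprHeis

/-!
# Fixed point ratios of `p`-elements: modules for `SL_n` (helper400, TEAM FPR)
-/

set_option autoImplicit false
set_option linter.unusedSectionVars false
set_option linter.unusedVariables false
open Subgroup MulAction
open scoped Pointwise commutatorElement

namespace Cfsg.Agent.H400.Fpr

open Cfsg.Agent.H398.FPR (CommFull UGood Pair Good)

variable {Y : Type*} [Group Y]

/-- In a nilpotent group the derived subgroup consists of nongenerators. -/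
theorem eq_top_of_sup_commutator {R : Type*} [Group R] [Finite R] [Group.IsNilpotent R] {V : Subgroup R}
    (hV : V ⊔ commutator R = ⊤) : V = ⊤ := by
  by_contra hne
  obtain ⟨M, hM, hVM⟩ := (eq_top_or_exists_le_coatom V).resolve_left hne
  have hnc : NormalizerCondition R := Group.normalizerCondition_of_isNilpotent (G := R)
  have hMn : M.Normal := NormalizerCondition.normal_of_coatom M hnc hM
  -- `R ⧸ M` is abelian
  have h1 : commutator R ≤ M := by
    have hs : IsSimpleGroup (R ⧸ M) := by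
      have hnt : Nontrivial (R ⧸ M) := QuotientGroup.nontrivial_iff.2 hM.1
      refine ⟨fun N _ => ?_⟩
      have h2 : M ≤ N.comap (QuotientGroup.mk' M) := by
        intro y hy
        rw [mem_comap, QuotientGroup.mk'_apply, (QuotientGroup.eq_one_iff y).2 hy]
        exact one_mem _
      rcases hM.le_iff.1 h2 with h3 | h3
      · right
        rw [← map_comap_eq_self_of_surjective (QuotientGroup.mk'_surjective M) N, h3,
          Subgroup.map_top_of_surjective _ (QuotientGroup.mk'_surjective M)]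
      · left
        rw [← map_comap_eq_self_of_surjective (QuotientGroup.mk'_surjective M) N, h3,
          (Subgroup.map_eq_bot_iff _).2 (by rw [QuotientGroup.ker_mk'])]
    have hnil : Group.IsNilpotent (R ⧸ M) := inferInstance
    have hc : Subgroup.center (R ⧸ M) = ⊤ := by
      rcases hs.eq_bot_or_eq_top_of_normal (Subgroup.center (R ⧸ M)) inferInstance with h2 | h2
      · exfalso
        exact Group.IsNilpotent.center_ne_bot (R ⧸ M) h2
      · exact h2
    rw [_root_.commutator_def, Subgroup.commutator_le]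
    intro a _ b _
    rw [← QuotientGroup.eq_one_iff]
    have h2 : ((b : R ⧸ M)) ∈ Subgroup.center (R ⧸ M) := by rw [hc]; trivial
    have h3 := Subgroup.mem_center_iff.1 h2 (a : R ⧸ M)
    have h4 : ((⁅a, b⁆ : R) : R ⧸ M) = (a : R ⧸ M) * b * (a : R ⧸ M)⁻¹ * (b : R ⧸ M)⁻¹ := rfl
    rw [h4, h3]
    group
  exact hM.1 (top_le_iff.1 (hV ▸ sup_le hVM h1))

/-- `[R, y] = R` if `y` acts without fixed points modulo a normal subgroup contained in the derived subgroup. -/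
theorem commFull_of_mod [Finite Y] {R Z : Subgroup Y} (hn : Group.IsNilpotent R) (hZR : Z ≤ R)
    (hRZ : ∀ r ∈ R, ∀ z ∈ Z, r * z * r⁻¹ ∈ Z) (hZc : Z ≤ ⁅R, R⁆) {y : Y} (hyR : ∀ r ∈ R, y * r * y⁻¹ ∈ R)
    (hyZ : ∀ z ∈ Z, y * z * y⁻¹ ∈ Z) (hf : ∀ r ∈ R, y * r * y⁻¹ * r⁻¹ ∈ Z → r ∈ Z) : CommFull R y := by
  let Z' : Subgroup R := Z.subgroupOf R
  have hmem : ∀ w : R, w ∈ Z' ↔ (w : Y) ∈ Z := fun w => mem_subgroupOf
  have hZ'n : Z'.Normal := ⟨fun z hz r => by rw [hmem] at hz ⊢; exact hRZ r r.2 z hz⟩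
  have hcomm : ∀ w ∈ R, y * w * y⁻¹ * w⁻¹ ∈ R := fun w hw => mul_mem (hyR w hw) (inv_mem hw)
  let f : R → R ⧸ Z' := fun w => QuotientGroup.mk ⟨y * (w : Y) * y⁻¹ * (w : Y)⁻¹, hcomm w w.2⟩
  have hwd : ∀ a b : R, (a : Y)⁻¹ * b ∈ Z → f a = f b := by
    intro a b hab
    show QuotientGroup.mk _ = QuotientGroup.mk _
    rw [QuotientGroup.eq, hmem]
    show (y * (a : Y) * y⁻¹ * (a : Y)⁻¹)⁻¹ * (y * (b : Y) * y⁻¹ * (b : Y)⁻¹) ∈ Z
    obtain ⟨z, hz, hbz⟩ : ∃ z ∈ Z, (b : Y) = a * z := ⟨_, hab, by group⟩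
    rw [hbz]
    have h1 : (y * (a : Y) * y⁻¹ * (a : Y)⁻¹)⁻¹ * (y * ((a : Y) * z) * y⁻¹ * ((a : Y) * z)⁻¹) =
        (a : Y) * ((y * z * y⁻¹) * z⁻¹) * (a : Y)⁻¹ := by group
    rw [h1]
    exact hRZ _ a.2 _ (mul_mem (hyZ z hz) (inv_mem hz))
  let F : R ⧸ Z' → R ⧸ Z' := Quotient.lift f (by
    intro a b hab
    apply hwd a b
    have h1 := QuotientGroup.leftRel_apply.1 hab
    exact (hmem _).1 h1)
  have hF : Function.Injective F := by
    intro a b
    refine QuotientGroup.induction_on a fun a => ?_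
    refine QuotientGroup.induction_on b fun b => ?_
    intro hab
    have h1 : f a = f b := hab
    have h2 : (QuotientGroup.mk _ : R ⧸ Z') = QuotientGroup.mk _ := h1
    rw [QuotientGroup.eq, hmem] at h2
    have h3 : (y * (a : Y) * y⁻¹ * (a : Y)⁻¹)⁻¹ * (y * (b : Y) * y⁻¹ * (b : Y)⁻¹) ∈ Z := h2
    rw [QuotientGroup.eq, hmem]
    show (a : Y)⁻¹ * b ∈ Z
    have hc : (a : Y)⁻¹ * b ∈ R := mul_mem (inv_mem a.2) b.2
    apply hf _ hc
    have h4 : y * ((a : Y)⁻¹ * b) * y⁻¹ * ((a : Y)⁻¹ * b)⁻¹ =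
        (a : Y)⁻¹ * ((y * (a : Y) * y⁻¹ * (a : Y)⁻¹)⁻¹ * (y * (b : Y) * y⁻¹ * (b : Y)⁻¹)) * ((a : Y)⁻¹)⁻¹ := by
      group
    rw [h4]
    exact hRZ _ (inv_mem a.2) _ h3
  have hFs := Finite.injective_iff_surjective.1 hF
  intro V hV hc
  -- `V Z = R`
  let V' : Subgroup R := V.subgroupOf R
  have h1 : V' ⊔ commutator R = ⊤ := by
    rw [eq_top_iff]
    intro u _
    obtain ⟨v, hv⟩ := hFs (QuotientGroup.mk u)
    obtain ⟨w, rfl⟩ := QuotientGroup.mk_surjective v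
    have h2 : (QuotientGroup.mk _ : R ⧸ Z') = QuotientGroup.mk u := hv
    rw [QuotientGroup.eq, hmem] at h2
    have h3 : (⟨y * (w : Y) * y⁻¹ * (w : Y)⁻¹, hcomm w w.2⟩ : R) ∈ V' := mem_subgroupOf.2 (hc w w.2)
    have h4 : (⟨y * (w : Y) * y⁻¹ * (w : Y)⁻¹, hcomm w w.2⟩ : R)⁻¹ * u ∈ commutator R := by
      have h5 : (⟨y * (w : Y) * y⁻¹ * (w : Y)⁻¹, hcomm w w.2⟩ : R)⁻¹ * u ∈ Z' := (hmem _).2 h2
      have h6 : Z' ≤ commutator R := by
        intro z hz
        have h7 : ((z : R) : Y) ∈ ⁅R, R⁆ := hZc ((hmem z).1 hz)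
        have h8 : (commutator R).map R.subtype = ⁅R, R⁆ := by
          rw [_root_.commutator_def, Subgroup.map_commutator, ← MonoidHom.range_eq_map, Subgroup.range_subtype]
        rw [← h8] at h7
        obtain ⟨z', hz', hzz⟩ := h7
        rwa [Subtype.ext hzz] at hz'
      exact h6 h5
    have h5 : u = (⟨y * (w : Y) * y⁻¹ * (w : Y)⁻¹, hcomm w w.2⟩ : R) *
        ((⟨y * (w : Y) * y⁻¹ * (w : Y)⁻¹, hcomm w w.2⟩ : R)⁻¹ * u) := by group
    rw [h5]
    exact mul_mem (mem_sup_left h3) (mem_sup_right h4)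
  have h2 := eq_top_of_sup_commutator h1
  rw [subgroupOf_eq_top] at h2
  exact absurd hV (not_lt_of_ge h2)

/-- `Pair` passes to conjugates under elements commuting with `x`. -/
theorem pair_cc {p j : ℕ} {x g : Y} {R : Subgroup Y} [Finite Y] (h : Pair p j x R) (hg : g * x = x * g) :
    Pair p j x (cc g R) := by
  have hgi : ∀ {x : Y}, g * x = x * g → g⁻¹ * x = x * g⁻¹ := by
    intro x hg
    rw [inv_mul_eq_iff_eq_mul, ← mul_assoc, hg, mul_inv_cancel_right]
  refine ⟨?_, ?_, ?_⟩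
  · have := h.nilp
    have e : R ≃* (cc g R) := Subgroup.equivMapOfInjective R (MulAut.conj g).toMonoidHom (MulAut.conj g).injective
    exact (Group.isNilpotent_congr e).1 this
  · have h1 := h.norm
    rw [norm_iff] at h1 ⊢
    intro y hy
    rw [mem_cc] at hy ⊢
    have h2 := h1 _ hy
    have h3 : g⁻¹ * (x * y * x⁻¹) * g = x * (g⁻¹ * y * g) * x⁻¹ := by
      calc g⁻¹ * (x * y * x⁻¹) * g = (g⁻¹ * x) * y * (g⁻¹ * x)⁻¹ := by group
        _ = (x * g⁻¹) * y * (x * g⁻¹)⁻¹ := by rw [hgi hg]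
        _ = _ := by group
    rwa [h3]
  · have hg' : g * x ^ p ^ j = x ^ p ^ j * g := (show Commute g x from hg).pow_right _
    set z := x ^ p ^ j
    intro K hK hc
    have hlt : cc g⁻¹ K < R := by
      refine lt_of_le_of_ne ?_ ?_
      · intro y hy
        rw [mem_cc, inv_inv] at hy
        have h1 := hK.le hy
        rw [mem_cc] at h1
        have h2 : g⁻¹ * (g * y * g⁻¹) * g = y := by group
        rwa [h2] at h1
      · intro h1
        apply hK.ne
        rw [← h1, cc_cc, mul_inv_cancel, cc_one]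
    apply h.full _ hlt
    intro y hy
    rw [mem_cc, inv_inv]
    have h1 := hc (g * y * g⁻¹) (conj_mem_cc hy)
    have h4 : g * (z * y * z⁻¹ * y⁻¹) * g⁻¹ = z * (g * y * g⁻¹) * z⁻¹ * (g * y * g⁻¹)⁻¹ := by
      calc g * (z * y * z⁻¹ * y⁻¹) * g⁻¹ = (g * z) * y * (g * z)⁻¹ * (g * y * g⁻¹)⁻¹ := by group
        _ = (z * g) * y * (z * g)⁻¹ * (g * y * g⁻¹)⁻¹ := by rw [hg']
        _ = _ := by group
    rwa [h4]

/-- Lifting an element of `ℓ`-power order through a multiplicative relation. -/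
theorem exists_lift_rel [Finite Y] {L : Subgroup Y} {Q : Type*} [Group Q] {P : Y → Q → Prop} {ℓ k : ℕ}
    (hℓ : ℓ.Prime) (h1 : P 1 1) (hmul : ∀ g g' M M', P g M → P g' M' → P (g * g') (M * M')) {g : Y} (hg : g ∈ L)
    {M : Q} (hP : P g M) (hM : M ^ ℓ ^ k = 1) : ∃ x ∈ L, (∃ a, x ^ ℓ ^ a = 1) ∧ P x M := by
  have hpow : ∀ i : ℕ, P (g ^ i) (M ^ i) := by
    intro i
    induction i with
    | zero => rw [pow_zero, pow_zero]; exact h1
    | succ i ih => rw [pow_succ, pow_succ]; exact hmul _ _ _ _ ih hP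
  have hn : orderOf g ≠ 0 := (orderOf_pos g).ne'
  obtain ⟨e, m, hm, hem⟩ := Nat.exists_eq_pow_mul_and_not_dvd hn ℓ hℓ.ne_one
  have hcop : (ℓ ^ k).Coprime m := ((Nat.Prime.coprime_iff_not_dvd hℓ).2 hm).pow_left k
  obtain ⟨c, hc1, hc2⟩ := Nat.chineseRemainder hcop 1 0
  refine ⟨g ^ c, pow_mem hg c, ⟨e, ?_⟩, ?_⟩
  · rw [← pow_mul, ← orderOf_dvd_iff_pow_eq_one, hem, mul_comm c]
    exact Nat.mul_dvd_mul_left _ ((Nat.modEq_zero_iff_dvd).1 hc2)
  · have h3 : M ^ c = M := by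
      have h4 : c ≡ 1 [MOD orderOf M] := hc1.of_dvd (orderOf_dvd_of_pow_eq_one hM)
      have h5 := pow_eq_pow_iff_modEq.2 h4
      rwa [pow_one] at h5
    have := hpow c
    rwa [h3] at this

end Cfsg.Agent.H400.Fpr
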