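import Cfsg.Agent.H400.FprHeis
import Cfsg.Agent.H400.FprIso
import Cfsg.Agent.H452.FprHeis

/-!
# Fixed point ratios of `p`-elements: the sharp Heisenberg lemma (helper400, TEAM FPR)

`x` is free on `R / Z`, `R = [Q, x] Z`, `Q` a Heisenberg group. On the orbit `R ω` of a fixed point `ω` of `x` the fixed
points of `x` form one `Z`-orbit; `|R ω| / |Z ω| ≥ M` unless `R` fixes `ω`, and `≥ B` if `Z` does not fix `ω`, where
`B² ≤ |R/Z|`. With a family of `m` such groups, `B + m - 1 ≥ m M`, the ratio of `x` is at most `1 / M`.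
-/

set_option autoImplicit false
set_option linter.unusedSectionVars false
set_option linter.unusedVariables false
open Subgroup MulAction
open scoped Pointwise commutatorElement

namespace Cfsg.Agent.H400.Fpr

open Cfsg.Agent.H398.FPR (CommFull UGood Pair stCoset mem_stCoset)
open Cfsg.Agent.H435.Fpr (PairM)
open Cfsg.Agent.H452.FprHeis (Heis wt card_orbit_mul orbit_SZ SZ_le le_SZ SZ norm_inf one_le_wt orbit_ncard_pos
  stabilizer_ne_top' Z_le_SZ norm_SZ le_of_SZ_eq)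

variable {Y : Type*} [Group Y]

/-- a Heisenberg group with weights -/
structure WH (M B : ℕ) (x : Y) (Z R : Subgroup Y) : Prop where
  heis : Heis x R Z
  low : ∀ (S : Subgroup Y) (hS : S ≤ R), x ∈ normalizer (S : Set Y) → ¬ R ≤ S →
    M * Nat.card (SZ heis S hS) ≤ Nat.card R
  big : ∀ (S : Subgroup Y) (hS : S ≤ R), ¬ Z ≤ S → B * Nat.card (SZ heis S hS) ≤ Nat.card R

namespace HX

variable {r m : ℕ} {Z Q : Subgroup Y} {x : Y} (H : HX r m Z Q x)

theorem heis [Finite Y] : Heis x (RQ H) Z where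
  le := H.Z_le_RQ
  cent := fun z hz g hg => H.c2.cen z hz g (H.RQ_le hg)
  der := fun a ha b hb => H.c2.com a (H.RQ_le ha) b (H.RQ_le hb)
  norm := norm_iff.2 H.xRQ
  fixZ := H.xZ
  free := fun y hy h => H.free hy h

/-- surjectivity inside `[Q, x] Z` -/
theorem sur_RQ [Finite Y] {v : Y} (hv : v ∈ RQ H) (hvZ : v ∉ Z) {z : Y} (hz : z ∈ Z) : ∃ b ∈ RQ H, ⁅v, b⁆ = z := by
  obtain ⟨b, hb, hbz⟩ := H.sur v (H.RQ_le hv) hvZ z hz
  obtain ⟨c, hc, v', hv', hxc, rfl⟩ := H.decomp hb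
  refine ⟨v', hv', ?_⟩
  rw [← hbz, H.lin hc (H.RQ_le hv') (H.RQ_le hv), ← commutatorElement_inv c v, H.orth hc hxc hv, inv_one, one_mul]

theorem wh [Finite Y] (hr : r.Prime) {p k M B : ℕ} (hp : p.Prime) (hm : m = p ^ k) (hne : ∃ v ∈ RQ H, v ∉ Z)
    (hM : ∀ t : ℕ, t ≠ 0 → r ^ t ≡ 1 [MOD p] → M ≤ r ^ t) (hB : B ^ 2 * Nat.card Z ≤ Nat.card (RQ H)) :
    WH M B x Z (RQ H) := by
  have hP := H.pairM hr hp hm hne hM
  refine ⟨H.heis, ?_, ?_⟩
  · intro S hS hxS hRS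
    have hcomm : ∀ z ∈ Z, ∃ a ∈ RQ H, ∃ b ∈ RQ H, z = a * b * a⁻¹ * b⁻¹ := by
      obtain ⟨v, hv, hvZ⟩ := hne
      intro z hz
      obtain ⟨b, hb, hbz⟩ := H.sur_RQ hv hvZ hz
      exact ⟨v, hv, b, hb, hbz.symm⟩
    have hlt : SZ H.heis S hS < RQ H := by
      refine lt_of_le_of_ne SZ_le fun h => hRS ?_
      exact le_of_SZ_eq (h := H.heis) (hS := hS) hcomm h.ge
    have hxA := norm_SZ (h := H.heis) (hS := hS) hxS
    have hRA : RQ H ≤ normalizer ((SZ H.heis S hS : Subgroup Y) : Set Y) := by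
      intro g hg
      rw [norm_iff]
      intro y hy
      exact (H.c2.mono H.Z_le_RQ H.RQ_le).conj_mem (SZ_le hy) hg Z_le_SZ hy
    refine hP.big _ hlt hxA hRA ?_
    intro g hg hst
    exact H.heis.free_mod Z_le_SZ SZ_le hxA hg hst.2
  · intro S hS hZS
    set A := SZ H.heis S hS with hA
    have hAS : ∀ a ∈ A, ∀ b ∈ A, ⁅a, b⁆ ∈ S := by
      rintro _ ⟨s, hs, z, hz, rfl⟩ _ ⟨t, ht, w, hw, rfl⟩
      have hsQ := H.RQ_le (hS hs)
      have htQ := H.RQ_le (hS ht)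
      have hzQ := H.c2.le hz
      have hwQ := H.c2.le hw
      rw [H.c2.lin' hsQ hzQ (mul_mem htQ hwQ),
        commutatorElement_eq_one_iff_mul_comm.2 (H.c2.cen z hz _ (mul_mem htQ hwQ)), mul_one,
        H.c2.lin htQ hwQ hsQ, commutatorElement_eq_one_iff_mul_comm.2 (H.c2.cen w hw _ hsQ).symm, mul_one,
        commutatorElement_def]
      exact mul_mem (mul_mem (mul_mem hs ht) (inv_mem hs)) (inv_mem ht)
    have h1 := card_iso (H.c2.mono H.Z_le_RQ H.RQ_le) (Z_le_SZ (h := H.heis) (hS := hS)) SZ_le hAS hZS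
      (fun a ha haZ z hz => H.sur_RQ ha haZ hz)
    have hZ0 : 0 < Nat.card Z := Nat.card_pos
    have h2 : (B * Nat.card A) ^ 2 ≤ Nat.card (RQ H) ^ 2 := by
      calc (B * Nat.card A) ^ 2 = B ^ 2 * (Nat.card A * Nat.card A) := by ring
        _ ≤ B ^ 2 * (Nat.card (RQ H) * Nat.card Z) := Nat.mul_le_mul_left _ h1
        _ = (B ^ 2 * Nat.card Z) * Nat.card (RQ H) := by ring
        _ ≤ Nat.card (RQ H) * Nat.card (RQ H) := Nat.mul_le_mul_right _ hB
        _ = _ := by ring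
    exact (Nat.pow_le_pow_iff_left two_ne_zero).1 h2

include H in
/-- conjugates under elements commuting with `x` -/
theorem conj {g : Y} (hg : g * x = x * g) : HX r m (cc g Z) (cc g Q) x := by
  have hgi : g⁻¹ * x = x * g⁻¹ := by
    rw [inv_mul_eq_iff_eq_mul, ← mul_assoc, hg, mul_inv_cancel_right]
  refine ⟨⟨cc_mono H.c2.le, ?_, ?_⟩, ?_, ?_, H.xm, H.cop, ?_, ?_⟩
  · rintro _ ⟨z, hz, rfl⟩ _ ⟨w, hw, rfl⟩
    rw [← map_mul, H.c2.cen z hz w hw, map_mul]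
  · rintro _ ⟨a, ha, rfl⟩ _ ⟨b, hb, rfl⟩
    exact ⟨⁅a, b⁆, H.c2.com a ha b hb, map_commutatorElement _ _ _⟩
  · rintro _ ⟨a, ha, rfl⟩ haZ _ ⟨z, hz, rfl⟩
    obtain ⟨b, hb, h1⟩ := H.sur a ha (fun h => haZ ⟨a, h, rfl⟩) z hz
    exact ⟨_, ⟨b, hb, rfl⟩, by rw [← h1, map_commutatorElement]⟩
  · have e : Q ≃* (cc g Q) := Subgroup.equivMapOfInjective Q (MulAut.conj g).toMonoidHom (MulAut.conj g).injective
    exact H.rg.of_equiv e
  · rintro _ ⟨z, hz, rfl⟩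
    show x * (g * z * g⁻¹) = g * z * g⁻¹ * x
    have h1 := H.xZ z hz
    calc x * (g * z * g⁻¹) = (x * g) * z * g⁻¹ := by group
      _ = g * (x * z) * g⁻¹ := by rw [← hg]; group
      _ = g * z * (x * g⁻¹) := by rw [h1]; group
      _ = _ := by rw [← hgi]; group
  · rintro _ ⟨y, hy, rfl⟩
    refine ⟨x * y * x⁻¹, H.xQ y hy, ?_⟩
    show g * (x * y * x⁻¹) * g⁻¹ = x * (g * y * g⁻¹) * x⁻¹
    calc g * (x * y * x⁻¹) * g⁻¹ = (g * x) * y * (g * x)⁻¹ := by group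
      _ = (x * g) * y * (x * g)⁻¹ := by rw [hg]
      _ = _ := by group

theorem RQ_conj {g : Y} (hg : g * x = x * g) : RQ (H.conj hg) = cc g (RQ H) := by
  have h0 : ∀ w : Y, ⁅x, g * w * g⁻¹⁆ = g * ⁅x, w⁆ * g⁻¹ := by
    intro w
    have hgx : x * g = g * x := hg.symm
    have h1 : ⁅x, g * w * g⁻¹⁆ = (x * g) * w * (x * g)⁻¹ * (g * w⁻¹ * g⁻¹) := by
      simp only [commutatorElement_def]; group
    rw [h1, hgx]
    simp only [commutatorElement_def]
    group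
  ext y
  constructor
  · rintro ⟨_, ⟨w, hw, rfl⟩, _, ⟨z, hz, rfl⟩, rfl⟩
    refine ⟨z * ⁅x, w⁆, ⟨w, hw, z, hz, rfl⟩, ?_⟩
    show g * (z * ⁅x, w⁆) * g⁻¹ = g * z * g⁻¹ * ⁅x, g * w * g⁻¹⁆
    rw [h0]; group
  · rintro ⟨_, ⟨w, hw, z, hz, rfl⟩, rfl⟩
    refine ⟨g * w * g⁻¹, ⟨w, hw, rfl⟩, g * z * g⁻¹, ⟨z, hz, rfl⟩, ?_⟩
    show g * (z * ⁅x, w⁆) * g⁻¹ = g * z * g⁻¹ * ⁅x, g * w * g⁻¹⁆
    rw [h0]; group

end HX

theorem WH.conj [Finite Y] {r m : ℕ} {Z Q : Subgroup Y} {x g : Y} (H : HX r m Z Q x) (hr : r.Prime)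
    {p k M B : ℕ} (hp : p.Prime) (hm : m = p ^ k) (hne : ∃ v ∈ RQ H, v ∉ Z)
    (hM : ∀ t : ℕ, t ≠ 0 → r ^ t ≡ 1 [MOD p] → M ≤ r ^ t) (hB : B ^ 2 * Nat.card Z ≤ Nat.card (RQ H))
    (hg : g * x = x * g) : WH M B x (cc g Z) (cc g (RQ H)) := by
  have hcard : ∀ K : Subgroup Y, Nat.card (cc g K) = Nat.card K := fun K =>
    (Nat.card_congr (Subgroup.equivMapOfInjective K (MulAut.conj g).toMonoidHom (MulAut.conj g).injective).toEquiv).symm
  have h1 := (H.conj hg).wh (B := B) hr hp hm ?_ hM ?_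
  · rwa [H.RQ_conj hg] at h1
  · obtain ⟨v, hv, hvZ⟩ := hne
    rw [H.RQ_conj hg]
    refine ⟨g * v * g⁻¹, ⟨v, hv, rfl⟩, fun h2 => hvZ ?_⟩
    rw [mem_cc] at h2
    have h3 : g⁻¹ * (g * v * g⁻¹) * g = v := by group
    rwa [h3] at h2
  · rw [H.RQ_conj hg, hcard, hcard]
    exact hB

section Wt

variable {X : Type*} [MulAction Y X] {M B : ℕ} {x : Y} {Z R : Subgroup Y}

theorem WH.M_le [Finite Y] [Finite X] (H : WH M B x Z R) {ω : X} (hω : x • ω = ω) (hR : ¬ R ≤ stabilizer Y ω) :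
    (M : ℚ) ≤ wt R Z ω := by
  obtain ⟨S, hS⟩ : ∃ S : Subgroup Y, S = R ⊓ stabilizer Y ω := ⟨_, rfl⟩
  have hSQ : S ≤ R := by rw [hS]; exact inf_le_left
  have hxS : x ∈ normalizer (S : Set Y) := by rw [hS]; exact norm_inf H.heis hω
  have hcard := H.low S hSQ hxS (fun h => hR (h.trans (by rw [hS]; exact inf_le_right)))
  have h2 := card_orbit_mul (T := R) hS hSQ le_rfl
  have h3 := card_orbit_mul (T := SZ H.heis S hSQ) hS le_SZ SZ_le
  rw [orbit_SZ (by rw [hS]; exact inf_le_right)] at h3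
  rw [← h2, ← h3] at hcard
  have h4 : M * (orbit Z ω).ncard ≤ (orbit R ω).ncard := by
    have h5 : 0 < Nat.card S := Nat.card_pos
    apply Nat.le_of_mul_le_mul_right _ h5
    calc M * (orbit Z ω).ncard * Nat.card S = M * ((orbit Z ω).ncard * Nat.card S) := by ring
      _ ≤ _ := hcard
  rw [wt, le_div_iff₀ (by exact_mod_cast orbit_ncard_pos Z ω)]
  exact_mod_cast h4

theorem WH.B_le [Finite Y] [Finite X] (H : WH M B x Z R) {ω : X} (hR : ¬ Z ≤ stabilizer Y ω) :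
    (B : ℚ) ≤ wt R Z ω := by
  obtain ⟨S, hS⟩ : ∃ S : Subgroup Y, S = R ⊓ stabilizer Y ω := ⟨_, rfl⟩
  have hSQ : S ≤ R := by rw [hS]; exact inf_le_left
  have hcard := H.big S hSQ (fun h => hR (h.trans (by rw [hS]; exact inf_le_right)))
  have h2 := card_orbit_mul (T := R) hS hSQ le_rfl
  have h3 := card_orbit_mul (T := SZ H.heis S hSQ) hS le_SZ SZ_le
  rw [orbit_SZ (by rw [hS]; exact inf_le_right)] at h3
  rw [← h2, ← h3] at hcard
  have h4 : B * (orbit Z ω).ncard ≤ (orbit R ω).ncard := by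
    have h5 : 0 < Nat.card S := Nat.card_pos
    apply Nat.le_of_mul_le_mul_right _ h5
    calc B * (orbit Z ω).ncard * Nat.card S = B * ((orbit Z ω).ncard * Nat.card S) := by ring
      _ ≤ _ := hcard
  rw [wt, le_div_iff₀ (by exact_mod_cast orbit_ncard_pos Z ω)]
  exact_mod_cast h4

end Wt

/-- **Families of Heisenberg groups.** -/
theorem uGood_of_wh [Finite Y] {ι : Type*} [Fintype ι] [Nonempty ι] {M B : ℕ} {x : Y} {Zf Rf : ι → Subgroup Y}
    (hW : ∀ i, WH M B x (Zf i) (Rf i)) (hB : Fintype.card ι * M + 1 ≤ B + Fintype.card ι)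
    (hK : ∀ K : Subgroup Y, x ∈ K → (∃ i, Rf i ≤ K) → (∀ j, Zf j ≤ K) → K = ⊤) : UGood 1 M x := by
  classical
  intro H hH
  have := Fintype.ofFinite (Y ⧸ H)
  have hι : 0 < Fintype.card ι := Fintype.card_pos
  have a1 : ∀ i, ∑ ω ∈ Finset.univ.filter (fun ω : Y ⧸ H => x • ω = ω), wt (Rf i) (Zf i) ω ≤
      (Fintype.card (Y ⧸ H) : ℚ) := fun i => (hW i).heis.sum_wt (X := Y ⧸ H)
  have hw : ∀ ω ∈ Finset.univ.filter (fun ω : Y ⧸ H => x • ω = ω),
      ((Fintype.card ι * M : ℕ) : ℚ) ≤ ∑ i, wt (Rf i) (Zf i) ω := by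
    intro ω hω
    have hxω : x • ω = ω := (Finset.mem_filter.1 hω).2
    have hst := stabilizer_ne_top' hH ω
    have w1 : ∀ i, 1 ≤ wt (Rf i) (Zf i) ω := fun i => one_le_wt (hW i).heis.le ω
    by_cases b1 : ∃ i, Rf i ≤ stabilizer Y ω
    · obtain ⟨j, hj⟩ : ∃ j, ¬ Zf j ≤ stabilizer Y ω := by
        by_contra hcon
        push Not at hcon
        exact hst (hK _ hxω b1 hcon)
      have h1 := (hW j).B_le hj
      have h2 : wt (Rf j) (Zf j) ω + ∑ i ∈ Finset.univ.erase j, wt (Rf i) (Zf i) ω =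
          ∑ i, wt (Rf i) (Zf i) ω :=
        Finset.add_sum_erase (f := fun i => wt (Rf i) (Zf i) ω) _ (Finset.mem_univ j)
      have h3 : ((Fintype.card ι - 1 : ℕ) : ℚ) ≤ ∑ i ∈ Finset.univ.erase j, wt (Rf i) (Zf i) ω := by
        calc ((Fintype.card ι - 1 : ℕ) : ℚ) = ∑ i ∈ Finset.univ.erase j, (1 : ℚ) := by
              rw [Finset.sum_const, Finset.card_erase_of_mem (Finset.mem_univ j), Finset.card_univ, nsmul_eq_mul,
                mul_one]
          _ ≤ _ := Finset.sum_le_sum fun i _ => w1 i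
      rw [← h2]
      have h4 : ((Fintype.card ι * M : ℕ) : ℚ) ≤ (B : ℚ) + ((Fintype.card ι - 1 : ℕ) : ℚ) := by
        have : Fintype.card ι * M ≤ B + (Fintype.card ι - 1) := by omega
        exact_mod_cast this
      linarith
    · push Not at b1
      calc ((Fintype.card ι * M : ℕ) : ℚ) = ∑ i : ι, (M : ℚ) := by
            rw [Finset.sum_const, Finset.card_univ, nsmul_eq_mul]; push_cast; ring
        _ ≤ _ := Finset.sum_le_sum fun i _ => (hW i).M_le hxω (b1 i)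
  have h3 := Finset.sum_le_sum hw
  rw [Finset.sum_const, nsmul_eq_mul, Finset.sum_comm] at h3
  have h4 : (Finset.univ.filter (fun ω : Y ⧸ H => x • ω = ω)).card =
      Nat.card (fixedBy (Y ⧸ H) x) := by
    rw [Nat.card_coe_set_eq, Set.ncard_eq_toFinset_card']
    congr 1
    ext y
    simp [mem_fixedBy]
  rw [h4] at h3
  have h5 : ∑ i : ι, ∑ ω ∈ Finset.univ.filter (fun ω : Y ⧸ H => x • ω = ω), wt (Rf i) (Zf i) ω ≤
      (Fintype.card ι : ℚ) * (Fintype.card (Y ⧸ H) : ℚ) := by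
    calc _ ≤ ∑ i : ι, (Fintype.card (Y ⧸ H) : ℚ) := Finset.sum_le_sum fun i _ => a1 i
      _ = _ := by rw [Finset.sum_const, Finset.card_univ, nsmul_eq_mul]
  have h6 := h3.trans h5
  rw [← Nat.card_eq_fintype_card (α := Y ⧸ H)] at h6
  have h7 : Nat.card (fixedBy (Y ⧸ H) x) * (Fintype.card ι * M) ≤ Fintype.card ι * Nat.card (Y ⧸ H) := by
    exact_mod_cast h6
  have h8 : Fintype.card ι * (M * Nat.card (fixedBy (Y ⧸ H) x)) ≤ Fintype.card ι * Nat.card (Y ⧸ H) := by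
    calc _ = Nat.card (fixedBy (Y ⧸ H) x) * (Fintype.card ι * M) := by ring
      _ ≤ _ := h7
  rw [one_mul]
  exact Nat.le_of_mul_le_mul_left h8 hι

/-- **The sharp Heisenberg lemma.** -/
theorem heis_sharp [Finite Y] {r m p k D M B : ℕ} (hr : r.Prime) (hp : p.Prime) (hm : m = p ^ k)
    {Z Q : Subgroup Y} {x n : Y} (H : HX r m Z Q x) (hxn : n * x = x * n) (hx : ∃ w ∈ Q, x * w ≠ w * x)
    (hM : ∀ t : ℕ, t ≠ 0 → r ^ t ≡ 1 [MOD p] → M ≤ r ^ t) (hB : B ^ 2 * Nat.card Z ≤ Nat.card (RQ H))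
    (hD : (D + 2) * M + 1 ≤ B + (D + 2)) (e : Fin D → Y) (he : ∀ i, e i * x = x * e i)
    (hK : ∀ K : Subgroup Y, x ∈ K → Z ≤ K → cc n Z ≤ K → (∀ i, cc (e i) (cc n Z) ≤ K) →
      (RQ H ≤ K ∨ cc n (RQ H) ≤ K ∨ ∃ i, cc (e i) (cc n (RQ H)) ≤ K) → K = ⊤) : UGood 1 M x := by
  have hne := H.exists_ne hx
  let g : Option (Option (Fin D)) → Y := fun a => match a with
    | none => 1
    | some none => n
    | some (some i) => e i * n
  have hg : ∀ a, g a * x = x * g a := by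
    rintro (_ | _ | i)
    · show 1 * x = x * 1
      rw [one_mul, mul_one]
    · exact hxn
    · show e i * n * x = x * (e i * n)
      rw [mul_assoc, hxn, ← mul_assoc, he i, mul_assoc]
  have h5 : Fintype.card (Option (Option (Fin D))) = D + 2 := by
    rw [Fintype.card_option, Fintype.card_option, Fintype.card_fin]
  refine uGood_of_wh (Zf := fun a => cc (g a) Z) (Rf := fun a => cc (g a) (RQ H))
    (fun a => WH.conj H hr hp hm hne hM hB (hg a)) (by rw [h5]; exact hD) ?_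
  intro K hxK hR hZ
  have hZ1 : Z ≤ K := by have := hZ none; rwa [show g none = 1 from rfl, cc_one] at this
  refine hK K hxK hZ1 (hZ (some none)) (fun i => ?_) ?_
  · rw [cc_cc]; exact hZ (some (some i))
  · obtain ⟨a, ha⟩ := hR
    rcases a with _ | _ | i
    · left
      rwa [show g none = 1 from rfl, cc_one] at ha
    · exact Or.inr (Or.inl ha)
    · refine Or.inr (Or.inr ⟨i, ?_⟩)
      rw [cc_cc]; exact ha

end Cfsg.Agent.H400.Fpr
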