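import Cfsg.Agent.H400.GsRowE
import Cfsg.Agent.H867.Gs.PrimeStart

/-!
# The row `²E₆(q)` of S4327, helper400
-/

set_option autoImplicit false

namespace Cfsg.Agent.H400.Gs.RowE

open CoxeterSystem Cfsg.Agent.ChevalleyStructure.CoxeterGeom Cfsg.Agent.Tits.Roots Cfsg.Agent.Tits.Core
  Cfsg.Agent.Nodes.Reps Cfsg.Agent.Nodes.BNOf

universe u

theorem ps {I W Y : Type*} [Fintype I] [DecidableEq I] [Group W] [Group Y] [Finite W] {M : CoxeterMatrix I}
    {cs : CoxeterSystem M W} {A : I → I → ℤ} {h : IsCartan M A} {p : ℕ} {T : Subgroup Y} {n : I → Y}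
    {X : (I → ℤ) → Subgroup Y} (R : RGD cs h p T n X) : PS R := by
  intro a r b L hp ha hb hrb
  obtain ⟨J, h1, h2, h3, h4, h5, -, -⟩ := Cfsg.Agent.H867.Gs.PrimeStart.start_rgd L hp ha hb hrb
  exact ⟨J, h1, h2, h3, h4, h5⟩

/-- **The row `²E₆(q)` of S4327.** -/
theorem te6 (L : Type u) [Group L] [Finite L] [IsSimpleGroup L] (hL : Lie.Iso2E6 L) : H147.Gen.Gen11 L :=
  row_of (fun {_ _ _ _ _} hφ hqq p _ _ => by
    have hW : Finite CoxeterMatrix.F₄.Group :=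
      Cfsg.Agent.KFacts.TwESix.Comb.finiteW CoxeterMatrix.F₄.toCoxeterSystem
    exact ps (Nodes.RGDTwE6.rgd CoxeterMatrix.F₄.toCoxeterSystem hφ hqq p)) hL

end Cfsg.Agent.H400.Gs.RowE
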