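import Mathlib
import Cfsg.Agent.H400.TwoExcData

/-!
# The end of the argument for the exceptional groups (hub H1), helper400

* `fixes_all` : a subgroup `E` of `G` with all its nontrivial elements conjugate in `G` acts trivially on every `G`-set
  of size less than `|E|`;
* `exists_central` : a normal subgroup of a `p`-group meets the centre;
* `U_le` : a subgroup `K` with `Q ≤ K ≤ P`, `|P : K| < q²` contains `U`;
* `stab_inf_QQ` : if `U ≤ Q Y_a` then `Q ∩ Y_a = 1`.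
-/

set_option autoImplicit false
set_option linter.unusedSectionVars false

namespace Cfsg.Agent.H400.TwoExc

open CoxeterSystem Cfsg.Agent.ChevalleyStructure.CoxeterGeom Cfsg.Agent.Tits.Roots Cfsg.Agent.Tits.Core
  Cfsg.Agent.Tits.Exchange Cfsg.Agent.Nodes.Reps Cfsg.Agent.Nodes.BNOf Cfsg.Agent.Nodes.StabComb
  Cfsg.Agent.Nodes.Bruhat Cfsg.Agent.Nodes.OppDec Cfsg.Agent.Nodes.PosPair Cfsg.Agent.Nodes.Coroot
  Cfsg.Agent.KFacts.RgdPar Cfsg.Agent.KFacts.RgdSL Cfsg.Agent.KFacts.RgdTI Cfsg.Agent.Nodes.LeviDec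
open scoped commutatorElement

section Abs

/-- Burnside's lemma: a subgroup with all nontrivial elements conjugate acts trivially on small sets. -/
theorem fixes_all {G Δ : Type*} [Group G] [Finite G] [MulAction G Δ] [Finite Δ] (E : Subgroup G) (z : G)
    (hz : ∀ e ∈ E, e ≠ 1 → ∃ g : G, g * z * g⁻¹ = e) (hc : Nat.card Δ < Nat.card E) :
    ∀ e ∈ E, ∀ d : Δ, e • d = d := by
  classical
  have := Fintype.ofFinite Δ
  have := Fintype.ofFinite E
  set f := Nat.card (MulAction.fixedBy Δ z) with hf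
  have hfe : ∀ e : E, e ≠ 1 → Fintype.card (MulAction.fixedBy Δ e) = f := by
    intro e he
    obtain ⟨g, hg⟩ := hz e e.2 (fun h => he (Subtype.ext h))
    rw [hf, ← Nat.card_eq_fintype_card]
    refine Nat.card_congr ⟨fun d => ⟨g⁻¹ • d.1, ?_⟩, fun d => ⟨g • d.1, ?_⟩, ?_, ?_⟩
    · have h1 : (e : G) • d.1 = d.1 := d.2
      rw [MulAction.mem_fixedBy]
      rw [← hg, mul_smul, mul_smul, smul_eq_iff_eq_inv_smul] at h1
      exact h1
    · have h1 : z • d.1 = d.1 := d.2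
      show (e : G) • g • d.1 = g • d.1
      rw [← hg, mul_smul, mul_smul, inv_smul_smul, h1]
    · intro d
      exact Subtype.ext (smul_inv_smul _ _)
    · intro d
      exact Subtype.ext (inv_smul_smul _ _)
  have hf1 : Fintype.card (MulAction.fixedBy Δ (1 : E)) = Nat.card Δ := by
    rw [← Nat.card_eq_fintype_card]
    refine Nat.card_congr ⟨fun d => d.1, fun d => ⟨d, one_smul _ _⟩, fun d => rfl, fun d => rfl⟩
  have hfle : f ≤ Nat.card Δ := by
    rw [hf]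
    exact Nat.card_le_card_of_injective (fun d => d.1) Subtype.val_injective
  have : Fintype (Quotient (MulAction.orbitRel E Δ)) := Fintype.ofFinite _
  have h1 := MulAction.sum_card_fixedBy_eq_card_orbits_mul_card_group E Δ
  rw [← Finset.add_sum_erase _ _ (Finset.mem_univ (1 : E)), hf1,
    Finset.sum_congr rfl (fun e he => hfe e (Finset.ne_of_mem_erase he)), Finset.sum_const,
    Finset.card_erase_of_mem (Finset.mem_univ _), Finset.card_univ, smul_eq_mul] at h1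
  set c := Fintype.card (Quotient (MulAction.orbitRel E Δ)) with hcd
  rw [Nat.card_eq_fintype_card (α := E)] at hc
  have hE : 0 < Fintype.card E := Fintype.card_pos
  -- `|Δ| - f = |E| (c - f)`
  have h2 : Nat.card Δ = f := by
    obtain ⟨m, hm⟩ : ∃ m, Fintype.card E = m + 1 := ⟨Fintype.card E - 1, by omega⟩
    rw [hm, Nat.add_sub_cancel] at h1
    obtain ⟨d, hd⟩ : ∃ d, Nat.card Δ = f + d := ⟨Nat.card Δ - f, by omega⟩
    rw [hd] at h1 hc
    rw [hd]
    -- f + d + m f = c (m+1)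
    have h3 : (m + 1) * f + d = (m + 1) * c := by nlinarith
    have h4 : (m + 1) ∣ d := (Nat.dvd_add_right ⟨f, rfl⟩).1 ⟨c, h3⟩
    rcases Nat.eq_zero_or_pos d with h5 | h5
    · rw [h5]; rfl
    · have := Nat.le_of_dvd h5 h4
      omega
  intro e he d
  by_cases he1 : (⟨e, he⟩ : E) = 1
  · have : e = 1 := congrArg Subtype.val he1
    rw [this, one_smul]
  · have h3 := hfe ⟨e, he⟩ he1
    rw [← h2, Nat.card_eq_fintype_card] at h3
    have h4 : MulAction.fixedBy Δ (⟨e, he⟩ : E) = Set.univ := by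
      rw [← Set.toFinset_card] at h3
      rw [← Set.toFinset_inj, Set.toFinset_univ]
      exact Finset.eq_univ_of_card _ h3
    have h5 : d ∈ MulAction.fixedBy Δ (⟨e, he⟩ : E) := by rw [h4]; trivial
    exact h5

/-- a nontrivial normal subgroup of a `p`-group contains a nontrivial central element -/
theorem exists_central {G : Type*} [Group G] [Finite G] {p : ℕ} [Fact p.Prime] (hG : IsPGroup p G) (N : Subgroup G)
    [N.Normal] (hN : N ≠ ⊥) : ∃ b ∈ N, b ≠ 1 ∧ ∀ g : G, g * b = b * g := by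
  have hp : IsPGroup p (ConjAct G) := hG
  have h1 : p ∣ Nat.card N := by
    obtain ⟨k, hk⟩ := IsPGroup.iff_card.1 (hG.to_subgroup N)
    rw [hk]
    refine dvd_pow_self p ?_
    rintro rfl
    rw [pow_zero] at hk
    exact hN (Subgroup.card_eq_one.1 hk)
  obtain ⟨b, hb, hb1⟩ := hp.exists_fixed_point_of_prime_dvd_card_of_fixed_point N h1 (a := 1)
    (fun g => smul_one g)
  refine ⟨b, b.2, fun h => hb1 (Subtype.ext h.symm), fun g => ?_⟩
  have h2 := congrArg Subtype.val (hb (ConjAct.toConjAct g))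
  rw [ConjAct.Subgroup.val_conj_smul, ConjAct.toConjAct_smul] at h2
  exact mul_inv_eq_iff_eq_mul.1 h2

theorem exists_comm_mem {G : Type*} [Group G] [Finite G] {p : ℕ} [Fact p.Prime] {U F Z : Subgroup G}
    (hU : IsPGroup p U) (hFU : F ≤ U) (hUF : U ≤ Subgroup.normalizer (F : Set G))
    (hUZ : U ≤ Subgroup.normalizer (Z : Set G)) (hZU : Z ≤ U) (hne : ∃ y ∈ F, y ∉ Z) :
    ∃ y ∈ F, y ∉ Z ∧ ∀ u ∈ U, ⁅y, u⁆ ∈ Z := by
  have hZn : (Z.subgroupOf U).Normal := ⟨fun g hg k => by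
    rw [Subgroup.mem_subgroupOf] at hg ⊢
    exact (Subgroup.mem_normalizer_iff.1 (hUZ k.2) _).1 hg⟩
  have hFn : (F.subgroupOf U).Normal := ⟨fun g hg k => by
    rw [Subgroup.mem_subgroupOf] at hg ⊢
    exact (Subgroup.mem_normalizer_iff.1 (hUF k.2) _).1 hg⟩
  set π := QuotientGroup.mk' (Z.subgroupOf U) with hπ
  have hN : ((F.subgroupOf U).map π).Normal := hFn.map π (QuotientGroup.mk'_surjective _)
  have hmem : ∀ y : U, π y = 1 ↔ (y : G) ∈ Z := by
    intro y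
    rw [hπ, QuotientGroup.mk'_apply, QuotientGroup.eq_one_iff, Subgroup.mem_subgroupOf]
  obtain ⟨b, hb, hb1, hc⟩ := exists_central (hU.to_quotient (Z.subgroupOf U)) ((F.subgroupOf U).map π) (by
    obtain ⟨y, hy, hyZ⟩ := hne
    intro h1
    have h2 : π ⟨y, hFU hy⟩ ∈ (F.subgroupOf U).map π :=
      Subgroup.mem_map_of_mem π (Subgroup.mem_subgroupOf.2 hy)
    rw [h1, Subgroup.mem_bot, hmem] at h2
    exact hyZ h2)
  obtain ⟨y, hy, rfl⟩ := hb
  refine ⟨y, Subgroup.mem_subgroupOf.1 hy, fun h1 => hb1 ((hmem y).2 h1), fun u hu => ?_⟩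
  have h1 := hc (π ⟨u, hu⟩)
  have h2 : π ⁅y, (⟨u, hu⟩ : U)⁆ = 1 := by
    rw [map_commutatorElement, commutatorElement_eq_one_iff_mul_comm]
    exact h1.symm
  exact (hmem _).1 h2

end Abs

variable {I W Y : Type*} [Fintype I] [DecidableEq I] [Group W] [Group Y] {M : CoxeterMatrix I}
  {cs : CoxeterSystem M W} {A : I → I → ℤ} {h : IsCartan M A} {p : ℕ} {T : Subgroup Y} {n : I → Y}
  {X : (I → ℤ) → Subgroup Y}

/-- the nontrivial elements of a line are conjugate under `⟨T, X x, X (-x)⟩` -/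
theorem conj_line (R : RGD cs h p T n X) [Finite W] {x y : I → ℤ} (hA : A2 cs h x y) {P : Subgroup Y} (hT : T ≤ P)
    (hx : X x ≤ P) (hx' : X (-x) ≤ P) {v₀ : Y} (hv₀ : v₀ ∈ X y) (hv₀1 : v₀ ≠ 1) {e : Y}
    (he : e ∈ X (x + y) ⊔ X y) (he1 : e ≠ 1) : ∃ g ∈ P, g * v₀ * g⁻¹ = e := by
  have hXY : ∀ v ∈ X y, v ≠ 1 → ∃ g ∈ P, g * v₀ * g⁻¹ = v := by
    intro v hv hv1
    obtain ⟨t, ht, e⟩ := hA.tor_trans R hv₀ hv₀1 hv hv1
    exact ⟨t, hT (Subgroup.mem_inf.1 ht).1, e⟩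
  obtain ⟨w, hw, v, hv, rfl⟩ := (mem_line R hA).1 he
  by_cases hv1 : v = 1
  · subst hv1
    rw [mul_one] at he1 ⊢
    obtain ⟨a, ha, ha1⟩ : ∃ a ∈ X x, a ≠ 1 := by
      have := X_ne_bot R hA.rx
      rw [Subgroup.ne_bot_iff_exists_ne_one] at this
      obtain ⟨⟨a, ha⟩, h1⟩ := this
      exact ⟨a, ha, fun h2 => h1 (Subtype.ext h2)⟩
    obtain ⟨s, -, m, hm, -, hc⟩ := hA.exists_mu' R ha ha1
    obtain ⟨v, hv, hvw⟩ := hA.comm_surj R ha ha1 hw
    have hv1 : v ≠ 1 := by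
      rintro rfl
      apply he1
      rw [← hvw, commutatorElement_one_right]
    obtain ⟨g, hg, e⟩ := hXY v hv hv1
    refine ⟨m * g, mul_mem ((sup_le hx hx') hm) hg, ?_⟩
    rw [← hvw, hc v hv, ← e]; group
  · obtain ⟨u, hu, e'⟩ := exists_conj_of_mem R hA hw hv hv1
    obtain ⟨g, hg, e⟩ := hXY v hv hv1
    refine ⟨u * g, mul_mem (hx hu) hg, ?_⟩
    rw [e', ← e]; group

/-- **Small index.** -/
theorem X_le_of_index (R : RGD cs h p T n X) [Finite W] [Finite Y] {P K : Subgroup Y} (hT : T ≤ P) (hKP : K ≤ P)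
    {x y : I → ℤ} (hA : A2 cs h x y) (hx : X x ≤ P) (hx' : X (-x) ≤ P) (hy : X y ≤ P)
    (hK : K.relIndex P < Nat.card (X (x + y)) * Nat.card (X y)) : X (x + y) ≤ K := by
  have hxy : X (x + y) ≤ P := by
    obtain ⟨a, ha, ha1⟩ : ∃ a ∈ X x, a ≠ 1 := by
      have := X_ne_bot R hA.rx
      rw [Subgroup.ne_bot_iff_exists_ne_one] at this
      obtain ⟨⟨a, ha⟩, h1⟩ := this
      exact ⟨a, ha, fun h2 => h1 (Subtype.ext h2)⟩
    intro w hw
    obtain ⟨v, hv, rfl⟩ := hA.comm_surj R ha ha1 hw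
    rw [commutatorElement_def]
    exact mul_mem (mul_mem (mul_mem (hx ha) (hy hv)) (inv_mem (hx ha))) (inv_mem (hy hv))
  have hEP : X (x + y) ⊔ X y ≤ P := sup_le hxy hy
  obtain ⟨v₀, hv₀, hv₀1⟩ : ∃ a ∈ X y, a ≠ 1 := by
    have := X_ne_bot R hA.ry
    rw [Subgroup.ne_bot_iff_exists_ne_one] at this
    obtain ⟨⟨a, ha⟩, h1⟩ := this
    exact ⟨a, ha, fun h2 => h1 (Subtype.ext h2)⟩
  have h1 := fixes_all (G := P) (Δ := ↥P ⧸ K.subgroupOf P) ((X (x + y) ⊔ X y).subgroupOf P) ⟨v₀, hy hv₀⟩ (by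
    rintro ⟨e, heP⟩ he he1
    rw [Subgroup.mem_subgroupOf] at he
    obtain ⟨g, hg, e'⟩ := conj_line R hA hT hx hx' hv₀ hv₀1 he (fun h2 => he1 (Subtype.ext h2))
    exact ⟨⟨g, hg⟩, Subtype.ext e'⟩) (by
    rw [Nat.card_congr (Subgroup.subgroupOfEquivOfLe hEP).toEquiv, card_line R hA]
    exact hK)
  intro w hw
  have h2 := h1 ⟨w, hxy hw⟩ (Subgroup.mem_subgroupOf.2 (Subgroup.mem_sup_left hw))
    (QuotientGroup.mk (1 : P))
  have h3 : (QuotientGroup.mk ((⟨w, hxy hw⟩ : P) * 1) : ↥P ⧸ K.subgroupOf P) = QuotientGroup.mk (1 : P) := h2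
  rw [mul_one, eq_comm, QuotientGroup.eq, inv_one, one_mul, Subgroup.mem_subgroupOf] at h3
  exact h3

end Cfsg.Agent.H400.TwoExc
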